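import Groth.Prelude.Def_AlgSp4

/-!
# Algebraic spaces, kit part 1: testing on schemes, gluing, coverings

Everything is phrased with morphisms `(yon S).obj T ⟶ F` from schemes over `S`.
-/

set_option autoImplicit false
universe u

open CategoryTheory CategoryTheory.Limits AlgebraicGeometry Opposite

namespace K613.Basic

open AlgSp

variable {S : Scheme.{u}} {F G H P : Sp S}

theorem hom_ext {f g : F ⟶ G} (h : ∀ (T : Over S) (x : (yon S).obj T ⟶ F), x ≫ f = x ≫ g) : f = g :=
  GrothendieckTopology.hom_ext_uliftYoneda _ h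

/-- A morphism of sheaves is an isomorphism as soon as it is bijective on maps from schemes. -/
theorem isIso_of_bijective {f : F ⟶ G}
    (h : ∀ (T : Over S) (y : (yon S).obj T ⟶ G), ∃! x : (yon S).obj T ⟶ F, x ≫ f = y) : IsIso f := by
  have key : ∀ T : (Over S)ᵒᵖ, IsIso (f.hom.app T) := by
    intro T
    rw [isIso_iff_bijective]
    obtain ⟨T⟩ := T
    constructor
    · intro a b hab
      obtain ⟨x, -, hx⟩ := h T ((J S).uliftYonedaEquiv.symm (f.hom.app (op T) a))
      have ha := hx ((J S).uliftYonedaEquiv.symm a) (by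
        dsimp only
        rw [GrothendieckTopology.uliftYonedaEquiv_symm_naturality_right])
      have hb := hx ((J S).uliftYonedaEquiv.symm b) (by
        dsimp only
        rw [GrothendieckTopology.uliftYonedaEquiv_symm_naturality_right]
        exact congrArg _ hab.symm)
      exact (J S).uliftYonedaEquiv.symm.injective (ha.trans hb.symm)
    · intro b
      obtain ⟨x, hx, -⟩ := h T ((J S).uliftYonedaEquiv.symm b)
      refine ⟨(J S).uliftYonedaEquiv x, ?_⟩
      rw [← GrothendieckTopology.uliftYonedaEquiv_comp, hx, Equiv.apply_symm_apply]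
  have : IsIso ((sheafToPresheaf _ _).map f) := by
    have : ∀ T, IsIso (((sheafToPresheaf _ _).map f).app T) := key
    exact NatIso.isIso_of_isIso_app _
  exact isIso_of_reflects_iso f (sheafToPresheaf _ _)

theorem mono_of_injective {f : F ⟶ G}
    (h : ∀ (T : Over S) (x y : (yon S).obj T ⟶ F), x ≫ f = y ≫ f → x = y) : Mono f :=
  ⟨fun a b hab => hom_ext fun T x => h T _ _ (by rw [Category.assoc, Category.assoc, hab])⟩

/-- A square of sheaves is a pullback as soon as it has the universal property for schemes. -/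
theorem isPullback_of_yon {f : F ⟶ G} {g : H ⟶ G} {fst : P ⟶ F} {snd : P ⟶ H} (w : fst ≫ f = snd ≫ g)
    (h : ∀ (T : Over S) (a : (yon S).obj T ⟶ F) (b : (yon S).obj T ⟶ H), a ≫ f = b ≫ g →
      ∃! c : (yon S).obj T ⟶ P, c ≫ fst = a ∧ c ≫ snd = b) : IsPullback fst snd f g := by
  have hi : IsIso (pullback.lift fst snd w) := by
    refine isIso_of_bijective fun T y => ?_
    obtain ⟨c, ⟨hc1, hc2⟩, hc⟩ := h T (y ≫ pullback.fst f g) (y ≫ pullback.snd f g) (by
      rw [Category.assoc, Category.assoc, pullback.condition])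
    refine ⟨c, ?_, fun c' hc' => hc c' ⟨?_, ?_⟩⟩
    · apply pullback.hom_ext
      · rw [Category.assoc, pullback.lift_fst, hc1]
      · rw [Category.assoc, pullback.lift_snd, hc2]
    · rw [← hc', Category.assoc, pullback.lift_fst]
    · rw [← hc', Category.assoc, pullback.lift_snd]
  exact IsPullback.of_iso_pullback ⟨w⟩ (asIso (pullback.lift fst snd w)) (pullback.lift_fst _ _ _)
    (pullback.lift_snd _ _ _)

theorem mem_J {T : Over S} {ι : Type u} (T' : ι → Over S) (c : ∀ i, T' i ⟶ T) (hf : ∀ i, Flat (c i).left)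
    (hp : ∀ i, LocallyOfFinitePresentation (c i).left)
    (hs : ∀ t : T.left, ∃ (i : ι) (t' : (T' i).left), (c i).left t' = t) : Sieve.ofArrows T' c ∈ J S T := by
  rw [AlgSp.J_eq, GrothendieckTopology.mem_over_iff, Sieve.overEquiv_ofArrows]
  refine Precoverage.generate_mem_toGrothendieck ?_
  rw [Scheme.fppfPrecoverage, Scheme.ofArrows_mem_precoverage_iff]
  exact ⟨fun t => hs t, fun i => ⟨hf i, hp i⟩⟩

/-- Gluing a section of a sheaf along an fppf covering family. -/
theorem glueFam {T : Over S} {ι : Type u} (T' : ι → Over S) (c : ∀ i, T' i ⟶ T) (hf : ∀ i, Flat (c i).left)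
    (hp : ∀ i, LocallyOfFinitePresentation (c i).left)
    (hs : ∀ t : T.left, ∃ (i : ι) (t' : (T' i).left), (c i).left t' = t)
    (x : ∀ i, (yon S).obj (T' i) ⟶ F)
    (hx : ∀ (i j : ι) (R : Over S) (a : R ⟶ T' i) (b : R ⟶ T' j), a ≫ c i = b ≫ c j →
      (yon S).map a ≫ x i = (yon S).map b ≫ x j) :
    ∃! y : (yon S).obj T ⟶ F, ∀ i, (yon S).map (c i) ≫ y = x i := by
  have h1 : Presieve.IsSheafFor F.obj (Presieve.ofArrows T' c) := by
    have h2 : Presieve.IsSheaf (J S) F.obj := (isSheaf_iff_isSheaf_of_type _ _).1 F.property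
    rw [Presieve.isSheafFor_iff_generate]
    exact h2 _ (mem_J T' c hf hp hs)
  rw [Presieve.isSheafFor_arrows_iff] at h1
  obtain ⟨y, hy, hy'⟩ := h1 (fun i => (J S).uliftYonedaEquiv (x i)) (fun i j R a b hab => by
    rw [GrothendieckTopology.uliftYonedaEquiv_naturality, GrothendieckTopology.uliftYonedaEquiv_naturality]
    exact congrArg _ (hx i j R a b hab))
  refine ⟨(J S).uliftYonedaEquiv.symm y, fun i => ?_, fun z hz => ?_⟩
  · rw [GrothendieckTopology.uliftYonedaEquiv_symm_naturality_left, hy i, Equiv.symm_apply_apply]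
  · rw [Equiv.eq_symm_apply]
    refine hy' _ fun i => ?_
    rw [GrothendieckTopology.uliftYonedaEquiv_naturality]
    exact congrArg _ (hz i)

/-- Gluing along a single fppf covering. -/
theorem glue {T T' : Over S} (c : T' ⟶ T) (hf : Flat c.left) (hp : LocallyOfFinitePresentation c.left)
    (hs : Surjective c.left) (x : (yon S).obj T' ⟶ F)
    (hx : ∀ (R : Over S) (a b : R ⟶ T'), a ≫ c = b ≫ c → (yon S).map a ≫ x = (yon S).map b ≫ x) :
    ∃! y : (yon S).obj T ⟶ F, (yon S).map c ≫ y = x := by
  obtain ⟨y, hy, hy'⟩ := glueFam (ι := PUnit.{u + 1}) (fun _ => T') (fun _ => c) (fun _ => hf) (fun _ => hp)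
    (fun t => ⟨PUnit.unit, hs.surj t⟩) (fun _ => x) (fun _ _ R a b h => hx R a b h)
  exact ⟨y, hy PUnit.unit, fun z hz => hy' z fun _ => hz⟩

theorem epi_yon {T T' : Over S} (c : T' ⟶ T) (hf : Flat c.left) (hp : LocallyOfFinitePresentation c.left)
    (hs : Surjective c.left) : Epi ((yon S).map c) := by
  refine ⟨fun {Z} a b hab => ?_⟩
  obtain ⟨y, -, hy'⟩ := glue (F := Z) c hf hp hs ((yon S).map c ≫ a) (fun R r r' h => by
    rw [← Category.assoc, ← Category.assoc, ← Functor.map_comp, ← Functor.map_comp, h])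
  exact (hy' a rfl).trans (hy' b hab.symm).symm

end K613.Basic
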