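import Groth.Agent.AlgSp.K613.Basic
import Mathlib.AlgebraicGeometry.Morphisms.FlatDescent

/-!
# Algebraic spaces, kit part 2: (étale, fppf) locally surjective maps of sheaves and descent along them
-/

set_option autoImplicit false
universe u

open CategoryTheory CategoryTheory.Limits AlgebraicGeometry Opposite

namespace K613.Cover

open AlgSp K613.Basic

variable {S : Scheme.{u}} {F G H P Q : Sp S}

/-- `c` is a surjective etale morphism of schemes over `S`. -/
structure EtC {T T' : Over S} (c : T' ⟶ T) : Prop where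
  etale : Etale c.left
  surj : Surjective c.left

/-- `c` is a surjective flat locally finitely presented morphism of schemes over `S`. -/
structure FpC {T T' : Over S} (c : T' ⟶ T) : Prop where
  flat : Flat c.left
  lfp : LocallyOfFinitePresentation c.left
  surj : Surjective c.left

theorem EtC.fpC {T T' : Over S} {c : T' ⟶ T} (h : EtC c) : FpC c :=
  have := h.etale
  ⟨inferInstance, inferInstance, h.surj⟩

theorem EtC.comp {T T' T'' : Over S} {c : T' ⟶ T} {d : T'' ⟶ T'} (h : EtC c) (h' : EtC d) : EtC (d ≫ c) := by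
  have := h.etale; have := h.surj; have := h'.etale; have := h'.surj
  exact ⟨inferInstanceAs (Etale (d.left ≫ c.left)), inferInstanceAs (Surjective (d.left ≫ c.left))⟩

theorem FpC.comp {T T' T'' : Over S} {c : T' ⟶ T} {d : T'' ⟶ T'} (h : FpC c) (h' : FpC d) : FpC (d ≫ c) := by
  have := h.flat; have := h.lfp; have := h.surj; have := h'.flat; have := h'.lfp; have := h'.surj
  exact ⟨inferInstanceAs (Flat (d.left ≫ c.left)), inferInstanceAs (LocallyOfFinitePresentation (d.left ≫ c.left)),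
    inferInstanceAs (Surjective (d.left ≫ c.left))⟩

theorem EtC.id (T : Over S) : EtC (𝟙 T) :=
  ⟨inferInstanceAs (Etale (𝟙 T.left)), inferInstanceAs (Surjective (𝟙 T.left))⟩

theorem EtC.of_isPullback {T T' Z Z' : Over S} {c : T' ⟶ T} {d : Z' ⟶ Z} {a : Z' ⟶ T'} {b : Z ⟶ T}
    (sq : IsPullback a d c b) (h : EtC c) : EtC d := by
  have := h.etale; have := h.surj
  have sq' := sq.map (Over.forget S)
  exact ⟨MorphismProperty.of_isPullback (P := @Etale) sq' ‹_›,
    MorphismProperty.of_isPullback (P := @Surjective) sq' ‹_›⟩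

theorem FpC.of_isPullback {T T' Z Z' : Over S} {c : T' ⟶ T} {d : Z' ⟶ Z} {a : Z' ⟶ T'} {b : Z ⟶ T}
    (sq : IsPullback a d c b) (h : FpC c) : FpC d := by
  have := h.flat; have := h.lfp; have := h.surj
  have sq' := sq.map (Over.forget S)
  exact ⟨MorphismProperty.of_isPullback (P := @Flat) sq' ‹_›,
    MorphismProperty.of_isPullback (P := @LocallyOfFinitePresentation) sq' ‹_›,
    MorphismProperty.of_isPullback (P := @Surjective) sq' ‹_›⟩

/-- `b : H ⟶ G` is surjective étale locally. -/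
def ESurj (b : H ⟶ G) : Prop :=
  ∀ (T : Over S) (g : (yon S).obj T ⟶ G), ∃ (T' : Over S) (c : T' ⟶ T) (h : (yon S).obj T' ⟶ H),
    EtC c ∧ h ≫ b = (yon S).map c ≫ g

/-- `b : H ⟶ G` is surjective fppf locally. -/
def FSurj (b : H ⟶ G) : Prop :=
  ∀ (T : Over S) (g : (yon S).obj T ⟶ G), ∃ (T' : Over S) (c : T' ⟶ T) (h : (yon S).obj T' ⟶ H),
    FpC c ∧ h ≫ b = (yon S).map c ≫ g

theorem ESurj.fSurj {b : H ⟶ G} (h : ESurj b) : FSurj b := fun T g => by
  obtain ⟨T', c, x, hc, hx⟩ := h T g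
  exact ⟨T', c, x, hc.fpC, hx⟩

theorem FpC.glue {T T' : Over S} {c : T' ⟶ T} (h : FpC c) (x : (yon S).obj T' ⟶ F)
    (hx : ∀ (R : Over S) (a b : R ⟶ T'), a ≫ c = b ≫ c → (yon S).map a ≫ x = (yon S).map b ≫ x) :
    ∃! y : (yon S).obj T ⟶ F, (yon S).map c ≫ y = x := Basic.glue c h.flat h.lfp h.surj x hx

theorem FpC.epi {T T' : Over S} {c : T' ⟶ T} (h : FpC c) : Epi ((yon S).map c) :=
  Basic.epi_yon c h.flat h.lfp h.surj

/-- A representable étale surjective map is étale locally surjective. -/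
theorem ESurj.of_repWith {b : H ⟶ G} (h₁ : RepWith @Etale b) (h₂ : RepWith @Surjective b) : ESurj b := by
  intro T g
  obtain ⟨V, snd, fst, sq⟩ := h₁.1 g
  exact ⟨V, snd, fst, ⟨h₁.2 g fst snd sq, h₂.2 g fst snd sq⟩, sq.w⟩

theorem FSurj.of_repWith {b : H ⟶ G} (h₁ : RepWith @Flat b) (h₂ : RepWith @LocallyOfFinitePresentation b)
    (h₃ : RepWith @Surjective b) : FSurj b := by
  intro T g
  obtain ⟨V, snd, fst, sq⟩ := h₁.1 g
  exact ⟨V, snd, fst, ⟨h₁.2 g fst snd sq, h₂.2 g fst snd sq, h₃.2 g fst snd sq⟩, sq.w⟩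

theorem ESurj.comp {b : H ⟶ G} {b' : Q ⟶ H} (h : ESurj b) (h' : ESurj b') : ESurj (b' ≫ b) := by
  intro T g
  obtain ⟨T', c, x, hc, hx⟩ := h T g
  obtain ⟨T'', c', x', hc', hx'⟩ := h' T' x
  exact ⟨T'', c' ≫ c, x', hc.comp hc', by
    rw [← Category.assoc, hx', Category.assoc, hx, Functor.map_comp, Category.assoc]⟩

theorem FSurj.comp {b : H ⟶ G} {b' : Q ⟶ H} (h : FSurj b) (h' : FSurj b') : FSurj (b' ≫ b) := by
  intro T g
  obtain ⟨T', c, x, hc, hx⟩ := h T g
  obtain ⟨T'', c', x', hc', hx'⟩ := h' T' x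
  exact ⟨T'', c' ≫ c, x', hc.comp hc', by
    rw [← Category.assoc, hx', Category.assoc, hx, Functor.map_comp, Category.assoc]⟩

theorem ESurj.of_isPullback {b : H ⟶ G} (h : ESurj b) {a : F ⟶ G} {b' : P ⟶ F} {a' : P ⟶ H}
    (sq : IsPullback a' b' b a) : ESurj b' := by
  intro T g
  obtain ⟨T', c, x, hc, hx⟩ := h T (g ≫ a)
  rw [← Category.assoc] at hx
  exact ⟨T', c, sq.lift x ((yon S).map c ≫ g) hx, hc, sq.lift_snd _ _ _⟩

theorem FSurj.of_isPullback {b : H ⟶ G} (h : FSurj b) {a : F ⟶ G} {b' : P ⟶ F} {a' : P ⟶ H}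
    (sq : IsPullback a' b' b a) : FSurj b' := by
  intro T g
  obtain ⟨T', c, x, hc, hx⟩ := h T (g ≫ a)
  rw [← Category.assoc] at hx
  exact ⟨T', c, sq.lift x ((yon S).map c ≫ g) hx, hc, sq.lift_snd _ _ _⟩

theorem ESurj.of_comp {b : H ⟶ G} {b' : Q ⟶ H} (h : ESurj (b' ≫ b)) : ESurj b := by
  intro T g
  obtain ⟨T', c, x, hc, hx⟩ := h T g
  exact ⟨T', c, x ≫ b', hc, by rw [Category.assoc, hx]⟩

theorem FSurj.of_comp {b : H ⟶ G} {b' : Q ⟶ H} (h : FSurj (b' ≫ b)) : FSurj b := by
  intro T g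
  obtain ⟨T', c, x, hc, hx⟩ := h T g
  exact ⟨T', c, x ≫ b', hc, by rw [Category.assoc, hx]⟩

theorem ESurj.of_isIso (b : H ⟶ G) [IsIso b] : ESurj b := fun T g =>
  ⟨T, 𝟙 T, g ≫ inv b, EtC.id T, by rw [Category.assoc, IsIso.inv_hom_id, Category.comp_id,
    CategoryTheory.Functor.map_id, Category.id_comp]⟩

theorem EtC.eSurj {T T' : Over S} {c : T' ⟶ T} (h : EtC c) : ESurj ((yon S).map c) :=
  ESurj.of_repWith ((repWith_yon_map_iff _ _).2 h.etale) ((repWith_yon_map_iff _ _).2 h.surj)

theorem FpC.fSurj {T T' : Over S} {c : T' ⟶ T} (h : FpC c) : FSurj ((yon S).map c) :=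
  FSurj.of_repWith ((repWith_yon_map_iff _ _).2 h.flat) ((repWith_yon_map_iff _ _).2 h.lfp)
    ((repWith_yon_map_iff _ _).2 h.surj)

theorem FSurj.epi {b : H ⟶ G} (h : FSurj b) : Epi b := by
  refine ⟨fun {Z} x y hxy => hom_ext fun T g => ?_⟩
  obtain ⟨T', c, z, hc, hz⟩ := h T g
  have := hc.epi
  rw [← cancel_epi ((yon S).map c), ← Category.assoc, ← Category.assoc, ← hz, Category.assoc, Category.assoc, hxy]

/-- Maps out of the target of an fppf locally surjective map of sheaves can be constructed on the source. -/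
theorem FSurj.desc {b : H ⟶ G} (h : FSurj b) (x : H ⟶ F)
    (hx : ∀ (R : Over S) (u v : (yon S).obj R ⟶ H), u ≫ b = v ≫ b → u ≫ x = v ≫ x) :
    ∃! y : G ⟶ F, b ≫ y = x := by
  have hepi := h.epi
  -- the value on a map from a scheme
  have key : ∀ (T : Over S) (g : (yon S).obj T ⟶ G), ∃! y : (yon S).obj T ⟶ F,
      ∀ (R : Over S) (r : R ⟶ T) (u : (yon S).obj R ⟶ H), u ≫ b = (yon S).map r ≫ g →
        (yon S).map r ≫ y = u ≫ x := by
    intro T g
    obtain ⟨T', c, z, hc, hz⟩ := h T g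
    obtain ⟨y, hy, hy'⟩ := hc.glue (z ≫ x) (fun R p q hpq => by
      rw [← Category.assoc, ← Category.assoc]
      refine hx R _ _ ?_
      rw [Category.assoc, Category.assoc, hz, ← Category.assoc, ← Category.assoc, ← Functor.map_comp,
        ← Functor.map_comp, hpq])
    refine ⟨y, fun R r u hu => ?_, fun y' h' => hy' y' (h' T' c z hz)⟩
    have h1 : FpC (pullback.fst r c) := hc.of_isPullback (IsPullback.of_hasPullback r c).flip
    have := h1.epi
    rw [← cancel_epi ((yon S).map (pullback.fst r c)), ← Category.assoc, ← Functor.map_comp, pullback.condition,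
      Functor.map_comp, Category.assoc, hy, ← Category.assoc, ← Category.assoc]
    refine hx _ _ _ ?_
    rw [Category.assoc, Category.assoc, hz, hu, ← Category.assoc, ← Category.assoc, ← Functor.map_comp,
      ← Functor.map_comp, pullback.condition]
  choose φ hφ hφ' using key
  have hnat : ∀ (T T' : Over S) (t : T' ⟶ T) (g : (yon S).obj T ⟶ G), φ T' ((yon S).map t ≫ g) = (yon S).map t ≫ φ T g := by
    intro T T' t g
    symm
    refine hφ' T' _ _ fun R r u hu => ?_
    rw [← Category.assoc, ← Functor.map_comp]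
    exact hφ T g R (r ≫ t) u (by rw [hu, Functor.map_comp, Category.assoc])
  let y : G ⟶ F := ⟨{
    app := fun T => ↾fun s => (J S).uliftYonedaEquiv (φ T.unop ((J S).uliftYonedaEquiv.symm s))
    naturality := fun {T T'} t => by
      refine ConcreteCategory.hom_ext _ _ fun s => ?_
      change (J S).uliftYonedaEquiv (φ T'.unop ((J S).uliftYonedaEquiv.symm (G.obj.map t s))) =
        F.obj.map t ((J S).uliftYonedaEquiv (φ T.unop ((J S).uliftYonedaEquiv.symm s)))
      have h1 : (J S).uliftYonedaEquiv.symm (G.obj.map t s) = (yon S).map t.unop ≫ (J S).uliftYonedaEquiv.symm s :=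
        GrothendieckTopology.uliftYonedaEquiv_symm_map.{u + 1} (J := J S) t s
      rw [h1, hnat]
      exact (GrothendieckTopology.uliftYonedaEquiv_naturality'.{u + 1} (J := J S) _ t).symm }⟩
  have hy : ∀ (T : Over S) (g : (yon S).obj T ⟶ G), g ≫ y = φ T g := by
    intro T g
    apply (J S).uliftYonedaEquiv.injective
    rw [GrothendieckTopology.uliftYonedaEquiv_comp]
    change (J S).uliftYonedaEquiv (φ T ((J S).uliftYonedaEquiv.symm ((J S).uliftYonedaEquiv g))) = _
    rw [Equiv.symm_apply_apply]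
  refine ⟨y, ?_, fun y' hy' => ?_⟩
  · refine hom_ext fun T u => ?_
    rw [← Category.assoc, hy]
    have := hφ T (u ≫ b) T (𝟙 T) u (by rw [CategoryTheory.Functor.map_id, Category.id_comp])
    rwa [CategoryTheory.Functor.map_id, Category.id_comp] at this
  · rw [← cancel_epi b]
    dsimp only at hy'
    rw [hy']
    symm
    refine hom_ext fun T u => ?_
    rw [← Category.assoc, hy]
    have := hφ T (u ≫ b) T (𝟙 T) u (by rw [CategoryTheory.Functor.map_id, Category.id_comp])
    rwa [CategoryTheory.Functor.map_id, Category.id_comp] at this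

/-- Being an isomorphism descends along fppf locally surjective maps. -/
theorem FSurj.isIso {b : H ⟶ G} (h : FSurj b) {a : F ⟶ G} {b' : P ⟶ F} {a' : P ⟶ H}
    (sq : IsPullback b' a' a b) [IsIso a'] : IsIso a := by
  refine isIso_of_bijective fun T g => ?_
  obtain ⟨T', c, z, hc, hz⟩ := h T g
  have hinj : ∀ (R : Over S) (u v : (yon S).obj R ⟶ F), u ≫ a = v ≫ a → u = v := by
    intro R u v huv
    obtain ⟨R', d, w, hd, hw⟩ := h R (u ≫ a)
    have := hd.epi
    rw [← cancel_epi ((yon S).map d)]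
    have h1 : ((yon S).map d ≫ u) ≫ a = w ≫ b := by rw [Category.assoc, hw]
    have h2 : ((yon S).map d ≫ v) ≫ a = w ≫ b := by rw [Category.assoc, ← huv, hw]
    have h3 : sq.lift _ _ h1 = sq.lift _ _ h2 := by
      rw [← cancel_mono a', sq.lift_snd, sq.lift_snd]
    rw [← sq.lift_fst _ _ h1, h3, sq.lift_fst]
  obtain ⟨x, hx, -⟩ := hc.glue (z ≫ inv a' ≫ b') (fun R p q hpq => by
    apply hinj
    have : (z ≫ inv a' ≫ b') ≫ a = (yon S).map c ≫ g := by
      rw [Category.assoc, Category.assoc, sq.w, IsIso.inv_hom_id_assoc, hz]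
    rw [Category.assoc, this, Category.assoc, this, ← Category.assoc, ← Category.assoc, ← Functor.map_comp,
      ← Functor.map_comp, hpq])
  refine ⟨x, ?_, fun x' hx' => ?_⟩
  · have := hc.epi
    dsimp only
    rw [← cancel_epi ((yon S).map c), ← Category.assoc, hx, Category.assoc, Category.assoc, sq.w, IsIso.inv_hom_id_assoc, hz]
  · apply hinj
    dsimp only at hx'
    rw [hx']
    have := hc.epi
    rw [← cancel_epi ((yon S).map c), ← Category.assoc, hx, Category.assoc, Category.assoc, sq.w,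
      IsIso.inv_hom_id_assoc, hz]

/-- Being a monomorphism descends along fppf locally surjective maps. -/
theorem FSurj.mono {b : H ⟶ G} (h : FSurj b) {a : F ⟶ G} {b' : P ⟶ F} {a' : P ⟶ H}
    (sq : IsPullback b' a' a b) [Mono a'] : Mono a := by
  refine mono_of_injective fun R u v huv => ?_
  obtain ⟨R', d, w, hd, hw⟩ := h R (u ≫ a)
  have := hd.epi
  rw [← cancel_epi ((yon S).map d)]
  have h1 : ((yon S).map d ≫ u) ≫ a = w ≫ b := by rw [Category.assoc, hw]
  have h2 : ((yon S).map d ≫ v) ≫ a = w ≫ b := by rw [Category.assoc, ← huv, hw]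
  have h3 : sq.lift _ _ h1 = sq.lift _ _ h2 := by
    rw [← cancel_mono a', sq.lift_snd, sq.lift_snd]
  rw [← sq.lift_fst _ _ h1, h3, sq.lift_fst]

/-- A monomorphism which is fppf locally surjective is an isomorphism. -/
theorem FSurj.isIso_of_mono {b : H ⟶ G} (h : FSurj b) [Mono b] : IsIso b := by
  have : IsPullback (𝟙 H) (𝟙 H) b b := IsKernelPair.id_of_mono b
  exact h.isIso this

/-- The property of descending along surjective flat locally finitely presented morphisms of schemes. -/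
abbrev fppf : MorphismProperty Scheme.{u} := @Surjective ⊓ @Flat ⊓ @LocallyOfFinitePresentation

theorem FpC.mem {T T' : Over S} {c : T' ⟶ T} (h : FpC c) : fppf c.left := ⟨⟨h.surj, h.flat⟩, h.lfp⟩

/-- The represented pullbacks of a representable morphism inherit a property from a cover. -/
theorem prop_of_cover {Pr : MorphismProperty Scheme.{u}} [Pr.DescendsAlong fppf.{u}] [Pr.IsStableUnderBaseChange]
    {a : F ⟶ G} {T V : Over S} {g : (yon S).obj T ⟶ G} {fst : (yon S).obj V ⟶ F} {snd : V ⟶ T}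
    (sq : IsPullback fst ((yon S).map snd) a g) {T' : Over S} {c : T' ⟶ T} (hc : FpC c)
    {V' : Over S} {fst' : (yon S).obj V' ⟶ F} {snd' : V' ⟶ T'}
    (sq' : IsPullback fst' ((yon S).map snd') a ((yon S).map c ≫ g)) (h : Pr snd'.left) : Pr snd.left := by
  have hw : fst' ≫ a = (yon S).map (snd' ≫ c) ≫ g := by
    rw [sq'.w, Functor.map_comp, Category.assoc]
  obtain ⟨d, hd⟩ := (yon S).map_surjective (sq.lift fst' ((yon S).map (snd' ≫ c)) hw)
  have hd1 : (yon S).map d ≫ fst = fst' := by rw [hd, sq.lift_fst]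
  have hd2 : d ≫ snd = snd' ≫ c := by
    apply (yon S).map_injective
    rw [Functor.map_comp, hd, sq.lift_snd]
  have h1 : IsPullback ((yon S).map d) ((yon S).map snd') ((yon S).map snd) ((yon S).map c) :=
    IsPullback.of_right (by rw [hd1]; exact sq') (by rw [← Functor.map_comp, hd2, Functor.map_comp]) sq
  have h2 : IsPullback d snd' snd c := IsPullback.of_map (yon S) hd2 h1
  have h3 := h2.map (Over.forget S)
  exact MorphismProperty.of_isPullback_of_descendsAlong (P := Pr) (Q := fppf) h3.flip hc.mem h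

/-- Descent of a property of a representable morphism. -/
theorem FSurj.repWith {Pr : MorphismProperty Scheme.{u}} [Pr.DescendsAlong fppf.{u}] [Pr.IsStableUnderBaseChange]
    {b : H ⟶ G} (h : FSurj b) {a : F ⟶ G} {b' : P ⟶ F} {a' : P ⟶ H}
    (sq : IsPullback b' a' a b) (ha : Representable a) (ha' : RepWith Pr a') : RepWith Pr a := by
  refine ⟨ha, fun T V g fst snd sqV => ?_⟩
  obtain ⟨T', c, z, hc, hz⟩ := h T g
  obtain ⟨V', snd', fst', sq'⟩ := ha'.1 z
  have h1 := sq'.paste_horiz sq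
  rw [hz] at h1
  exact prop_of_cover sqV hc h1 (ha'.2 z fst' snd' sq')

end K613.Cover
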