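import Groth.Agent.AlgSp.K613.Chart
import Mathlib.AlgebraicGeometry.Morphisms.LocalFlatDescent

/-!
# Algebraic spaces, kit part 4: relative diagonals through equalizer loci, étale cancellation
-/

set_option autoImplicit false
universe u

open CategoryTheory CategoryTheory.Limits AlgebraicGeometry Opposite

namespace K613.Diag

open AlgSp K613.Basic K613.Cover K613.Chart

variable {S : Scheme.{u}} {F G H P Q X Y Z : Sp S}

/-- An equalizer locus gives a pullback of the relative diagonal. -/
theorem isPullback_diagonal {T : Over S} {a b : (yon S).obj T ⟶ X} {E : Over S} {e : E ⟶ T} (h : IsEq a b e)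
    (f : X ⟶ Y) (hab : a ≫ f = b ≫ f) :
    IsPullback ((yon S).map e ≫ a) ((yon S).map e) (pullback.diagonal f) (pullback.lift a b hab) := by
  have w0 : ((yon S).map e ≫ a) ≫ pullback.diagonal f = (yon S).map e ≫ pullback.lift a b hab := by
    apply pullback.hom_ext
    · simp [pullback.lift_fst]
    · simp [pullback.lift_snd, h.w]
  refine isPullback_of_yon w0 fun R x y hxy => ?_
  obtain ⟨r, rfl⟩ := (yon S).map_surjective y
  have h1 : x = (yon S).map r ≫ a := by
    have := congrArg (· ≫ pullback.fst _ _) hxy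
    simpa [pullback.lift_fst] using this
  have h2 : x = (yon S).map r ≫ b := by
    have := congrArg (· ≫ pullback.snd _ _) hxy
    simpa [pullback.lift_snd] using this
  obtain ⟨r', hr', hr''⟩ := h.lift R r (h1.symm.trans h2)
  refine ⟨(yon S).map r', ⟨?_, ?_⟩, ?_⟩
  · rw [← Category.assoc, ← Functor.map_comp, hr', h1]
  · rw [← Functor.map_comp, hr']
  · rintro z ⟨-, hz⟩
    obtain ⟨z, rfl⟩ := (yon S).map_surjective z
    rw [← Functor.map_comp] at hz
    rw [hr'' z ((yon S).map_injective hz)]

theorem isEq_of_isPullback_diagonal {T : Over S} {a b : (yon S).obj T ⟶ X} {E : Over S} {e : E ⟶ T}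
    {f : X ⟶ Y} {g : (yon S).obj T ⟶ pullback f f} {fst : (yon S).obj E ⟶ X}
    (sq : IsPullback fst ((yon S).map e) (pullback.diagonal f) g)
    (ha : g ≫ pullback.fst f f = a) (hb : g ≫ pullback.snd f f = b) : IsEq a b e := by
  have h1 : fst = (yon S).map e ≫ a := by
    have := congrArg (· ≫ pullback.fst _ _) sq.w
    simpa [ha] using this
  have h2 : fst = (yon S).map e ≫ b := by
    have := congrArg (· ≫ pullback.snd _ _) sq.w
    simpa [hb] using this
  refine ⟨h1.symm.trans h2, fun R r hr => ?_⟩
  have w : ((yon S).map r ≫ a) ≫ pullback.diagonal f = (yon S).map r ≫ g := by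
    apply pullback.hom_ext
    · simp [ha]
    · simp [hb, hr]
  obtain ⟨r', hr'⟩ := (yon S).map_surjective (sq.lift _ _ w)
  refine ⟨r', ?_, fun z hz => ?_⟩
  · apply (yon S).map_injective
    rw [Functor.map_comp, hr', sq.lift_snd]
  · apply (yon S).map_injective
    dsimp only at hz
    apply sq.hom_ext
    · rw [hr', sq.lift_fst, h1, ← Category.assoc, ← Functor.map_comp, hz]
    · rw [hr', sq.lift_snd, ← Functor.map_comp, hz]

/-- The relative diagonal of `f` is representable iff the relevant equalizer loci are schemes. -/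
theorem representable_diagonal_iff (f : X ⟶ Y) : Representable (pullback.diagonal f) ↔
    ∀ (T : Over S) (a b : (yon S).obj T ⟶ X), a ≫ f = b ≫ f → ∃ (E : Over S) (e : E ⟶ T), IsEq a b e := by
  constructor
  · intro h T a b hab
    obtain ⟨E, e, fst, sq⟩ := h (pullback.lift a b hab)
    exact ⟨E, e, isEq_of_isPullback_diagonal sq (pullback.lift_fst _ _ _) (pullback.lift_snd _ _ _)⟩
  · intro h T g
    obtain ⟨E, e, he⟩ := h T (g ≫ pullback.fst _ _) (g ≫ pullback.snd _ _) (by
      rw [Category.assoc, Category.assoc, pullback.condition])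
    have := isPullback_diagonal he f (by rw [Category.assoc, Category.assoc, pullback.condition])
    have hg : pullback.lift (g ≫ pullback.fst f f) (g ≫ pullback.snd f f) (by
        rw [Category.assoc, Category.assoc, pullback.condition]) = g := by
      apply pullback.hom_ext <;> simp [pullback.lift_fst, pullback.lift_snd]
    rw [hg] at this
    exact ⟨E, e, _, this⟩

/-- The relative diagonal of `f` has property `Pr` iff the relevant equalizer loci have. -/
theorem repWith_diagonal_iff (Pr : MorphismProperty Scheme.{u}) [Pr.IsStableUnderBaseChange] (f : X ⟶ Y) :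
    RepWith Pr (pullback.diagonal f) ↔
    ∀ (T : Over S) (a b : (yon S).obj T ⟶ X), a ≫ f = b ≫ f → ∃ (E : Over S) (e : E ⟶ T), IsEq a b e ∧ Pr e.left := by
  constructor
  · intro h T a b hab
    obtain ⟨E, e, fst, sq⟩ := h.1 (pullback.lift a b hab)
    exact ⟨E, e, isEq_of_isPullback_diagonal sq (pullback.lift_fst _ _ _) (pullback.lift_snd _ _ _), h.2 _ _ _ sq⟩
  · intro h
    refine MorphismProperty.relative.of_exists fun T g => ?_
    obtain ⟨E, e, he, hP⟩ := h T (g ≫ pullback.fst _ _) (g ≫ pullback.snd _ _) (by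
      rw [Category.assoc, Category.assoc, pullback.condition])
    have := isPullback_diagonal he f (by rw [Category.assoc, Category.assoc, pullback.condition])
    have hg : pullback.lift (g ≫ pullback.fst f f) (g ≫ pullback.snd f f) (by
        rw [Category.assoc, Category.assoc, pullback.condition]) = g := by
      apply pullback.hom_ext <;> simp [pullback.lift_fst, pullback.lift_snd]
    rw [hg] at this
    exact ⟨E, _, e, this, hP⟩

theorem prop_of_isEq {Pr : MorphismProperty Scheme.{u}} [Pr.IsStableUnderBaseChange] {f : X ⟶ Y}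
    (h : RepWith Pr (pullback.diagonal f)) {T : Over S} {a b : (yon S).obj T ⟶ X} (hab : a ≫ f = b ≫ f)
    {E : Over S} {e : E ⟶ T} (he : IsEq a b e) : Pr e.left :=
  h.2 _ _ _ (isPullback_diagonal he f hab)

theorem representable_diagonal (hX : Representable (Limits.diag X)) (f : X ⟶ Y) :
    Representable (pullback.diagonal f) := by
  rw [representable_diagonal_iff]
  rw [representable_diag_iff] at hX
  exact fun T a b _ => hX T a b

theorem repWith_diagonal_of_diag {Pr : MorphismProperty Scheme.{u}} [Pr.IsStableUnderBaseChange]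
    (hX : RepWith Pr (Limits.diag X)) (f : X ⟶ Y) : RepWith Pr (pullback.diagonal f) := by
  rw [repWith_diagonal_iff]
  rw [repWith_diag_iff] at hX
  exact fun T a b _ => hX T a b

/-- base change of properties of the relative diagonal -/
theorem repWith_diagonal_of_isPullback {Pr : MorphismProperty Scheme.{u}} [Pr.IsStableUnderBaseChange]
    {f : X ⟶ Y} (h : RepWith Pr (pullback.diagonal f)) {g : Z ⟶ Y} {fst : P ⟶ X} {snd : P ⟶ Z}
    (sq : IsPullback fst snd f g) : RepWith Pr (pullback.diagonal snd) := by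
  rw [repWith_diagonal_iff] at *
  intro T a b hab
  obtain ⟨E, e, he, hP⟩ := h T (a ≫ fst) (b ≫ fst) (by
    rw [Category.assoc, Category.assoc, sq.w, ← Category.assoc, ← Category.assoc, hab])
  refine ⟨E, e, ⟨?_, fun R r hr => ?_⟩, hP⟩
  · apply sq.hom_ext
    · rw [Category.assoc, Category.assoc, he.w]
    · rw [Category.assoc, Category.assoc, hab]
  · refine he.lift R r ?_
    rw [← Category.assoc, ← Category.assoc, hr]

theorem repWith_diagonal_comp {Pr : MorphismProperty Scheme.{u}} [Pr.IsStableUnderBaseChange]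
    [Pr.IsStableUnderComposition] {f : X ⟶ Y} {g : Y ⟶ Z} (hf : RepWith Pr (pullback.diagonal f))
    (hg : RepWith Pr (pullback.diagonal g)) : RepWith Pr (pullback.diagonal (f ≫ g)) := by
  rw [repWith_diagonal_iff] at *
  intro T a b hab
  obtain ⟨E, e, he, hP⟩ := hg T (a ≫ f) (b ≫ f) (by simpa using hab)
  obtain ⟨E', e', he', hP'⟩ := hf E ((yon S).map e ≫ a) ((yon S).map e ≫ b) (by simpa using he.w)
  refine ⟨E', e' ≫ e, ⟨?_, fun R r hr => ?_⟩, Pr.comp_mem _ _ hP' hP⟩
  · simpa using he'.w
  · obtain ⟨r₁, hr₁, hr₁'⟩ := he.lift R r (by rw [← Category.assoc, ← Category.assoc, hr])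
    obtain ⟨r₂, hr₂, hr₂'⟩ := he'.lift R r₁ (by
      rw [← Category.assoc, ← Functor.map_comp, hr₁, ← Category.assoc, ← Functor.map_comp, hr₁, hr])
    refine ⟨r₂, ?_, fun z hz => ?_⟩
    · dsimp only
      rw [← Category.assoc, hr₂, hr₁]
    · dsimp only at hz
      rw [← Category.assoc] at hz
      exact hr₂' z (hr₁' _ hz)

/-- the diagonal of `f` has `Pr` if that of `f ≫ g` has -/
theorem repWith_diagonal_of_comp {Pr : MorphismProperty Scheme.{u}} [Pr.IsStableUnderBaseChange]
    {f : X ⟶ Y} {g : Y ⟶ Z} (h : RepWith Pr (pullback.diagonal (f ≫ g))) : RepWith Pr (pullback.diagonal f) := by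
  rw [repWith_diagonal_iff] at *
  intro T a b hab
  exact h T a b (by rw [← Category.assoc, ← Category.assoc, hab])

/-- The graph trick: if the diagonal of `g` has `Pr` and `f ≫ g` is `Pr`, `f` is `Pr`. -/
theorem repWith_of_comp {Pr : MorphismProperty Scheme.{u}} [Pr.IsStableUnderBaseChange]
    [Pr.IsStableUnderComposition] {f : X ⟶ Y} {g : Y ⟶ Z} (h : RepWith Pr (f ≫ g))
    (hg : RepWith Pr (pullback.diagonal g)) : RepWith Pr f := by
  have : Pr.RespectsIso := MorphismProperty.IsStableUnderBaseChange.respectsIso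
  rw [repWith_diagonal_iff] at hg
  refine MorphismProperty.relative.of_exists fun T y => ?_
  obtain ⟨V, snd, fst, sq⟩ := h.1 (y ≫ g)
  obtain ⟨E, e, he, hP⟩ := hg V (fst ≫ f) ((yon S).map snd ≫ y) (by simpa using sq.w)
  refine ⟨E, (yon S).map e ≫ fst, e ≫ snd, ?_, Pr.comp_mem _ _ hP (h.2 _ _ _ sq)⟩
  refine isPullback_of_yon (by simpa using he.w) fun R a b hab => ?_
  obtain ⟨b, rfl⟩ := (yon S).map_surjective b
  have h1 : a ≫ f ≫ g = (yon S).map b ≫ y ≫ g := by
    rw [← Category.assoc, hab, Category.assoc]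
  obtain ⟨c, hc⟩ := (yon S).map_surjective (sq.lift _ _ h1)
  have hc1 : (yon S).map c ≫ fst = a := by rw [hc, sq.lift_fst]
  have hc2 : c ≫ snd = b := by
    apply (yon S).map_injective
    rw [Functor.map_comp, hc, sq.lift_snd]
  obtain ⟨d, hd, hd'⟩ := he.lift R c (by
    rw [← Category.assoc, hc1, ← Category.assoc, ← Functor.map_comp, hc2, hab])
  refine ⟨(yon S).map d, ⟨?_, ?_⟩, ?_⟩
  · rw [← Category.assoc, ← Functor.map_comp, hd, hc1]
  · rw [← Functor.map_comp, ← Category.assoc, hd, hc2]
  · rintro z ⟨hz1, hz2⟩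
    obtain ⟨z, rfl⟩ := (yon S).map_surjective z
    rw [hd' z]
    dsimp only
    apply (yon S).map_injective
    apply sq.hom_ext
    · rw [Functor.map_comp, Category.assoc, hz1, hc1]
    · rw [← Functor.map_comp, ← Functor.map_comp, hc2, Category.assoc, ← hz2, Functor.map_comp]

/-- Representability of `f` from that of `f ≫ g` and of the diagonal of `g`. -/
theorem representable_of_comp {f : X ⟶ Y} {g : Y ⟶ Z} (h : Representable (f ≫ g))
    (hg : Representable (pullback.diagonal g)) : Representable f := by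
  have h1 : RepWith (⊤ : MorphismProperty Scheme.{u}) (f ≫ g) := ⟨h, fun _ _ _ _ _ _ => trivial⟩
  have h2 : RepWith (⊤ : MorphismProperty Scheme.{u}) (pullback.diagonal g) := ⟨hg, fun _ _ _ _ _ _ => trivial⟩
  exact (repWith_of_comp h1 h2).1

/-- Étale cancellation for maps to a sheaf. -/
theorem etale_of_comp {U V : Over S} (h : U ⟶ V) {b : (yon S).obj V ⟶ X} (hb : RepWith @Etale b)
    {a : (yon S).obj U ⟶ X} (ha : RepWith @Etale a) (w : (yon S).map h ≫ b = a) : Etale h.left := by
  obtain ⟨W, p₂, k, sq⟩ := hb.1 a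
  obtain ⟨p₁, rfl⟩ := (yon S).map_surjective k
  -- `W = V ×_X U`
  have h₁ : Etale p₁.left := ha.2 _ _ _ sq.flip
  have h₂ : Etale p₂.left := hb.2 _ _ _ sq
  have hw : (yon S).map h ≫ b = (yon S).map (𝟙 U) ≫ a := by
    rw [CategoryTheory.Functor.map_id, Category.id_comp, w]
  obtain ⟨γ, hγ⟩ := (yon S).map_surjective (sq.lift _ _ hw)
  have e1 : γ ≫ p₁ = h := by
    apply (yon S).map_injective
    rw [Functor.map_comp, hγ, sq.lift_fst]
  have e2 : γ ≫ p₂ = 𝟙 U := by
    apply (yon S).map_injective
    rw [Functor.map_comp, hγ, sq.lift_snd]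
  have h3 : Etale γ.left := by
    have h4 : Etale (γ.left ≫ p₂.left) := by
      have : γ.left ≫ p₂.left = 𝟙 U.left := congrArg (·.left) e2
      rw [this]
      infer_instance
    exact MorphismProperty.of_postcomp (W := @Etale) (W' := @Etale) _ p₂.left h₂ h4
  have : h.left = γ.left ≫ p₁.left := congrArg (·.left) e1.symm
  rw [this]
  infer_instance

end K613.Diag
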