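import Groth.Agent.AlgSp.K606.FppfRepSp
import Groth.Agent.AlgSp.K606.YonSec
import Groth.Agent.AlgSp.K613.Basic

/-!
# Zariski gluing: a sheaf covered by open subspaces which are schemes is a scheme
-/

set_option autoImplicit false
universe u

open CategoryTheory CategoryTheory.Limits AlgebraicGeometry Opposite AlgSp K606.YonSec K606.FppfRepSp K613.Basic

namespace K613.ZGlue

variable {S : Scheme.{u}} {X : Sp S}

theorem isFppfSheafW (X : Sp S) : IsFppfSheafW X.obj := fun _ _ h1 h2 h3 x hx =>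
  (K594.Cover.Fam.mk h1 h2 h3).glue X x hx

theorem mono_of_openImm {F G : Sp S} {o : F ⟶ G} (ho : RepWith @IsOpenImmersion o) {T : Over S}
    {m m' : (yon S).obj T ⟶ F} (h : m ≫ o = m' ≫ o) : m = m' := by
  obtain ⟨V, g, k, sq⟩ := ho.1 (m ≫ o)
  have hg : IsOpenImmersion g.left := ho.2 _ _ _ sq
  have hgm : Mono g := Over.mono_of_mono_left g
  have h1 : sq.lift m (𝟙 _) (by simp) = sq.lift m' (𝟙 _) (by rw [Category.id_comp, h]) := by
    rw [← cancel_mono ((yon S).map g), sq.lift_snd, sq.lift_snd]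
  rw [← sq.lift_fst m (𝟙 _) (by simp), h1, sq.lift_fst]

/-- Factoring through an open immersion of schemes over `S`. -/
theorem exists_factor {V T R : Over S} (g : V ⟶ T) [IsOpenImmersion g.left] (r : R ⟶ T)
    (h : Set.range r.left ⊆ Set.range g.left) : ∃ l : R ⟶ V, l ≫ g = r := by
  refine ⟨Over.homMk (IsOpenImmersion.lift g.left r.left h) ?_, ?_⟩
  · rw [← Over.w g, ← Category.assoc, IsOpenImmersion.lift_fac, Over.w]
  · ext1
    exact IsOpenImmersion.lift_fac _ _ _

/-- An open subscheme, over `S`. -/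
abbrev opn (T : Over S) (W : T.left.Opens) : Over S := Over.mk (W.ι ≫ T.hom)

/-- The inclusion of an open subscheme. -/
abbrev opnι (T : Over S) (W : T.left.Opens) : opn T W ⟶ T := Over.homMk W.ι rfl

section

variable {ι : Type u} {O : ι → Over S} {o : ∀ i, (yon S).obj (O i) ⟶ X}

/-- The open of `T` defined by a map `h_T ⟶ X` and a member of the covering. -/
theorem exists_opens (ho : ∀ i, RepWith @IsOpenImmersion (o i)) {T : Over S} (x : (yon S).obj T ⟶ X) (i : ι) : ∃ W : T.left.Opens,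
    (∀ (R : Over S) (g : R ⟶ T), (∃ m : R ⟶ O i, (yon S).map m ≫ o i = (yon S).map g ≫ x) ↔
      Set.range g.left ⊆ (W : Set T.left)) := by
  obtain ⟨V, g, k, sq⟩ := (ho i).1 x
  obtain ⟨k, rfl⟩ := (yon S).map_surjective k
  have hg : IsOpenImmersion g.left := (ho i).2 _ _ _ sq
  refine ⟨g.left.opensRange, fun R r => ?_⟩
  constructor
  · rintro ⟨m, hm⟩
    obtain ⟨l, hl⟩ := (yon S).map_surjective (sq.lift _ _ hm)
    have h1 : l ≫ g = r := (yon S).map_injective (by rw [Functor.map_comp, hl, sq.lift_snd])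
    rintro _ ⟨y, rfl⟩
    refine ⟨l.left y, ?_⟩
    rw [← Scheme.Hom.comp_apply]
    exact congrArg (fun f : R ⟶ T => f.left y) h1
  · intro h
    obtain ⟨l, hl⟩ := exists_factor g r h
    refine ⟨l ≫ k, ?_⟩
    rw [Functor.map_comp, Category.assoc, sq.w, ← Category.assoc, ← Functor.map_comp, hl]

/-- A map to `X` is determined by its opens and the maps from them to the charts. -/
theorem eq_of_data (hcov : ∀ (T : Over S) (x : (yon S).obj T ⟶ X) (τ : T.left), ∃ (i : ι) (V : Over S) (g : V ⟶ T)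
      (m : V ⟶ O i), (yon S).map m ≫ o i = (yon S).map g ≫ x ∧ τ ∈ Set.range g.left) {T : Over S}
    (x y : (yon S).obj T ⟶ X) (p : ∀ i, Σ W : T.left.Opens, (opn T W ⟶ O i))
    (hp : ∀ (i : ι) (R : Over S) (g : R ⟶ T), (∃ m : R ⟶ O i, (yon S).map m ≫ o i = (yon S).map g ≫ x) →
      Set.range g.left ⊆ ((p i).1 : Set T.left))
    (hx : ∀ i, (yon S).map (opnι T (p i).1) ≫ x = (yon S).map (p i).2 ≫ o i)
    (hy : ∀ i, (yon S).map (opnι T (p i).1) ≫ y = (yon S).map (p i).2 ≫ o i) : x = y := by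
  obtain ⟨z, -, hz⟩ := glueFam (F := X) (ι := ι) (fun i => opn T (p i).1) (fun i => opnι T (p i).1)
    (fun i => by
      have : Flat (p i).1.ι := inferInstance
      exact this)
    (fun i => by
      have : LocallyOfFinitePresentation (p i).1.ι := inferInstance
      exact this)
    (fun τ => by
      obtain ⟨i, V, g, k, hk, hτ⟩ := hcov T x τ
      exact ⟨i, ⟨τ, hp i V g ⟨k, hk⟩ hτ⟩, rfl⟩) (fun i => (yon S).map (opnι T (p i).1) ≫ x) (fun i j R a b hab => by
      rw [← Category.assoc, ← Category.assoc, ← Functor.map_comp, ← Functor.map_comp, hab])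
  rw [hz x (fun i => rfl), hz y (fun i => (hy i).trans (hx i).symm)]

theorem small_of_cover (ho : ∀ i, RepWith @IsOpenImmersion (o i)) (hcov : ∀ (T : Over S) (x : (yon S).obj T ⟶ X) (τ : T.left), ∃ (i : ι) (V : Over S) (g : V ⟶ T)
      (m : V ⟶ O i), (yon S).map m ≫ o i = (yon S).map g ≫ x ∧ τ ∈ Set.range g.left) (T : (Over S)ᵒᵖ) :
    Small.{u} (X.obj.obj T) := by
  obtain ⟨T, rfl⟩ : ∃ T', T = op T' := ⟨T.unop, rfl⟩
  have h1 : ∀ x : X.obj.obj (op T), ∃ p : ∀ i, Σ W : T.left.Opens, (opn T W ⟶ O i),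
      (∀ (i : ι) (R : Over S) (g : R ⟶ T), (∃ m : R ⟶ O i, (yon S).map m ≫ o i = (yon S).map g ≫ ofSec x) →
        Set.range g.left ⊆ ((p i).1 : Set T.left)) ∧
      ∀ i, (yon S).map (opnι T (p i).1) ≫ ofSec x = (yon S).map (p i).2 ≫ o i := by
    intro x
    choose W hW using fun (i : ι) => exists_opens ho (ofSec x) i
    have h1 : ∀ (i : ι), ∃ m : opn T (W i) ⟶ O i, (yon S).map m ≫ o i = (yon S).map (opnι T (W i)) ≫ ofSec x :=
      fun i => (hW i (opn T (W i)) (opnι T (W i))).2 (by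
        change Set.range (W i).ι ⊆ _
        rw [Scheme.Opens.range_ι])
    choose m hm using h1
    exact ⟨fun i => ⟨W i, m i⟩, fun i R g => (hW i R g).1, fun i => (hm i).symm⟩
  choose Φ hΦ hΦ' using h1
  refine small_of_injective (f := Φ) fun x y hxy => ?_
  have h2 := hΦ' y
  rw [← hxy] at h2
  have h3 := eq_of_data hcov (ofSec x) (ofSec y) (Φ x) (hΦ x) (hΦ' x) h2
  rw [← sec_ofSec x, h3, sec_ofSec]

/-- **Zariski gluing.** -/
theorem exists_iso (ho : ∀ i, RepWith @IsOpenImmersion (o i)) (hcov : ∀ (T : Over S) (x : (yon S).obj T ⟶ X) (τ : T.left), ∃ (i : ι) (V : Over S) (g : V ⟶ T)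
      (m : V ⟶ O i), (yon S).map m ≫ o i = (yon S).map g ≫ x ∧ τ ∈ Set.range g.left) :
    ∃ A : Over S, Nonempty ((yon S).obj A ≅ X) := by
  have hsm := small_of_cover ho hcov
  choose W hW using fun (T : Over S) (x : (yon S).obj T ⟶ X) (i : ι) => exists_opens ho x i
  have hmap : ∀ {R T : Over S} (m : R ⟶ T) (x : X.obj.obj (op T)) , (shr X.obj).map m.op (eS X.obj _ x) =
      eS X.obj _ (sec ((yon S).map m ≫ ofSec x)) := fun m x => by
    rw [shr_map', sec_map_comp, sec_ofSec]
  have a : Groth.Agent.Sga3B.RepDescent.Atlas (shr X.obj) :=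
    { ι := ι
      W := O
      w := fun i => eS X.obj _ (sec (o i))
      injective := fun i R m m' h => by
        dsimp only at h
        rw [hmap, hmap, ofSec_sec] at h
        exact (yon S).map_injective (mono_of_openImm (ho i) (sec_injective ((eS X.obj _).injective h)))
      opens := fun T y i => W T (ofSec ((eS X.obj _).symm y)) i
      exists_iff := fun T y i R g => by
        obtain ⟨y, rfl⟩ := (eS X.obj _).surjective y
        rw [Equiv.symm_apply_apply, ← hW T (ofSec y) i R g]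
        refine exists_congr fun m => ?_
        rw [hmap, hmap, ofSec_sec, (eS X.obj _).injective.eq_iff]
        exact ⟨fun h => sec_injective h, fun h => congrArg sec h⟩
      cover := fun T y τ => by
        obtain ⟨i, V, g, k, hk, hτ⟩ := hcov T (ofSec ((eS X.obj _).symm y)) τ
        exact ⟨i, (hW T (ofSec ((eS X.obj _).symm y)) i V g).1 ⟨k, hk⟩ hτ⟩ }
  have hsh : K606.FppfRep.IsFppfSheaf (shr X.obj) := isFppfSheaf_shr X.obj (isFppfSheafW X)
  obtain ⟨A, ⟨r⟩⟩ := Groth.Agent.Sga3B.RepDescent.exists_representableBy_of_atlas a hsh.isEtSheaf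
  have r' := repOfShr X.obj r
  have h1 : IsIso (ofSec (r'.homEquiv (𝟙 A))) := by
    refine isIso_of_bijective fun T x => ?_
    have h2 : ∀ m : T ⟶ A, (yon S).map m ≫ ofSec (r'.homEquiv (𝟙 A)) = ofSec (r'.homEquiv m) := fun m => by
      rw [map_comp_ofSec, ← r'.homEquiv_comp, Category.comp_id]
    refine ⟨(yon S).map (r'.homEquiv.symm (sec x)), ?_, fun m hm => ?_⟩
    · change (yon S).map _ ≫ _ = x
      rw [h2, Equiv.apply_symm_apply, ofSec_sec]
    · obtain ⟨m, rfl⟩ := (yon S).map_surjective m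
      change (yon S).map _ ≫ _ = x at hm
      rw [h2] at hm
      rw [← hm, sec_ofSec, Equiv.symm_apply_apply]
  exact ⟨A, ⟨asIso (ofSec (r'.homEquiv (𝟙 A)))⟩⟩

end

end K613.ZGlue
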