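import Groth.Agent.AlgSp.K613.LqfAff
import Groth.Agent.AlgSp.K613.ZGlue
import Groth.Agent.AlgSp.K610.OpenImm
import Groth.Agent.AlgSp.K610.Sub

/-!
# A separated locally quasi-finite algebraic space over a scheme is a scheme
-/

set_option autoImplicit false
universe u

open CategoryTheory CategoryTheory.Limits AlgebraicGeometry Opposite AlgSp K613.Basic K613.Cover K613.Chart
  K613.Diag

namespace K613

variable {S : Scheme.{u}}

/-- Covering an algebraic space by affine étale charts lying over affine opens of a scheme. -/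
theorem exists_affine_charts {X : Sp S} (hX : IsAlgSpace X) {T : Over S} (f : X ⟶ (yon S).obj T) :
    ∃ (ι : Type u) (U A : ι → Over S) (a : ∀ i, (yon S).obj (U i) ⟶ X) (g : ∀ i, A i ⟶ T) (q : ∀ i, U i ⟶ A i),
      (∀ i, IsAffine (U i).left) ∧ (∀ i, IsAffine (A i).left) ∧ (∀ i, IsOpenImmersion (g i).left) ∧
      (∀ i, RepWith @Etale (a i)) ∧ (∀ i, a i ≫ f = (yon S).map (q i ≫ g i)) ∧
      ∀ (R : Over S) (x : (yon S).obj R ⟶ X) (τ : R.left), ∃ (i : ι) (V : Over S) (c : V ⟶ R) (m : V ⟶ U i),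
        (yon S).map m ≫ a i = (yon S).map c ≫ x ∧ Etale c.left ∧ τ ∈ Set.range c.left := by
  obtain ⟨U₀, p, hp⟩ := exists_ch hX
  obtain ⟨q₀, hq₀⟩ := (yon S).map_surjective (p ≫ f)
  have h1 : ∀ u : U₀.left, ∃ (A : T.left.Opens) (U : U₀.left.Opens), IsAffineOpen A ∧ IsAffineOpen U ∧ u ∈ U ∧
      U ≤ q₀.left ⁻¹ᵁ A := by
    intro u
    obtain ⟨A, hA, hA', -⟩ := exists_isAffineOpen_mem_and_subset (x := q₀.left u) (U := ⊤) trivial
    obtain ⟨U, hU, hU', hU''⟩ := exists_isAffineOpen_mem_and_subset (x := u) (U := q₀.left ⁻¹ᵁ A) hA'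
    exact ⟨A, U, hA, hU, hU', hU''⟩
  choose A U hA hU huU hUA using h1
  have hι : ∀ u, (U u).ι ≫ q₀.left = q₀.left.resLE (A u) (U u) (hUA u) ≫ (A u).ι := fun u => by
    rw [Scheme.Hom.resLE_comp_ι]
  refine ⟨U₀.left, fun u => ZGlue.opn U₀ (U u), fun u => ZGlue.opn T (A u),
    fun u => (yon S).map (ZGlue.opnι U₀ (U u)) ≫ p, fun u => ZGlue.opnι T (A u),
    fun u => Over.homMk (q₀.left.resLE (A u) (U u) (hUA u)) ?_, fun u => hU u, fun u => hA u, fun u => ?_, fun u => ?_,
    fun u => ?_, ?_⟩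
  · change q₀.left.resLE (A u) (U u) (hUA u) ≫ (A u).ι ≫ T.hom = (U u).ι ≫ U₀.hom
    rw [← Category.assoc, ← hι, Category.assoc, Over.w]
  · exact (inferInstance : IsOpenImmersion (A u).ι)
  · exact MorphismProperty.comp_mem _ _ _ ((repWith_yon_map_iff _ _).2 (inferInstance : Etale (U u).ι)) hp.et
  · rw [Category.assoc, ← hq₀, ← Functor.map_comp]
    congr 1
    ext1
    exact hι u
  · intro R x τ
    obtain ⟨V, g, k, sq⟩ := hp.et.1 x
    obtain ⟨k, rfl⟩ := (yon S).map_surjective k
    have hge : Etale g.left := hp.et.2 _ _ _ sq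
    have hgs : Surjective g.left := hp.surj.2 _ _ _ sq
    obtain ⟨v, hv⟩ := hgs.surj τ
    let W : V.left.Opens := k.left ⁻¹ᵁ U (k.left v)
    let m : ZGlue.opn V W ⟶ ZGlue.opn U₀ (U (k.left v)) := Over.homMk (k.left ∣_ U (k.left v)) (by
      change (k.left ∣_ U (k.left v)) ≫ (U (k.left v)).ι ≫ U₀.hom = W.ι ≫ V.hom
      rw [morphismRestrict_ι_assoc, Over.w])
    have hm : m ≫ ZGlue.opnι U₀ (U (k.left v)) = ZGlue.opnι V W ≫ k := by
      ext1
      exact morphismRestrict_ι _ _
    refine ⟨k.left v, ZGlue.opn V W, ZGlue.opnι V W ≫ g, m, ?_, ?_, ?_⟩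
    · rw [← Category.assoc, ← Functor.map_comp, hm, Functor.map_comp, Category.assoc, sq.w, Functor.map_comp,
        Category.assoc]
    · have : Etale (W.ι ≫ g.left) := inferInstance
      exact this
    · refine ⟨⟨v, huU _⟩, ?_⟩
      change (W.ι ≫ g.left) _ = τ
      rw [Scheme.Hom.comp_apply]
      exact hv

/-- **A separated locally quasi-finite algebraic space over a scheme is a scheme.** -/
theorem exists_iso_of_lqf {X : Sp S} (hX : IsAlgSpace X) {T : Over S} (f : X ⟶ (yon S).obj T)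
    (hqf : LocP (@LocallyQuasiFinite ⊓ @LocallyOfFiniteType) f) (sep : RepWith @IsClosedImmersion (pullback.diagonal f)) :
    ∃ A : Over S, Nonempty ((yon S).obj A ≅ X) := by
  obtain ⟨ι, U, A, a, g, q, hU, hA, hg, ha, hw, hcov⟩ := exists_affine_charts hX f
  have key : ∀ i, ∃ (O : Over S) (o : (yon S).obj O ⟶ X) (b : (yon S).obj (U i) ⟶ (yon S).obj O),
      RepWith @IsOpenImmersion o ∧ b ≫ o = a i := by
    intro i
    have hUi := hU i
    have hAi := hA i
    have hgi := hg i
    obtain ⟨X', j, hj, hrj⟩ := K610.Sub.exists_open_subspace ⟨X, hX⟩ (Set.range (Points.ofPt (a i)))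
      (K610.Base.isOpenMap_ofPt_etale (ha i)).isOpen_range
    obtain ⟨b, hb, hb1, hb2⟩ := K610.OpenImm.exists_corestrict hX hj hrj @Etale (ha i)
    have hbch : Ch b := ⟨hb1, hb2⟩
    have hgm : Mono (g i) := Over.mono_of_mono_left (g i)
    have hgm' : Mono ((yon S).map (g i)) := inferInstance
    obtain ⟨f', hf', -⟩ := hbch.fSurj.desc ((yon S).map (q i)) (fun R u v huv => by
      rw [← cancel_mono ((yon S).map (g i)), Category.assoc, Category.assoc, ← Functor.map_comp, ← hw, ← hb,
        Category.assoc, ← Category.assoc, huv]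
      simp only [Category.assoc])
    have hff : f' ≫ (yon S).map (g i) = j.hom ≫ f := by
      have := hbch.fSurj.epi
      rw [← cancel_epi b, ← Category.assoc, hf', ← Functor.map_comp, ← hw, ← hb, Category.assoc]
    have hjm : Mono j.hom := K610.Factor.mono_of_isOpenImmersion hj
    have sepj : RepWith @IsClosedImmersion (pullback.diagonal j.hom) := by
      have : IsIso (pullback.diagonal j.hom) := inferInstance
      exact (RepWith @IsClosedImmersion).of_isIso _
    have sep1 : RepWith @IsClosedImmersion (pullback.diagonal (j.hom ≫ f)) := repWith_diagonal_comp sepj sep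
    have sep2 : RepWith @IsClosedImmersion (pullback.diagonal f') := by
      have h3 : ∀ h : X'.obj ⟶ (yon S).obj T, h = j.hom ≫ f → RepWith @IsClosedImmersion (pullback.diagonal h) := by
        rintro h rfl
        exact sep1
      exact repWith_diagonal_of_comp (h3 _ hff)
    have hq1 := hqf (a i) (𝟙 _) (q i ≫ g i) (ha i) (repWith_id _ _) (by rw [Category.comp_id]; exact hw i)
    have hq2 : LocallyQuasiFinite ((q i).left ≫ (g i).left) := hq1.1
    have hq3 : LocallyOfFiniteType ((q i).left ≫ (g i).left) := hq1.2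
    obtain ⟨O, ⟨e⟩⟩ := exists_open_of_affine hAi f' sep2 hUi hbch hf'
      (locallyOfFiniteType_of_comp (q i).left (g i).left) (LocallyQuasiFinite.of_comp (q i).left (g i).left)
    refine ⟨O, e.inv ≫ j.hom, b ≫ e.hom, ?_, by simp [hb]⟩
    exact (RepWith @IsOpenImmersion).comp_mem _ _ ((RepWith @IsOpenImmersion).of_isIso _) hj
  choose O o b ho hb using key
  refine ZGlue.exists_iso ho fun R x τ => ?_
  obtain ⟨i, V, c, m, hm, -, hτ⟩ := hcov R x τ
  obtain ⟨k, hk⟩ := (yon S).map_surjective (b i)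
  exact ⟨i, V, c, m ≫ k, by rw [Functor.map_comp, Category.assoc, hk, hb, hm], hτ⟩

end K613
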