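import Groth.Agent.AlgSp.K613.Cover

/-!
# Algebraic spaces, kit part 3: equalizers, fibre products, charts
-/

set_option autoImplicit false
universe u

open CategoryTheory CategoryTheory.Limits AlgebraicGeometry Opposite

namespace K613.Chart

open AlgSp K613.Basic K613.Cover

variable {S : Scheme.{u}} {F G H P Q X Y Z : Sp S}

/-- `e : E ⟶ T` is the locus of `T` where the two maps `a b : h_T ⟶ F` agree. -/
structure IsEq {T : Over S} (a b : (yon S).obj T ⟶ F) {E : Over S} (e : E ⟶ T) : Prop where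
  w : (yon S).map e ≫ a = (yon S).map e ≫ b
  lift : ∀ (R : Over S) (r : R ⟶ T), (yon S).map r ≫ a = (yon S).map r ≫ b → ∃! r' : R ⟶ E, r' ≫ e = r

theorem exists_prodLift (a b : G ⟶ F) : ∃ c : G ⟶ F ⨯ F, c ≫ prod.fst = a ∧ c ≫ prod.snd = b :=
  ⟨prod.lift a b, prod.lift_fst _ _, prod.lift_snd _ _⟩

/-- An equalizer locus gives a pullback of the diagonal. -/
theorem IsEq.isPullback {T : Over S} {a b : (yon S).obj T ⟶ F} {E : Over S} {e : E ⟶ T} (h : IsEq a b e) :
    IsPullback ((yon S).map e ≫ a) ((yon S).map e) (Limits.diag F) (prod.lift a b) := by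
  have w0 : ((yon S).map e ≫ a) ≫ Limits.diag F = (yon S).map e ≫ prod.lift a b := by
    apply Limits.prod.hom_ext
    · simp [prod.lift_fst]
    · simp [prod.lift_snd, h.w]
  refine isPullback_of_yon w0 fun R x y hxy => ?_
  obtain ⟨r, rfl⟩ := (yon S).map_surjective y
  have h1 : x = (yon S).map r ≫ a := by
    have := congrArg (· ≫ prod.fst) hxy
    simpa [prod.lift_fst, prod.lift_snd] using this
  have h2 : x = (yon S).map r ≫ b := by
    have := congrArg (· ≫ prod.snd) hxy
    simpa [prod.lift_fst, prod.lift_snd] using this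
  obtain ⟨r', hr', hr''⟩ := h.lift R r (h1.symm.trans h2)
  refine ⟨(yon S).map r', ⟨?_, ?_⟩, ?_⟩
  · rw [← Category.assoc, ← Functor.map_comp, hr', h1]
  · rw [← Functor.map_comp, hr']
  · rintro z ⟨-, hz⟩
    obtain ⟨z, rfl⟩ := (yon S).map_surjective z
    rw [← Functor.map_comp] at hz
    rw [hr'' z ((yon S).map_injective hz)]

/-- A pullback of the diagonal is an equalizer locus. -/
theorem IsEq.of_isPullback {T : Over S} {a b : (yon S).obj T ⟶ F} {E : Over S} {e : E ⟶ T}
    {fst : (yon S).obj E ⟶ F}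
    (sq : IsPullback fst ((yon S).map e) (Limits.diag F) (prod.lift a b)) : IsEq a b e := by
  have h1 : fst = (yon S).map e ≫ a := by
    have := congrArg (· ≫ prod.fst) sq.w
    simpa [prod.lift_fst, prod.lift_snd] using this
  have h2 : fst = (yon S).map e ≫ b := by
    have := congrArg (· ≫ prod.snd) sq.w
    simpa [prod.lift_fst, prod.lift_snd] using this
  refine ⟨h1.symm.trans h2, fun R r hr => ?_⟩
  have w : ((yon S).map r ≫ a) ≫ Limits.diag F = (yon S).map r ≫ prod.lift a b := by
    apply Limits.prod.hom_ext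
    · simp [prod.lift_fst]
    · simp [prod.lift_snd, hr]
  obtain ⟨r', hr'⟩ := (yon S).map_surjective (sq.lift _ _ w)
  refine ⟨r', ?_, fun z hz => ?_⟩
  · apply (yon S).map_injective
    rw [Functor.map_comp, hr', sq.lift_snd]
  · apply (yon S).map_injective
    apply sq.hom_ext
    · rw [hr', sq.lift_fst, h1, ← Category.assoc, ← Functor.map_comp]
      dsimp only at hz
      rw [hz]
    · rw [hr', sq.lift_snd, ← Functor.map_comp]
      dsimp only at hz
      rw [hz]

/-- The diagonal of `F` is representable iff equalizer loci of maps from schemes are schemes. -/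
theorem representable_diag_iff : Representable (Limits.diag F) ↔
    ∀ (T : Over S) (a b : (yon S).obj T ⟶ F), ∃ (E : Over S) (e : E ⟶ T), IsEq a b e := by
  constructor
  · intro h T a b
    obtain ⟨E, e, fst, sq⟩ := h (prod.lift a b)
    exact ⟨E, e, IsEq.of_isPullback sq⟩
  · intro h T g
    obtain ⟨E, e, he⟩ := h T (g ≫ prod.fst) (g ≫ prod.snd)
    have := he.isPullback
    have hg : prod.lift (g ≫ prod.fst) (g ≫ prod.snd) = g := by
      apply Limits.prod.hom_ext <;> simp [prod.lift_fst, prod.lift_snd]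
    rw [hg] at this
    exact ⟨E, e, _, this⟩

theorem repWith_diag_iff (Pr : MorphismProperty Scheme.{u}) [Pr.IsStableUnderBaseChange] :
    RepWith Pr (Limits.diag F) ↔
    ∀ (T : Over S) (a b : (yon S).obj T ⟶ F), ∃ (E : Over S) (e : E ⟶ T), IsEq a b e ∧ Pr e.left := by
  constructor
  · intro h T a b
    obtain ⟨E, e, fst, sq⟩ := h.1 (prod.lift a b)
    exact ⟨E, e, IsEq.of_isPullback sq, h.2 _ _ _ sq⟩
  · intro h
    refine MorphismProperty.relative.of_exists fun T g => ?_
    obtain ⟨E, e, he, hP⟩ := h T (g ≫ prod.fst) (g ≫ prod.snd)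
    have := he.isPullback
    have hg : prod.lift (g ≫ prod.fst) (g ≫ prod.snd) = g := by
      apply Limits.prod.hom_ext <;> simp [prod.lift_fst, prod.lift_snd]
    rw [hg] at this
    exact ⟨E, _, e, this, hP⟩

/-- Base change of equalizer loci. -/
theorem IsEq.of_pullback {T : Over S} {a b : (yon S).obj T ⟶ F} {E : Over S} {e : E ⟶ T} (h : IsEq a b e)
    {T' E' : Over S} {t : T' ⟶ T} {e' : E' ⟶ T'} {k : E' ⟶ E} (sq : IsPullback k e' e t) :
    IsEq ((yon S).map t ≫ a) ((yon S).map t ≫ b) e' := by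
  refine ⟨?_, fun R r hr => ?_⟩
  · rw [← Category.assoc, ← Category.assoc, ← Functor.map_comp, ← sq.w, Functor.map_comp, Category.assoc,
      Category.assoc, h.w]
  · rw [← Category.assoc, ← Category.assoc, ← Functor.map_comp] at hr
    obtain ⟨r', hr', hr''⟩ := h.lift R (r ≫ t) hr
    refine ⟨sq.lift r' r hr', sq.lift_snd _ _ _, fun z hz => ?_⟩
    apply sq.hom_ext
    · rw [sq.lift_fst]
      refine hr'' _ ?_
      dsimp only
      rw [Category.assoc, sq.w, ← Category.assoc]
      dsimp only at hz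
      rw [hz]
    · rw [sq.lift_snd]
      exact hz

theorem IsEq.mono {T : Over S} {a b : (yon S).obj T ⟶ F} {E : Over S} {e : E ⟶ T} (h : IsEq a b e) : Mono e := by
  refine ⟨fun {R} x y hxy => ?_⟩
  obtain ⟨z, -, hz⟩ := h.lift R (x ≫ e) (by
    rw [Functor.map_comp, Category.assoc, h.w, Category.assoc])
  exact (hz x rfl).trans (hz y hxy.symm).symm

theorem IsEq.uniq {T : Over S} {a b : (yon S).obj T ⟶ F} {E E' : Over S} {e : E ⟶ T} {e' : E' ⟶ T}
    (h : IsEq a b e) (h' : IsEq a b e') : ∃ i : E ≅ E', i.hom ≫ e' = e := by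
  have := h.mono
  have := h'.mono
  obtain ⟨i, hi, -⟩ := h'.lift E e h.w
  obtain ⟨j, hj, -⟩ := h.lift E' e' h'.w
  refine ⟨⟨i, j, ?_, ?_⟩, hi⟩
  · rw [← cancel_mono e, Category.assoc, hj, hi, Category.id_comp]
  · rw [← cancel_mono e', Category.assoc, hi, hj, Category.id_comp]

/-- If `P` is a fibre product of `X` and `Y` (over anything), its diagonal is representable when those of `X`, `Y` are. -/
theorem representable_diag_of_isPullback (hX : Representable (Limits.diag X)) (hY : Representable (Limits.diag Y))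
    {f : X ⟶ H} {g : Y ⟶ H} {fst : P ⟶ X} {snd : P ⟶ Y} (sq : IsPullback fst snd f g) :
    Representable (Limits.diag P) := by
  rw [representable_diag_iff] at *
  intro T a b
  obtain ⟨E, e, he⟩ := hX T (a ≫ fst) (b ≫ fst)
  obtain ⟨E', e', he'⟩ := hY T (a ≫ snd) (b ≫ snd)
  have key : ∀ (R : Over S) (r : R ⟶ T), (yon S).map r ≫ a = (yon S).map r ≫ b ↔
      ((yon S).map r ≫ a ≫ fst = (yon S).map r ≫ b ≫ fst ∧ (yon S).map r ≫ a ≫ snd = (yon S).map r ≫ b ≫ snd) := by
    intro R r
    constructor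
    · intro h
      rw [← Category.assoc, ← Category.assoc, ← Category.assoc, ← Category.assoc, h]
      exact ⟨rfl, rfl⟩
    · rintro ⟨h1, h2⟩
      apply sq.hom_ext
      · rw [Category.assoc, Category.assoc, h1]
      · rw [Category.assoc, Category.assoc, h2]
  refine ⟨pullback e e', pullback.fst e e' ≫ e, ?_, ?_⟩
  · rw [key]
    constructor
    · rw [Functor.map_comp, Category.assoc, Category.assoc, he.w]
    · rw [pullback.condition, Functor.map_comp, Category.assoc, Category.assoc, he'.w]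
  · intro R r hr
    rw [key] at hr
    obtain ⟨x, hx, hx'⟩ := he.lift R r hr.1
    obtain ⟨y, hy, hy'⟩ := he'.lift R r hr.2
    refine ⟨pullback.lift x y (hx.trans hy.symm), ?_, fun z hz => ?_⟩
    · dsimp only
      rw [← Category.assoc, pullback.lift_fst, hx]
    · dsimp only at hz
      apply pullback.hom_ext
      · rw [pullback.lift_fst]
        exact hx' _ (by dsimp only; rw [Category.assoc, hz])
      · rw [pullback.lift_snd]
        exact hy' _ (by dsimp only; rw [Category.assoc, ← pullback.condition, hz])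

/-- Fibre products of algebraic spaces over a sheaf with representable diagonal are algebraic spaces. -/
theorem isAlgSpace_of_isPullback (hH : Representable (Limits.diag H)) (hX : IsAlgSpace X) (hY : IsAlgSpace Y)
    {f : X ⟶ H} {g : Y ⟶ H} {fst : P ⟶ X} {snd : P ⟶ Y} (sq : IsPullback fst snd f g) : IsAlgSpace P := by
  refine ⟨representable_diag_of_isPullback hX.diag hY.diag sq, ?_⟩
  obtain ⟨U, p, hp1, hp2⟩ := hX.atlas
  obtain ⟨V, q, hq1, hq2⟩ := hY.atlas
  -- `W = U ×_H V`
  obtain ⟨W, w, k, sqW⟩ := Functor.relativelyRepresentable.of_diag hH (p ≫ f) (q ≫ g)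
  -- `P₁ = U ×_H Y`
  have s1 : IsPullback (pullback.fst (p ≫ f) g) (pullback.snd (p ≫ f) g) (p ≫ f) g := IsPullback.of_hasPullback _ _
  have hc' : (pullback.fst (p ≫ f) g ≫ p) ≫ f = pullback.snd (p ≫ f) g ≫ g := by
    rw [Category.assoc, pullback.condition]
  have hm1 := sq.lift_fst _ _ hc'
  have hm2 := sq.lift_snd _ _ hc'
  have s2 : IsPullback (sq.lift _ _ hc') (pullback.fst (p ≫ f) g) fst p :=
    IsPullback.of_right (by rw [hm2]; exact s1.flip) hm1 sq.flip
  have s3 : IsPullback (s1.lift _ _ ((sqW.w).trans (Category.assoc _ _ _).symm)) ((yon S).map w) (pullback.snd (p ≫ f) g) q :=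
    IsPullback.of_right (by rw [s1.lift_fst]; exact sqW) (s1.lift_snd _ _ _) s1
  refine ⟨W, s1.lift _ _ ((sqW.w).trans (Category.assoc _ _ _).symm) ≫ sq.lift _ _ hc', ?_, ?_⟩
  · exact MorphismProperty.comp_mem _ _ _ (MorphismProperty.of_isPullback s3.flip hq1)
      (MorphismProperty.of_isPullback s2.flip hp1)
  · exact MorphismProperty.comp_mem _ _ _ (MorphismProperty.of_isPullback s3.flip hq2)
      (MorphismProperty.of_isPullback s2.flip hp2)

theorem isAlgSpace_pullback (hX : IsAlgSpace X) (hY : IsAlgSpace Y) (hH : IsAlgSpace H) (f : X ⟶ H) (g : Y ⟶ H) :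
    IsAlgSpace (pullback f g) :=
  isAlgSpace_of_isPullback hH.diag hX hY (IsPullback.of_hasPullback f g)

/-- An étale surjective chart. -/
structure Ch {U : Over S} (p : (yon S).obj U ⟶ X) : Prop where
  et : RepWith @Etale p
  surj : RepWith @Surjective p

theorem Ch.eSurj {U : Over S} {p : (yon S).obj U ⟶ X} (h : Ch p) : ESurj p := ESurj.of_repWith h.et h.surj

theorem Ch.fSurj {U : Over S} {p : (yon S).obj U ⟶ X} (h : Ch p) : FSurj p := h.eSurj.fSurj

theorem Ch.comp {U V : Over S} {p : (yon S).obj U ⟶ X} (h : Ch p) {c : V ⟶ U} (hc : EtC c) :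
    Ch ((yon S).map c ≫ p) :=
  ⟨MorphismProperty.comp_mem _ _ _ ((repWith_yon_map_iff _ _).2 hc.etale) h.et,
    MorphismProperty.comp_mem _ _ _ ((repWith_yon_map_iff _ _).2 hc.surj) h.surj⟩

theorem Ch.id (U : Over S) : Ch (𝟙 ((yon S).obj U)) := ⟨repWith_id _ _, repWith_id _ _⟩

theorem exists_ch (hX : IsAlgSpace X) : ∃ (U : Over S) (p : (yon S).obj U ⟶ X), Ch p := by
  obtain ⟨U, p, h1, h2⟩ := hX.atlas
  exact ⟨U, p, h1, h2⟩

/-- Given `f : X ⟶ Y` and étale charts `U ⟶ X`, `V ⟶ Y`, the fibre product `U ×_Y V` is an étale chart of `X` lying over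
`V`. -/
theorem exists_refine (hY : Representable (Limits.diag Y)) (f : X ⟶ Y) {U V : Over S} (p : (yon S).obj U ⟶ X)
    (q : (yon S).obj V ⟶ Y) :
    ∃ (W : Over S) (c : W ⟶ U) (α : W ⟶ V), IsPullback ((yon S).map c) ((yon S).map α) (p ≫ f) q := by
  obtain ⟨W, α, k, sq⟩ := Functor.relativelyRepresentable.of_diag hY (p ≫ f) q
  obtain ⟨c, rfl⟩ := (yon S).map_surjective k
  exact ⟨W, c, α, sq⟩

/-- the projection of such a fibre product to `U` is étale when `V ⟶ Y` is. -/
theorem etale_of_isPullback {U V W : Over S} {g : (yon S).obj U ⟶ Y} {q : (yon S).obj V ⟶ Y} {c : W ⟶ U} {α : W ⟶ V}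
    (sq : IsPullback ((yon S).map c) ((yon S).map α) g q) (hq : RepWith @Etale q) : Etale c.left :=
  hq.2 g _ c sq.flip

theorem prop_of_isPullback {Pr : MorphismProperty Scheme.{u}} {U V W : Over S} {g : (yon S).obj U ⟶ Y}
    {q : (yon S).obj V ⟶ Y} {c : W ⟶ U} {α : W ⟶ V}
    (sq : IsPullback ((yon S).map c) ((yon S).map α) g q) (hq : RepWith Pr q) : Pr c.left :=
  hq.2 g _ c sq.flip

/-- Chart lifting: a chart of the target and a map of algebraic spaces have a chart of the source over it. -/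
theorem exists_ch_over (hX : IsAlgSpace X) (hY : IsAlgSpace Y) (f : X ⟶ Y) {V : Over S} {q : (yon S).obj V ⟶ Y}
    (hq : Ch q) : ∃ (U : Over S) (p : (yon S).obj U ⟶ X) (α : U ⟶ V), Ch p ∧ p ≫ f = (yon S).map α ≫ q := by
  obtain ⟨U, p, hp⟩ := exists_ch hX
  obtain ⟨W, c, α, sq⟩ := exists_refine hY.diag f p q
  refine ⟨W, (yon S).map c ≫ p, α, hp.comp ⟨prop_of_isPullback sq hq.et, prop_of_isPullback sq hq.surj⟩, ?_⟩
  rw [Category.assoc]
  exact sq.w

end K613.Chart
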