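import Groth.Agent.AlgSp.K613.Unram

/-!
# Algebraic spaces: monomorphisms, universally injective morphisms, étale monomorphisms
-/

set_option autoImplicit false
universe u

open CategoryTheory CategoryTheory.Limits AlgebraicGeometry Opposite

namespace K613.Mono

open AlgSp K613.Basic K613.Cover K613.Chart K613.Diag K613.Unram

variable {S : Scheme.{u}} {F G H P Q X Y Z : Sp S}

/-- Precomposing a pullback square with an isomorphism. -/
theorem isPullback_iso_comp {f : X ⟶ Y} {g : Z ⟶ Y} {fst : P ⟶ X} {snd : P ⟶ Z} (sq : IsPullback fst snd f g)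
    (s : Q ⟶ P) [IsIso s] : IsPullback (s ≫ fst) (s ≫ snd) f g := by
  have h1 : IsPullback s (s ≫ snd) snd (𝟙 Z) := IsPullback.of_horiz_isIso ⟨by simp⟩
  simpa using h1.paste_horiz sq

theorem mono_of_repWith_diagonal {f : X ⟶ Y}
    (h : RepWith (MorphismProperty.isomorphisms Scheme.{u}) (pullback.diagonal f)) : CategoryTheory.Mono f := by
  rw [repWith_diagonal_iff] at h
  refine mono_of_injective fun T a b hab => ?_
  obtain ⟨E, e, he, hi⟩ := h T a b hab
  have h1 : IsIso e.left := hi
  have h2 : IsIso e := by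
    have : IsIso ((Over.forget S).map e) := h1
    exact isIso_of_reflects_iso e (Over.forget S)
  rw [← cancel_epi ((yon S).map e), he.w]

/-- Two field-valued points with the same image under a universally injective map agree after a field extension. -/
theorem exists_of_univInj {f : X ⟶ Y} (hinj : IsUnivInjectiveMor f) {K : Type u} [Field K]
    (str : Spec (.of K) ⟶ S) (u₁ u₂ : (yon S).obj (Over.mk str) ⟶ X) (h : u₁ ≫ f = u₂ ≫ f) :
    ∃ (Ω : Type u) (_ : Field Ω) (w : Spec (.of Ω) ⟶ S) (a : Over.mk w ⟶ Over.mk str),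
      (yon S).map a ≫ u₁ = (yon S).map a ≫ u₂ := by
  have sq : IsPullback (pullback.fst f (u₁ ≫ f)) (pullback.snd f (u₁ ≫ f)) f (u₁ ≫ f) := IsPullback.of_hasPullback _ _
  have w1 : u₁ ≫ f = 𝟙 _ ≫ u₁ ≫ f := (Category.id_comp _).symm
  have w2 : u₂ ≫ f = 𝟙 _ ≫ u₁ ≫ f := by rw [Category.id_comp, h]
  have hi := hinj (IsAlgSpace.yon_obj _) (u₁ ≫ f) _ _ sq
  let p₁ : FieldPt (pullback f (u₁ ≫ f)) := ⟨K, str, (J S).uliftYonedaEquiv (sq.lift u₁ (𝟙 _) w1)⟩
  let p₂ : FieldPt (pullback f (u₁ ≫ f)) := ⟨K, str, (J S).uliftYonedaEquiv (sq.lift u₂ (𝟙 _) w2)⟩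
  have h1 : Points.map (pullback.snd f (u₁ ≫ f)) (Points.mk p₁) = Points.map (pullback.snd f (u₁ ≫ f)) (Points.mk p₂) := by
    rw [Points.map_mk, Points.map_mk]
    have : p₁.map (pullback.snd f (u₁ ≫ f)) = p₂.map (pullback.snd f (u₁ ≫ f)) := by
      change (⟨K, str, _⟩ : FieldPt _) = ⟨K, str, _⟩
      congr 1
      change (pullback.snd f (u₁ ≫ f)).hom.app _ ((J S).uliftYonedaEquiv _) =
        (pullback.snd f (u₁ ≫ f)).hom.app _ ((J S).uliftYonedaEquiv _)
      rw [← GrothendieckTopology.uliftYonedaEquiv_comp, ← GrothendieckTopology.uliftYonedaEquiv_comp, sq.lift_snd,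
        sq.lift_snd]
    rw [this]
  obtain ⟨Ω, hΩ, w, a, b, hab⟩ := Points.mk_eq_mk_iff.1 (hi h1)
  refine ⟨Ω, hΩ, w, a, ?_⟩
  have h2 : (yon S).map a ≫ sq.lift u₁ (𝟙 _) w1 = (yon S).map b ≫ sq.lift u₂ (𝟙 _) w2 := by
    apply (J S).uliftYonedaEquiv.injective
    rw [← GrothendieckTopology.uliftYonedaEquiv_naturality, ← GrothendieckTopology.uliftYonedaEquiv_naturality]
    exact hab
  have h3 : (yon S).map a = (yon S).map b := by
    have := congrArg (· ≫ pullback.snd f (u₁ ≫ f)) h2
    simpa only [Category.assoc, sq.lift_snd, Category.comp_id] using this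
  have := congrArg (· ≫ pullback.fst f (u₁ ≫ f)) h2
  simp only [Category.assoc, sq.lift_fst] at this
  rw [this, h3]

/-- An étale morphism of schemes over `S` which, as a chart map to `T` of a sheaf `P` with `P ⟶ T` mono: then `P` is the
open image. -/
theorem exists_open_of_mono {T W : Over S} {q : P ⟶ (yon S).obj T} (hq : CategoryTheory.Mono q) {m : (yon S).obj W ⟶ P}
    (hm : FSurj m) {w : W ⟶ T} (hw : m ≫ q = (yon S).map w) (hwe : Etale w.left) :
    ∃ (O : Over S) (o : O ⟶ T) (s : (yon S).obj O ⟶ P), IsOpenImmersion o.left ∧ IsIso s ∧ s ≫ q = (yon S).map o := by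
  have := hwe
  let O : T.left.Opens := ⟨Set.range w.left, w.left.isOpenMap.isOpen_range⟩
  have hr : Set.range w.left ⊆ Set.range O.ι := by rw [Scheme.Opens.range_ι]; exact subset_rfl
  let O' : Over S := Over.mk (O.ι ≫ T.hom)
  let o : O' ⟶ T := Over.homMk O.ι rfl
  have ho : IsOpenImmersion o.left := inferInstanceAs (IsOpenImmersion O.ι)
  let cl : W.left ⟶ (O : Scheme.{u}) := IsOpenImmersion.lift O.ι w.left hr
  have hcl : cl ≫ O.ι = w.left := IsOpenImmersion.lift_fac _ _ _
  let c : W ⟶ O' := Over.homMk cl (by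
    change cl ≫ O.ι ≫ T.hom = W.hom
    rw [← Category.assoc, hcl]
    exact Over.w w)
  have hco : c ≫ o = w := by
    ext
    exact hcl
  have hc1 : Etale cl := by
    have : Etale (cl ≫ O.ι) := by rw [hcl]; infer_instance
    exact Etale.of_comp cl O.ι
  have hc2 : Surjective cl := ⟨by
    rintro ⟨_, y, rfl⟩
    refine ⟨y, O.ι.injective ?_⟩
    rw [← Scheme.Hom.comp_apply, hcl]
    rfl⟩
  have hc : EtC c := ⟨hc1, hc2⟩
  have homono : CategoryTheory.Mono o := by
    have : CategoryTheory.Mono ((Over.forget S).map o) := inferInstanceAs (CategoryTheory.Mono O.ι)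
    exact (Over.forget S).mono_of_mono_map this
  obtain ⟨s, hs, -⟩ := hc.fpC.glue m (fun R a b hab => by
    rw [← cancel_mono q, Category.assoc, Category.assoc, hw, ← Functor.map_comp, ← Functor.map_comp, ← hco,
      ← Category.assoc, ← Category.assoc, hab])
  have hsq : s ≫ q = (yon S).map o := by
    have := hc.fpC.epi
    rw [← cancel_epi ((yon S).map c), ← Category.assoc, hs, hw, ← Functor.map_comp, hco]
  have hsm : CategoryTheory.Mono s := by
    have : CategoryTheory.Mono (s ≫ q) := by rw [hsq]; infer_instance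
    exact mono_of_mono s q
  have hsf : FSurj s := by
    rw [← hs] at hm
    exact hm.of_comp
  exact ⟨O', o, s, ho, hsf.isIso_of_mono, hsq⟩

/-- An étale monomorphism of algebraic spaces is an open immersion. -/
theorem repWith_isOpenImmersion_of_mono (hX : IsAlgSpace X) {f : X ⟶ Y}
    (het : IsEtaleMor f) (hf : ∀ (T : Over S) (g : (yon S).obj T ⟶ Y), CategoryTheory.Mono (pullback.snd f g)) :
    RepWith @IsOpenImmersion f := by
  refine MorphismProperty.relative.of_exists fun T g => ?_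
  obtain ⟨U, a, ha⟩ := exists_ch hX
  have hφ := het a ha.et
  obtain ⟨W, w, k, sqW⟩ := hφ.1 g
  have hw : Etale w.left := hφ.2 _ _ _ sqW
  have sq : IsPullback (pullback.fst f g) (pullback.snd f g) f g := IsPullback.of_hasPullback _ _
  have hc : (k ≫ a) ≫ f = (yon S).map w ≫ g := by rw [Category.assoc]; exact sqW.w
  have sq2 : IsPullback (sq.lift _ _ hc) k (pullback.fst f g) a :=
    IsPullback.of_right (by rw [sq.lift_snd]; exact sqW.flip) (sq.lift_fst _ _ hc) sq.flip
  have hm : FSurj (sq.lift _ _ hc) := ha.fSurj.of_isPullback sq2.flip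
  obtain ⟨O, o, s, ho, hs, hso⟩ := exists_open_of_mono (hf T g) hm (sq.lift_snd _ _ _) hw
  refine ⟨O, s ≫ pullback.fst f g, o, ?_, ho⟩
  rw [← hso]
  exact isPullback_iso_comp sq s

end K613.Mono
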