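import Groth.Agent.AlgSp.K613.LqfSch
import Groth.Agent.AlgSp.K597.LocP
import Groth.Agent.AlgSp.K597.EtLoc

/-!
# Separated locally quasi-finite morphisms of algebraic spaces are representable
-/

set_option autoImplicit false
universe u

open CategoryTheory CategoryTheory.Limits AlgebraicGeometry Opposite AlgSp K613.Basic K613.Cover K613.Chart
  K613.Diag

namespace K613

variable {S : Scheme.{u}}

/-- A map of sheaves is representable as soon as its base changes to schemes are schemes. -/
theorem representable_of_exists_iso {F G : Sp S} {f : F ⟶ G}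
    (h : ∀ (T : Over S) (ξ : (yon S).obj T ⟶ G), ∃ V : Over S, Nonempty ((yon S).obj V ≅ pullback f ξ)) :
    Representable f := by
  intro T ξ
  obtain ⟨V, ⟨e⟩⟩ := h T ξ
  obtain ⟨v, hv⟩ := (yon S).map_surjective (e.hom ≫ pullback.snd f ξ)
  refine ⟨V, v, e.hom ≫ pullback.fst f ξ, ?_⟩
  rw [hv]
  exact (IsPullback.of_hasPullback f ξ).of_iso e.symm (Iso.refl _) (Iso.refl _) (Iso.refl _) (by simp) (by simp)
    (by simp) (by simp)

/-- A separated locally quasi-finite morphism of algebraic spaces is representable by schemes. -/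
theorem representable_of_lqf {X Y : Sp S} (hX : IsAlgSpace X) (hY : IsAlgSpace Y) (f : X ⟶ Y)
    (hqf : LocP (@LocallyQuasiFinite ⊓ @LocallyOfFiniteType) f) (sep : RepWith @IsClosedImmersion (pullback.diagonal f)) :
    Representable f := by
  refine representable_of_exists_iso fun T ξ => ?_
  have hT : IsAlgSpace ((yon S).obj T) := IsAlgSpace.yon_obj T
  have sq := IsPullback.of_hasPullback f ξ
  have := K597.stableBC_inf @LocallyQuasiFinite.{u} @LocallyOfFiniteType.{u}
  exact exists_iso_of_lqf (isAlgSpace_pullback hX hT hY f ξ) (pullback.snd f ξ)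
    (K597.locP_bc K597.etLoc_lqf sq hX.hasAtlas hY.hasAtlas hT.hasAtlas hqf) (repWith_diagonal_of_isPullback sep sq)

end K613
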