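import Groth.Agent.AlgSp.K613.Diag
import Mathlib.AlgebraicGeometry.Morphisms.FlatMono

/-!
# Algebraic spaces: diagonals and covers of the target, unramified morphisms
-/

set_option autoImplicit false
universe u

open CategoryTheory CategoryTheory.Limits AlgebraicGeometry Opposite

namespace K613.Unram

open AlgSp K613.Basic K613.Cover K613.Chart K613.Diag

variable {S : Scheme.{u}} {F G H P Q X Y Z : Sp S}

theorem prop_of_uniq {Pr : MorphismProperty Scheme.{u}} [Pr.IsStableUnderBaseChange] {T : Over S}
    {a b : (yon S).obj T ⟶ F} {E E' : Over S} {e : E ⟶ T} {e' : E' ⟶ T}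
    (h : IsEq a b e) (h' : IsEq a b e') (hP : Pr e.left) : Pr e'.left := by
  have : Pr.RespectsIso := MorphismProperty.IsStableUnderBaseChange.respectsIso
  obtain ⟨i, hi⟩ := h.uniq h'
  have h2 : i.hom.left ≫ e'.left = e.left := congrArg (·.left) hi
  rw [← h2] at hP
  exact (MorphismProperty.cancel_left_of_respectsIso Pr ((Over.forget S).mapIso i).hom e'.left).1 hP

/-- A property of an equalizer locus descends. -/
theorem prop_isEq_of_cover {Pr : MorphismProperty Scheme.{u}} [Pr.IsStableUnderBaseChange] [Pr.DescendsAlong fppf.{u}]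
    {T : Over S} {a b : (yon S).obj T ⟶ F} {E : Over S} {e : E ⟶ T} (h : IsEq a b e)
    {T' : Over S} {t : T' ⟶ T} (ht : FpC t) {E' : Over S} {e' : E' ⟶ T'}
    (h' : IsEq ((yon S).map t ≫ a) ((yon S).map t ≫ b) e') (hP : Pr e'.left) : Pr e.left := by
  have sq : IsPullback (pullback.fst e t) (pullback.snd e t) e t := IsPullback.of_hasPullback _ _
  have h1 := prop_of_uniq (Pr := Pr) h' (h.of_pullback sq) hP
  have sq' := sq.map (Over.forget S)
  exact MorphismProperty.of_isPullback_of_descendsAlong (P := Pr) (Q := fppf) sq'.flip ht.mem h1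

/-- A property of the relative diagonal descends along a cover of the target. -/
theorem repWith_diagonal_of_cover {Pr : MorphismProperty Scheme.{u}} [Pr.IsStableUnderBaseChange]
    [Pr.DescendsAlong fppf.{u}] {f : X ⟶ Y} (hX : Representable (pullback.diagonal f)) {b : H ⟶ Y} (hb : FSurj b)
    {fst : P ⟶ X} {snd : P ⟶ H} (sq : IsPullback fst snd f b) (h : RepWith Pr (pullback.diagonal snd)) :
    RepWith Pr (pullback.diagonal f) := by
  rw [repWith_diagonal_iff] at *
  rw [representable_diagonal_iff] at hX
  intro T a c hac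
  obtain ⟨E, e, he⟩ := hX T a c hac
  refine ⟨E, e, he, ?_⟩
  obtain ⟨T', t, z, ht, hz⟩ := hb T (a ≫ f)
  have w1 : ((yon S).map t ≫ a) ≫ f = z ≫ b := by rw [Category.assoc, hz]
  have w2 : ((yon S).map t ≫ c) ≫ f = z ≫ b := by rw [Category.assoc, ← hac, hz]
  obtain ⟨E', e', he', hP⟩ := h T' (sq.lift _ _ w1) (sq.lift _ _ w2) (by rw [sq.lift_snd, sq.lift_snd])
  refine prop_isEq_of_cover he ht (e' := e') ⟨?_, fun R r hr => ?_⟩ hP
  · have := congrArg (· ≫ fst) he'.w
    simpa only [Category.assoc, sq.lift_fst] using this
  · refine he'.lift R r ?_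
    apply sq.hom_ext
    · rw [Category.assoc, sq.lift_fst, Category.assoc, sq.lift_fst, hr]
    · rw [Category.assoc, sq.lift_snd, Category.assoc, sq.lift_snd]

/-- The map `R = U ×_X U ⟶ U ×_V U` for a chart `p : U ⟶ X` of a morphism `X ⟶ V`; and the equalizer loci in terms of
it. -/
theorem isEq_of_chart {U V R : Over S} {p : (yon S).obj U ⟶ X} {α : U ⟶ V} {s t : R ⟶ U} (sqR : IsPullback ((yon S).map s) ((yon S).map t) p p)
    (hst : s ≫ α = t ≫ α) {T : Over S} (a b : T ⟶ U) (hab : a ≫ α = b ≫ α) :
    IsEq ((yon S).map a ≫ p) ((yon S).map b ≫ p)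
      (pullback.snd (pullback.lift s t hst) (pullback.lift a b hab)) := by
  have hw := pullback.condition (f := pullback.lift s t hst) (g := pullback.lift a b hab)
  have h1 : pullback.snd (pullback.lift s t hst) (pullback.lift a b hab) ≫ a =
      pullback.fst (pullback.lift s t hst) (pullback.lift a b hab) ≫ s := by
    have := congrArg (· ≫ pullback.fst α α) hw
    simpa only [Category.assoc, pullback.lift_fst] using this.symm
  have h2 : pullback.snd (pullback.lift s t hst) (pullback.lift a b hab) ≫ b =
      pullback.fst (pullback.lift s t hst) (pullback.lift a b hab) ≫ t := by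
    have := congrArg (· ≫ pullback.snd α α) hw
    simpa only [Category.assoc, pullback.lift_snd] using this.symm
  refine ⟨?_, fun Z r hr => ?_⟩
  · rw [← Category.assoc, ← Category.assoc, ← Functor.map_comp, ← Functor.map_comp, h1, h2, Functor.map_comp,
      Functor.map_comp, Category.assoc, Category.assoc, sqR.w]
  · rw [← Category.assoc, ← Category.assoc, ← Functor.map_comp, ← Functor.map_comp] at hr
    obtain ⟨ρ, hρ⟩ := (yon S).map_surjective (sqR.lift _ _ hr)
    have hρ1 : ρ ≫ s = r ≫ a := by
      apply (yon S).map_injective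
      rw [Functor.map_comp, hρ, sqR.lift_fst]
    have hρ2 : ρ ≫ t = r ≫ b := by
      apply (yon S).map_injective
      rw [Functor.map_comp, hρ, sqR.lift_snd]
    have hj : Mono (pullback.lift s t hst) := by
      refine ⟨fun {W} x y hxy => ?_⟩
      apply (yon S).map_injective
      apply sqR.hom_ext
      · have := congrArg (· ≫ pullback.fst α α) hxy
        simp only [Category.assoc, pullback.lift_fst] at this
        rw [← Functor.map_comp, ← Functor.map_comp, this]
      · have := congrArg (· ≫ pullback.snd α α) hxy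
        simp only [Category.assoc, pullback.lift_snd] at this
        rw [← Functor.map_comp, ← Functor.map_comp, this]
    have hl : ρ ≫ pullback.lift s t hst = r ≫ pullback.lift a b hab := by
      apply pullback.hom_ext
      · rw [Category.assoc, Category.assoc, pullback.lift_fst, pullback.lift_fst, hρ1]
      · rw [Category.assoc, Category.assoc, pullback.lift_snd, pullback.lift_snd, hρ2]
    refine ⟨pullback.lift ρ r hl, pullback.lift_snd _ _ _, fun z hz => ?_⟩
    rw [← cancel_mono (pullback.snd (pullback.lift s t hst) (pullback.lift a b hab)), pullback.lift_snd]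
    exact hz

/-- A property of the diagonal of a morphism from an algebraic space to a scheme is a property of
`U ×_X U ⟶ U ×_V U`. -/
theorem repWith_diagonal_of_chart {Pr : MorphismProperty Scheme.{u}} [Pr.IsStableUnderBaseChange]
    [Pr.DescendsAlong fppf.{u}] {U V R : Over S} {p : (yon S).obj U ⟶ X} (hp : FSurj p)
    {f : X ⟶ (yon S).obj V} (hX : Representable (pullback.diagonal f)) {α : U ⟶ V} (hα : p ≫ f = (yon S).map α)
    {s t : R ⟶ U} (sqR : IsPullback ((yon S).map s) ((yon S).map t) p p)
    (hst : s ≫ α = t ≫ α) (h : Pr (pullback.lift s t hst).left) : RepWith Pr (pullback.diagonal f) := by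
  rw [repWith_diagonal_iff]
  rw [representable_diagonal_iff] at hX
  intro T a b hab
  obtain ⟨E, e, he⟩ := hX T a b hab
  refine ⟨E, e, he, ?_⟩
  obtain ⟨T₁, c₁, a₁, hc₁, ha₁⟩ := hp T a
  obtain ⟨T₂, c₂, b₂, hc₂, hb₂⟩ := hp T₁ ((yon S).map c₁ ≫ b)
  obtain ⟨a₁, rfl⟩ := (yon S).map_surjective a₁
  obtain ⟨b₂, rfl⟩ := (yon S).map_surjective b₂
  have hA : (yon S).map (c₂ ≫ a₁) ≫ p = (yon S).map (c₂ ≫ c₁) ≫ a := by
    rw [Functor.map_comp, Category.assoc, ha₁, Functor.map_comp, Category.assoc]
  have hB : (yon S).map b₂ ≫ p = (yon S).map (c₂ ≫ c₁) ≫ b := by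
    rw [hb₂, Functor.map_comp, Category.assoc]
  have hαα : (c₂ ≫ a₁) ≫ α = b₂ ≫ α := by
    apply (yon S).map_injective
    rw [Functor.map_comp, Functor.map_comp _ b₂, ← hα, ← Category.assoc, ← Category.assoc, hA, hB, Category.assoc,
      Category.assoc, hab]
  have h1 := isEq_of_chart sqR hst (c₂ ≫ a₁) b₂ hαα
  rw [hA, hB] at h1
  refine prop_isEq_of_cover he (hc₁.comp hc₂) h1 ?_
  exact Pr.of_isPullback ((IsPullback.of_hasPullback _ _).map (Over.forget S)) h

theorem mono_left {A B : Over S} (g : A ⟶ B) [Mono g] : Mono g.left :=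
  inferInstanceAs (Mono ((Over.forget S).map g))

/-- An unramified morphism from an algebraic space to a scheme has diagonal an open immersion. -/
theorem isOpenImmersion_of_unramified {U V R : Over S} {p : (yon S).obj U ⟶ X} (hp : RepWith @Etale p)
    {α : U ⟶ V} [LocallyOfFiniteType α.left] [FormallyUnramified α.left]
    {s t : R ⟶ U} (sqR : IsPullback ((yon S).map s) ((yon S).map t) p p)
    (hst : s ≫ α = t ≫ α) : IsOpenImmersion (pullback.lift s t hst).left := by
  have hj : Mono (pullback.lift s t hst) := by
    refine ⟨fun {W} x y hxy => ?_⟩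
    apply (yon S).map_injective
    apply sqR.hom_ext
    · have := congrArg (· ≫ pullback.fst α α) hxy
      simp only [Category.assoc, pullback.lift_fst] at this
      rw [← Functor.map_comp, ← Functor.map_comp, this]
    · have := congrArg (· ≫ pullback.snd α α) hxy
      simp only [Category.assoc, pullback.lift_snd] at this
      rw [← Functor.map_comp, ← Functor.map_comp, this]
  have hj' := mono_left (pullback.lift s t hst)
  have hs : Etale s.left := prop_of_isPullback sqR hp
  have sq := (IsPullback.of_hasPullback α α).map (Over.forget S)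
  have h1 : LocallyOfFiniteType (pullback.fst α α).left :=
    MorphismProperty.of_isPullback (P := @LocallyOfFiniteType) sq.flip ‹_›
  have h2 : FormallyUnramified (pullback.fst α α).left :=
    MorphismProperty.of_isPullback (P := @FormallyUnramified) sq.flip ‹_›
  have h3 : (pullback.lift s t hst).left ≫ (pullback.fst α α).left = s.left :=
    congrArg (·.left) (pullback.lift_fst (f := α) (g := α) s t hst)
  have h4 : Etale ((pullback.lift s t hst).left ≫ (pullback.fst α α).left) := by rw [h3]; exact hs
  have h5 : Etale (pullback.lift s t hst).left := Etale.of_comp _ (pullback.fst α α).left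
  exact IsOpenImmersion.of_flat_of_mono _

end K613.Unram
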