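import Groth.Agent.AlgSp.K640.ElemDist
import Groth.Agent.AlgSp.K640.SchFam
import Groth.Agent.AlgSp.K595.DescInst
import Groth.Agent.AlgSp.K597.LocP

/-!
# Contractions through elementary distinguished squares, formal part

`(U ⊂ X, φ : W ⟶ X)` and `(U ⊂ X₁, g : V ⟶ X₁)` are elementary distinguished squares with the same corner `P`,
`c : W ⟶ V` is an isomorphism over `P`, and `f : X ⟶ X₁` is the induced map. Then the squares `f⁻¹ U = U` and
`f⁻¹ V = W` are cartesian.
-/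

set_option autoImplicit false
universe u
open CategoryTheory CategoryTheory.Limits AlgebraicGeometry Opposite
open AlgSp K613.Basic K613.Cover K640.Joint K640.SchFam K640.ElemDist

namespace K613.ContrFormal

variable {S : Scheme.{u}} {U X W V P X₁ : Sp S}

theorem mono_of_repWith_openImm {j : U ⟶ X} (hj : RepWith @IsOpenImmersion j) : Mono j := by
  refine K613.Basic.mono_of_injective fun T x y hxy => ?_
  obtain ⟨R', d, fst', sq'⟩ := hj.1 (x ≫ j)
  have hd : IsOpenImmersion d.left := hj.2 _ _ _ sq'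
  have hmono : Mono d := by
    refine ⟨fun x y hxy => Over.OverMorphism.ext ?_⟩
    rw [← cancel_mono d.left]
    exact congrArg (fun z => z.left) hxy
  obtain ⟨a, ha⟩ := (yon S).map_surjective (sq'.lift x (𝟙 _) (by rw [Category.id_comp]))
  obtain ⟨b, hb⟩ := (yon S).map_surjective (sq'.lift y (𝟙 _) (by rw [Category.id_comp, hxy]))
  have hab : a = b := by
    rw [← cancel_mono d]
    apply (yon S).map_injective
    rw [Functor.map_comp, Functor.map_comp, ha, hb, sq'.lift_snd, sq'.lift_snd]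
  rw [← sq'.lift_fst x (𝟙 _) (by rw [Category.id_comp]), ← ha, hab, hb, sq'.lift_fst]

/-- The data of a contraction. -/
structure Dat (jX : U ⟶ X) (φ : W ⟶ X) (pU : P ⟶ U) (pW : P ⟶ W) (c : W ⟶ V) (j : U ⟶ X₁) (g : V ⟶ X₁)
    (f : X ⟶ X₁) : Prop where
  hX : IsElemDistSq jX φ
  hP : IsPullback pU pW jX φ
  hc : IsPullback pW (𝟙 P) c (pW ≫ c)
  hX₁ : IsElemDistSq j g
  hP₁ : IsPullback (pW ≫ c) pU g j
  hW : IsAlgSpace W
  hV : IsAlgSpace V
  f₁ : jX ≫ f = j
  f₂ : φ ≫ f = c ≫ g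

variable {jX : U ⟶ X} {φ : W ⟶ X} {pU : P ⟶ U} {pW : P ⟶ W} {c : W ⟶ V} {j : U ⟶ X₁} {g : V ⟶ X₁} {f : X ⟶ X₁}

namespace Dat

theorem mono_j (h : Dat jX φ pU pW c j g f) : Mono j := mono_of_repWith_openImm h.hX₁.1

theorem mono_pc (h : Dat jX φ pU pW c j g f) : Mono (pW ≫ c) := by
  have := h.mono_j
  exact h.hP₁.mono_fst_of_mono

/-- `f⁻¹ U = U` -/
theorem eq_of_f_eq (h : Dat jX φ pU pW c j g f) {T : Over S} (α : (yon S).obj T ⟶ X) (β : (yon S).obj T ⟶ U)
    (hαβ : α ≫ f = β ≫ j) : α = β ≫ jX := by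
  have := h.mono_j
  obtain ⟨ι, T', cc, k, z, hcc, hz⟩ := jSurj_of_isElemDistSq h.hW h.hX T α
  refine hcc.ext fun i => ?_
  have hz' := hz i
  generalize z i = a at hz'
  generalize k i = m at a hz'
  match m with
  | true =>
    change (yon S).obj _ ⟶ U at a
    change a ≫ jX = _ at hz'
    have h1 : a = (yon S).map (cc i) ≫ β := by
      rw [← cancel_mono j, ← h.f₁, ← Category.assoc, hz', Category.assoc, Category.assoc, hαβ, h.f₁]
    rw [← hz', h1, Category.assoc]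
  | false =>
    change (yon S).obj _ ⟶ W at a
    change a ≫ φ = _ at hz'
    have h1 : (a ≫ c) ≫ g = ((yon S).map (cc i) ≫ β) ≫ j := by
      rw [Category.assoc, ← h.f₂, ← Category.assoc, hz', Category.assoc, hαβ, Category.assoc]
    have h2 : a ≫ c = h.hP₁.lift _ _ h1 ≫ pW ≫ c := (h.hP₁.lift_fst _ _ h1).symm
    have h3 : h.hP₁.lift _ _ h1 ≫ pW = a := by
      have h4 := h.hc.lift_snd _ _ h2
      rw [Category.comp_id] at h4
      rw [← h4, h.hc.lift_fst]
    rw [← hz', ← h3, Category.assoc, ← h.hP.w, ← Category.assoc, h.hP₁.lift_snd, Category.assoc]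

theorem isPullback_U (h : Dat jX φ pU pW c j g f) : IsPullback jX (𝟙 U) f j := by
  have := mono_of_repWith_openImm h.hX.1
  refine K613.Basic.isPullback_of_yon (by rw [h.f₁, Category.id_comp]) fun T α β hαβ => ?_
  refine ⟨β, ⟨(h.eq_of_f_eq α β hαβ).symm, Category.comp_id _⟩, fun y hy => ?_⟩
  rw [← hy.2, Category.comp_id]

/-- `(φ, c)` is a monomorphism. -/
theorem eq_of_eq (h : Dat jX φ pU pW c j g f) {R : Over S} (x y : (yon S).obj R ⟶ W) (h₁ : x ≫ φ = y ≫ φ)
    (h₂ : x ≫ c = y ≫ c) : x = y := by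
  have := h.mono_pc
  obtain ⟨R₁, R₂, c₁, c₂, z₁, hcc, hz₁, hz₂⟩ := fpC₂_of_isElemDistSq h.hW h.hX x y h₁
  refine hcc.ext ?_ hz₂
  have hx : z₁ ≫ jX = ((yon S).map c₁ ≫ x) ≫ φ := by rw [Category.assoc, hz₁]
  have hy : z₁ ≫ jX = ((yon S).map c₁ ≫ y) ≫ φ := by rw [Category.assoc, hz₁, h₁]
  have h3 : h.hP.lift _ _ hx = h.hP.lift _ _ hy := by
    rw [← cancel_mono (pW ≫ c), ← Category.assoc, ← Category.assoc, h.hP.lift_snd, h.hP.lift_snd, Category.assoc,
      Category.assoc, h₂]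
  rw [← h.hP.lift_snd _ _ hx, h3, h.hP.lift_snd]

theorem exists_of_U (h : Dat jX φ pU pW c j g f) {T : Over S} (u : (yon S).obj T ⟶ U) (β : (yon S).obj T ⟶ V)
    (hu : u ≫ j = β ≫ g) : ∃ w : (yon S).obj T ⟶ W, w ≫ φ = u ≫ jX ∧ w ≫ c = β := by
  refine ⟨h.hP₁.lift _ _ hu.symm ≫ pW, ?_, ?_⟩
  · rw [Category.assoc, ← h.hP.w, ← Category.assoc, h.hP₁.lift_snd]
  · rw [Category.assoc, h.hP₁.lift_fst]

theorem exists_glue (h : Dat jX φ pU pW c j g f) {T : Over S} (α : (yon S).obj T ⟶ X) (β : (yon S).obj T ⟶ V)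
    {ι : Type u} {T' : ι → Over S} {cc : ∀ i, T' i ⟶ T} (hcc : FpF cc)
    (H : ∀ i, ∃ w : (yon S).obj (T' i) ⟶ W, w ≫ φ = (yon S).map (cc i) ≫ α ∧ w ≫ c = (yon S).map (cc i) ≫ β) :
    ∃ w : (yon S).obj T ⟶ W, w ≫ φ = α ∧ w ≫ c = β := by
  choose w hw₁ hw₂ using H
  obtain ⟨y, hy, -⟩ := hcc.glue w (fun i k R a b hab => by
    apply h.eq_of_eq
    · rw [Category.assoc, Category.assoc, hw₁, hw₁, ← Category.assoc, ← Category.assoc, ← Functor.map_comp,
        ← Functor.map_comp, hab]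
    · rw [Category.assoc, Category.assoc, hw₂, hw₂, ← Category.assoc, ← Category.assoc, ← Functor.map_comp,
        ← Functor.map_comp, hab])
  refine ⟨y, hcc.ext fun i => ?_, hcc.ext fun i => ?_⟩
  · rw [← Category.assoc, hy, hw₁]
  · rw [← Category.assoc, hy, hw₂]

/-- `f⁻¹ V = W` -/
theorem isPullback_V (h : Dat jX φ pU pW c j g f) : IsPullback φ c f g := by
  refine K613.Basic.isPullback_of_yon h.f₂ fun T α β hαβ => ?_
  suffices H : ∃ w : (yon S).obj T ⟶ W, w ≫ φ = α ∧ w ≫ c = β by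
    obtain ⟨w, hw₁, hw₂⟩ := H
    exact ⟨w, ⟨hw₁, hw₂⟩, fun y hy => h.eq_of_eq _ _ (hy.1.trans hw₁.symm) (hy.2.trans hw₂.symm)⟩
  obtain ⟨ι, T', cc, k, z, hcc, hz⟩ := jSurj_of_isElemDistSq h.hW h.hX T α
  refine h.exists_glue α β hcc fun i => ?_
  have hz' := hz i
  generalize z i = a at hz'
  generalize k i = m at a hz'
  match m with
  | true =>
    change (yon S).obj _ ⟶ U at a
    change a ≫ jX = _ at hz'
    obtain ⟨w, hw₁, hw₂⟩ := h.exists_of_U a ((yon S).map (cc i) ≫ β) (by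
      rw [← h.f₁, ← Category.assoc, hz', Category.assoc, hαβ, Category.assoc])
    exact ⟨w, hw₁.trans hz', hw₂⟩
  | false =>
    change (yon S).obj _ ⟶ W at a
    change a ≫ φ = _ at hz'
    have h1 : (a ≫ c) ≫ g = ((yon S).map (cc i) ≫ β) ≫ g := by
      rw [Category.assoc, ← h.f₂, ← Category.assoc, hz', Category.assoc, hαβ, Category.assoc]
    obtain ⟨R₁, R₂, c₁, c₂, z₁, hcc₂, hz₁, hz₂⟩ := fpC₂_of_isElemDistSq h.hV h.hX₁ _ _ h1
    refine h.exists_glue _ _ hcc₂.fpF fun k => ?_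
    match k with
    | ⟨true⟩ =>
      change ∃ w : (yon S).obj R₁ ⟶ W, w ≫ φ = (yon S).map c₁ ≫ (yon S).map (cc i) ≫ α ∧
        w ≫ c = (yon S).map c₁ ≫ (yon S).map (cc i) ≫ β
      have h2 : (yon S).map c₁ ≫ (yon S).map (cc i) ≫ α = z₁ ≫ jX := h.eq_of_f_eq _ _ (by
        rw [hz₁, h1, Category.assoc, Category.assoc, hαβ, Category.assoc])
      rw [h2]
      refine h.exists_of_U _ _ ?_
      rw [hz₁, h1]
      simp only [Category.assoc]
    | ⟨false⟩ =>
      refine ⟨(yon S).map c₂ ≫ a, ?_, ?_⟩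
      · change ((yon S).map c₂ ≫ a) ≫ φ = (yon S).map c₂ ≫ (yon S).map (cc i) ≫ α
        rw [Category.assoc, hz']
      · change ((yon S).map c₂ ≫ a) ≫ c = (yon S).map c₂ ≫ (yon S).map (cc i) ≫ β
        rw [Category.assoc, hz₂]

/-- `f` has a property if `c` does. -/
theorem repWith_f (h : Dat jX φ pU pW c j g f) {Pr : MorphismProperty Scheme.{u}} [Pr.DescendsAlong K613.Cover.fppf.{u}]
    [Pr.IsStableUnderBaseChange] [IsZariskiLocalAtTarget Pr] [Pr.ContainsIdentities] (hf : Representable f)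
    (hc : RepWith Pr c) : RepWith Pr f := by
  refine ⟨hf, fun T Q x fst snd sq => ?_⟩
  obtain ⟨ι, T', cc, k, z, hcc, hz⟩ := jSurj_of_isElemDistSq h.hV h.hX₁ T x
  refine of_fpF snd hcc fun i => ?_
  refine ⟨pullback snd (cc i), pullback.fst snd (cc i), pullback.snd snd (cc i), IsPullback.of_hasPullback _ _, ?_⟩
  have sq' : IsPullback ((yon S).map (pullback.fst snd (cc i)) ≫ fst) ((yon S).map (pullback.snd snd (cc i))) f
      ((yon S).map (cc i) ≫ x) := ((IsPullback.of_hasPullback snd (cc i)).map (yon S)).paste_horiz sq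
  rw [← hz i] at sq'
  generalize z i = a at sq'
  generalize k i = m at a sq'
  match m with
  | true =>
    change (yon S).obj _ ⟶ U at a
    have sq'' : IsPullback _ _ f (a ≫ j) := sq'
    have h1 : RepWith Pr (𝟙 U) := by
      refine ⟨(inferInstance : (Representable (S := S)).IsMultiplicative).id_mem U, fun T' Q' x' fst' snd' s' => ?_⟩
      have h2 : IsIso ((yon S).map snd') := s'.isIso_snd_of_isIso
      have h3 : IsIso snd' := isIso_of_fully_faithful (yon S) snd'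
      have h4 : IsIso snd'.left := inferInstanceAs (IsIso ((Over.forget S).map snd'))
      have := MorphismProperty.IsStableUnderBaseChange.respectsIso (P := Pr)
      exact MorphismProperty.of_isIso Pr snd'.left
    obtain ⟨l, hl₁, hl₂⟩ : ∃ l, l ≫ jX = (yon S).map (pullback.fst snd (cc i)) ≫ fst ∧ l ≫ 𝟙 U =
        (yon S).map (pullback.snd snd (cc i)) ≫ a :=
      ⟨h.isPullback_U.lift _ _ (by rw [sq''.w, Category.assoc]), h.isPullback_U.lift_fst _ _ _,
        h.isPullback_U.lift_snd _ _ _⟩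
    have sq3 : IsPullback l ((yon S).map (pullback.snd snd (cc i))) (𝟙 U) a := by
      refine IsPullback.of_right ?_ hl₂ h.isPullback_U
      rw [hl₁]
      exact sq''
    exact h1.2 a _ _ sq3
  | false =>
    change (yon S).obj _ ⟶ V at a
    have sq'' : IsPullback _ _ f (a ≫ g) := sq'
    obtain ⟨l, hl₁, hl₂⟩ : ∃ l, l ≫ φ = (yon S).map (pullback.fst snd (cc i)) ≫ fst ∧ l ≫ c =
        (yon S).map (pullback.snd snd (cc i)) ≫ a :=
      ⟨h.isPullback_V.lift _ _ (by rw [sq''.w, Category.assoc]), h.isPullback_V.lift_fst _ _ _,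
        h.isPullback_V.lift_snd _ _ _⟩
    have sq3 : IsPullback l ((yon S).map (pullback.snd snd (cc i))) c a := by
      refine IsPullback.of_right ?_ hl₂ h.isPullback_V
      rw [hl₁]
      exact sq''
    exact hc.2 a _ _ sq3

end Dat

end K613.ContrFormal
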