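import Groth.Agent.AlgSp.K597.ProperSub
import Groth.Agent.AlgSp.K597.EtLoc
import Groth.Agent.AlgSp.K610.Base
import Groth.Agent.AlgSp.K608.SepAbs
import Groth.Agent.AlgSp.K651.Sigma
import Groth.Agent.AlgSp.K596.QC
import Groth.Agent.AlgSp.K596.SepSurj

/-!
# A space covered by two charts, and images of schemes under proper surjective morphisms
-/

set_option autoImplicit false
universe u
open CategoryTheory CategoryTheory.Limits AlgebraicGeometry Opposite
open AlgSp

namespace K613.ContrLem

variable {S : Scheme.{u}}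

/-- The structure morphism of a sheaf. -/
noncomputable def str (F : Sp S) : F ⟶ (yon S).obj (Over.mk (𝟙 S)) :=
  (IsTerminal.isTerminalObj (yon S) (Over.mk (𝟙 S)) Over.mkIdTerminal).from F

theorem eq_str {F : Sp S} (x y : F ⟶ (yon S).obj (Over.mk (𝟙 S))) : x = y :=
  (IsTerminal.isTerminalObj (yon S) (Over.mk (𝟙 S)) Over.mkIdTerminal).hom_ext _ _

/-- A space covered by two étale charts which are locally of finite type is locally of finite type. -/
theorem locP_lft_of_two {F : Sp S} (hF : IsAlgSpace F) {U V : Over S} (j : (yon S).obj U ⟶ F) (g : (yon S).obj V ⟶ F)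
    (hj : RepWith @Etale j) (hg : RepWith @Etale g) (hs : ∀ x : Points F, x ∈ Set.range (Points.map j) ∨
      x ∈ Set.range (Points.map g)) (hU : LocallyOfFiniteType U.hom) (hV : LocallyOfFiniteType V.hom)
    (q : F ⟶ (yon S).obj (Over.mk (𝟙 S))) : LocP @LocallyOfFiniteType q := by
  let Z : ULift.{u} Bool → Over S := fun b => match b with
    | ⟨true⟩ => U
    | ⟨false⟩ => V
  let p : ∀ b, (yon S).obj (Z b) ⟶ F := fun b => match b with
    | ⟨true⟩ => j
    | ⟨false⟩ => g
  obtain ⟨r, hr, hrp⟩ := K651.Sigma.exists_union hF.diag Z p (fun b => match b with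
    | ⟨true⟩ => hj
    | ⟨false⟩ => hg)
  have hsurj : Function.Surjective (Points.map r) := by
    intro x
    rcases hs x with ⟨y, rfl⟩ | ⟨y, rfl⟩
    · refine ⟨Points.map ((yon S).map (K651.Sigma.inc Z ⟨true⟩)) y, ?_⟩
      rw [← Points.map_comp, hrp ⟨true⟩]
    · refine ⟨Points.map ((yon S).map (K651.Sigma.inc Z ⟨false⟩)) y, ?_⟩
      rw [← Points.map_comp, hrp ⟨false⟩]
  refine K597.locP_of_chart (K597.etLoc_lft) q r (𝟙 _) (Over.homMk (K651.Sigma.sig Z).hom (by simp)) hr
    (K610.Base.repWith_surjective_of_points hr.1 hsurj) (repWith_id _ _) (eq_str _ _) ?_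
  change LocallyOfFiniteType (Sigma.desc fun i => (Z i).hom)
  refine IsZariskiLocalAtSource.sigmaDesc fun b => ?_
  match b with
  | ⟨true⟩ => exact hU
  | ⟨false⟩ => exact hV

/-- A space which is the image of a separated scheme under a proper surjective morphism. -/
theorem isSeparatedMor_of_repWith_proper (X₁ : Space S) {T : Over S} (f : (yon S).obj T ⟶ X₁.obj)
    (hf : RepWith @IsProper f) (hs : RepWith @Surjective f) (hT : IsSeparated T.hom)
    (q : X₁.obj ⟶ (yon S).obj (Over.mk (𝟙 S))) : IsSeparatedMor q := by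
  have hfp : IsProperMor f := (K597.Proper.isProperMor_iff_repWith X₁.property hf.1).2 hf
  have h1 := (K596.SepSurj.separation_of_surjective_univClosed (X := ⟨(yon S).obj T, IsAlgSpace.yon_obj _⟩)
    (Y := X₁) (B := ⟨(yon S).obj (Over.mk (𝟙 S)), IsAlgSpace.yon_obj _⟩) (ObjectProperty.homMk f)
    (ObjectProperty.homMk ((yon S).map (Over.homMk T.hom (by simp)))) (ObjectProperty.homMk q)
    (ObjectProperty.hom_ext _ (eq_str _ _)) (K610.Base.surjective_points_of_repWith hs) hfp.2.2).2
  exact h1 ((isSeparatedMor_yon_map_iff _).2 hT)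

theorem isQuasiCompactMor_of_repWith_surjective {F : Sp S} (hF : IsAlgSpace F) {T : Over S} (f : (yon S).obj T ⟶ F)
    (hs : RepWith @Surjective f) (hT : QuasiCompact T.hom)
    (q : F ⟶ (yon S).obj (Over.mk (𝟙 S))) : IsQuasiCompactMor q := by
  refine K596.QC.isQuasiCompactMor_of_surjective_comp hF (IsAlgSpace.yon_obj _)
    (K610.Base.surjective_points_of_repWith hs) ?_
  rw [eq_str (f ≫ q) ((yon S).map (Over.homMk T.hom (by simp)))]
  exact K596.QC.isQuasiCompactMor_of_repWith ((repWith_yon_map_iff _ _).2 hT)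

end K613.ContrLem
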