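import Groth.Agent.AlgSp.K613.ContrFormal
import Groth.Agent.AlgSp.K613.ContrLem
import Groth.Agent.S10696

/-!
# Glueing a contraction of an étale neighbourhood into a separated algebraic space
-/

set_option autoImplicit false
universe u
open CategoryTheory CategoryTheory.Limits AlgebraicGeometry Opposite
open AlgSp K640.ElemDist K640.Joint

namespace K613.ContrGlue

/-! ## Schemes -/

theorem openImm_of_eq {W V : Scheme.{u}} {c : W ⟶ V} {Vp : V.Opens} {O : W.Opens} (h : c ⁻¹ᵁ Vp = O)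
    (hiso : IsIso (c ∣_ Vp)) : IsOpenImmersion (O.ι ≫ c) ∧ IsPullback O.ι (𝟙 _) c (O.ι ≫ c) := by
  subst h
  have h1 : (c ⁻¹ᵁ Vp).ι ≫ c = (c ∣_ Vp) ≫ Vp.ι := (morphismRestrict_ι c Vp).symm
  refine ⟨by rw [h1]; infer_instance, ?_⟩
  have sq := (isPullback_morphismRestrict c Vp).flip
  refine IsPullback.of_iso sq (Iso.refl _) (Iso.refl _) (asIso (c ∣_ Vp)).symm (Iso.refl _) (by simp) (by simp)
    (by simp) ?_
  simp only [Iso.symm_hom, asIso_inv, Iso.refl_hom, Category.comp_id]
  rw [h1, IsIso.inv_hom_id_assoc]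

/-! ## Points -/

section

variable {S : Scheme.{u}}

theorem range_map_yon {A B : Over S} (g : A ⟶ B) :
    Set.range (Points.map ((yon S).map g)) = Points.schemeHomeo B '' Set.range g.left := by
  ext x
  constructor
  · rintro ⟨y, rfl⟩
    obtain ⟨z, rfl⟩ := (Points.schemeHomeo A).surjective y
    exact ⟨g.left z, ⟨z, rfl⟩, (Points.map_yon_map_apply g z).symm⟩
  · rintro ⟨_, ⟨z, rfl⟩, rfl⟩
    exact ⟨Points.schemeHomeo A z, Points.map_yon_map_apply g z⟩

theorem ofPt_eq {F : Sp S} {T : Over S} (g : (yon S).obj T ⟶ F) (t : T.left) :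
    Points.ofPt g t = Points.map g (Points.schemeHomeo T t) := Points.ofPt_eq_map_ofScheme _ _

/-- The elementary distinguished square of schemes. -/
theorem isElemDistSq_yon {A B C T : Over S} (j : A ⟶ C) (f : B ⟶ C) (i : T ⟶ C) [IsOpenImmersion j.left] [Etale f.left]
    [IsClosedImmersion i.left] [IsReduced T.left] (h : Set.range i.left = (Set.range j.left)ᶜ)
    (hi : IsIso (pullback.snd f.left i.left)) : IsElemDistSq ((yon S).map j) ((yon S).map f) := by
  refine ⟨(repWith_yon_map_iff _ _).2 ‹_›, (isEtaleMor_yon_map_iff _).2 ‹_›, (yon S).obj T,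
    (yon S).obj (Over.mk (pullback.snd f.left i.left ≫ T.hom)), (yon S).map i,
    (yon S).map (Over.homMk (pullback.snd f.left i.left) rfl),
    (yon S).map (Over.homMk (pullback.fst f.left i.left) ?_), ⟨?_, ?_, ?_⟩, ?_, ?_⟩
  · change pullback.fst f.left i.left ≫ B.hom = pullback.snd f.left i.left ≫ T.hom
    rw [← Over.w f, ← Over.w i, pullback.condition_assoc]
  · exact (repWith_yon_map_iff _ _).2 ‹_›
  · rw [range_map_yon, range_map_yon, h, Set.image_compl_eq (Points.schemeHomeo C).bijective]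
  · exact ⟨T, 𝟙 _, repWith_id _ _, repWith_id _ _, ‹_›⟩
  · refine IsPullback.map (yon S) (K596.Univ.isPullback_over ?_ ?_)
    · ext1
      exact pullback.condition.symm
    · exact (IsPullback.of_hasPullback f.left i.left).flip
  · have h1 : IsIso (Over.homMk (pullback.snd f.left i.left) rfl :
        Over.mk (pullback.snd f.left i.left ≫ T.hom) ⟶ T) := by
      have : IsIso ((Over.forget S).map (Over.homMk (pullback.snd f.left i.left) rfl :
        Over.mk (pullback.snd f.left i.left ≫ T.hom) ⟶ T)) := hi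
      exact isIso_of_reflects_iso _ (Over.forget S)
    infer_instance

theorem points_cover {U V W : Sp S} {j : U ⟶ W} {g : V ⟶ W} (h : IsElemDistSq j g) (x : Points W) :
    x ∈ Set.range (Points.map j) ∨ x ∈ Set.range (Points.map g) := by
  obtain ⟨-, -, T, P', i, p₁, p₂, ⟨-, hrange, -⟩, sq, hiso⟩ := h
  by_cases hx : x ∈ Set.range (Points.map j)
  · exact Or.inl hx
  · have hx' : x ∈ Set.range (Points.map i) := by rw [hrange]; exact hx
    obtain ⟨t, rfl⟩ := hx'
    refine Or.inr ⟨Points.map p₂ (Points.map (inv p₁) t), ?_⟩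
    rw [← Points.map_comp, ← Points.map_comp, ← sq.w, IsIso.inv_hom_id_assoc]

/-- The points of the glueing. -/
theorem range_eq {F : Sp S} {A V P : Over S} {j : (yon S).obj A ⟶ F} {g : (yon S).obj V ⟶ F} {a : P ⟶ V} {b : P ⟶ A}
    (h : IsElemDistSq j g) (sq : IsPullback ((yon S).map a) ((yon S).map b) g j) (p : V.left)
    (ha : Set.range a.left = {p}ᶜ) :
    Set.range (Points.map j) = {Points.map g (Points.schemeHomeo V p)}ᶜ := by
  ext x
  constructor
  · rintro ⟨y, rfl⟩ (hy : Points.map j y = Points.map g (Points.schemeHomeo V p))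
    obtain ⟨z, hz1, hz2⟩ := K610.Base.exists_of_isPullback sq _ _ hy.symm
    obtain ⟨z', rfl⟩ := (Points.schemeHomeo P).surjective z
    rw [Points.map_yon_map_apply] at hz1
    have h1 : a.left z' = p := (Points.schemeHomeo V).injective hz1
    have h2 : a.left z' ∈ ({p}ᶜ : Set V.left) := ha ▸ ⟨z', rfl⟩
    exact h2 h1
  · intro hx
    rcases points_cover h x with hx' | ⟨y, rfl⟩
    · exact hx'
    · obtain ⟨v, rfl⟩ := (Points.schemeHomeo V).surjective y
      have hv : v ∈ ({p}ᶜ : Set V.left) := by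
        rintro (rfl : v = p)
        exact hx rfl
      rw [← ha] at hv
      obtain ⟨z, rfl⟩ := hv
      refine ⟨Points.map ((yon S).map b) (Points.schemeHomeo P z), ?_⟩
      rw [← Points.map_comp, ← sq.w, Points.map_comp, Points.map_yon_map_apply]

/-- **Glueing of a contraction.** -/
theorem exists_contraction {X Y W V : Scheme.{u}} (a : X ⟶ S) [LocallyOfFiniteType a] [IsSeparated a] [QuasiCompact a]
    (i : Y ⟶ X) [IsClosedImmersion i] [IsReduced Y] (U : X.Opens) (hU : (U : Set X) = (Set.range i)ᶜ)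
    (φ : W ⟶ X) [Etale φ] [IsSeparated φ] (v : V ⟶ S) [LocallyOfFiniteType v] (c : W ⟶ V) [IsProper c] [Surjective c]
    (hc : c ≫ v = φ ≫ a) (p : V) (hp : IsClosed ({p} : Set V)) (hpre : c ⁻¹' {p} = φ ⁻¹' (Set.range i))
    (hφi : IsIso (pullback.snd φ i)) (hiso : IsIso (c ∣_ ⟨{p}ᶜ, hp.isOpen_compl⟩)) :
    ∃ (X₁ : Space S) (q : X₁.obj ⟶ (yon S).obj (Over.mk (𝟙 S))) (f : (yon S).obj (Over.mk a) ⟶ X₁.obj)
      (p₁ : Points X₁.obj), IsSeparatedMor q ∧ IsFiniteTypeMor q ∧ RepWith @IsProper f ∧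
      IsClosed ({p₁} : Set (Points X₁.obj)) ∧ (∀ y : Y, Points.ofPt f (i y) = p₁) ∧
      RepWith @IsOpenImmersion ((yon S).map (Over.homMk (U := Over.mk (U.ι ≫ a)) (V := Over.mk a) U.ι rfl) ≫ f) ∧
      Set.range (Points.ofPt ((yon S).map (Over.homMk (U := Over.mk (U.ι ≫ a)) (V := Over.mk a) U.ι rfl) ≫ f)) =
        ({p₁} : Set (Points X₁.obj))ᶜ := by
  -- the open complement of the fibre
  have hO : c ⁻¹ᵁ (⟨{p}ᶜ, hp.isOpen_compl⟩ : V.Opens) = φ ⁻¹ᵁ U := by
    ext x
    have h1 : x ∈ c ⁻¹' {p} ↔ x ∈ φ ⁻¹' (Set.range i) := by rw [hpre]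
    have h2 : φ x ∈ (U : Set X) ↔ φ x ∉ Set.range i := by rw [hU]; rfl
    change c x ∉ ({p} : Set V) ↔ φ x ∈ (U : Set X)
    rw [h2]
    exact not_congr h1
  obtain ⟨hopen, hcart⟩ := openImm_of_eq hO hiso
  -- objects
  let Xo : Over S := Over.mk a
  let Uo : Over S := Over.mk (U.ι ≫ a)
  let Vo : Over S := Over.mk v
  let Wo : Over S := Over.mk (φ ≫ a)
  let Po : Over S := Over.mk ((φ ⁻¹ᵁ U).ι ≫ φ ≫ a)
  let jX : Uo ⟶ Xo := Over.homMk U.ι rfl
  let φo : Wo ⟶ Xo := Over.homMk φ rfl
  let co : Wo ⟶ Vo := Over.homMk c hc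
  let pW : Po ⟶ Wo := Over.homMk (φ ⁻¹ᵁ U).ι rfl
  let pU : Po ⟶ Uo := Over.homMk (φ ∣_ U) (by
    change (φ ∣_ U) ≫ U.ι ≫ a = (φ ⁻¹ᵁ U).ι ≫ φ ≫ a
    rw [morphismRestrict_ι_assoc])
  have hX : IsElemDistSq ((yon S).map jX) ((yon S).map φo) := by
    have : IsOpenImmersion jX.left := inferInstanceAs (IsOpenImmersion U.ι)
    have : Etale φo.left := inferInstanceAs (Etale φ)
    let io : Over.mk (i ≫ a) ⟶ Xo := Over.homMk i rfl
    have : IsClosedImmersion io.left := inferInstanceAs (IsClosedImmersion i)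
    have : IsReduced (Over.mk (i ≫ a)).left := inferInstanceAs (IsReduced Y)
    refine isElemDistSq_yon jX φo io ?_ hφi
    change Set.range i = (Set.range U.ι)ᶜ
    rw [Scheme.Opens.range_ι, hU, compl_compl]
  have hP : IsPullback ((yon S).map pU) ((yon S).map pW) ((yon S).map jX) ((yon S).map φo) := by
    refine IsPullback.map (yon S) (K596.Univ.isPullback_over ?_ (isPullback_morphismRestrict φ U))
    ext1
    exact morphismRestrict_ι φ U
  have hcP : IsPullback ((yon S).map pW) (𝟙 _) ((yon S).map co) ((yon S).map pW ≫ (yon S).map co) := by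
    rw [← Functor.map_comp, ← (yon S).map_id]
    exact IsPullback.map (yon S) (K596.Univ.isPullback_over (by simp) hcart)
  -- the glueing
  have hopen' : IsOpenImmersion (pW ≫ co).left := hopen
  have hsep : IsSeparated pU.left := inferInstanceAs (IsSeparated (φ ∣_ U))
  have het : Etale pU.left := inferInstanceAs (Etale (φ ∣_ U))
  obtain ⟨X₁, j, g, -, hP₁, hX₁⟩ := Groth.Agent.S10696.result (S := S) (U := ⟨(yon S).obj Uo, IsAlgSpace.yon_obj _⟩)
    (V := ⟨(yon S).obj Vo, IsAlgSpace.yon_obj _⟩) (V' := ⟨(yon S).obj Po, IsAlgSpace.yon_obj _⟩)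
    (ObjectProperty.homMk ((yon S).map (pW ≫ co))) ((repWith_yon_map_iff _ _).2 hopen')
    (ObjectProperty.homMk ((yon S).map pU)) ((isSeparatedMor_yon_map_iff _).2 hsep) ((isEtaleMor_yon_map_iff _).2 het)
  have hP₁' : IsPullback ((yon S).map pW ≫ (yon S).map co) ((yon S).map pU) g.hom j.hom := by
    rw [← Functor.map_comp]
    exact hP₁
  have hW : IsAlgSpace ((yon S).obj Wo) := IsAlgSpace.yon_obj _
  have hV : IsAlgSpace ((yon S).obj Vo) := IsAlgSpace.yon_obj _
  have hpush := isPushout_of_isElemDistSq hW hX hP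
  have hw : (yon S).map pU ≫ j.hom = (yon S).map pW ≫ (yon S).map co ≫ g.hom := by
    rw [← Category.assoc, hP₁'.w]
  let f : (yon S).obj Xo ⟶ X₁.obj := hpush.desc j.hom ((yon S).map co ≫ g.hom) hw
  have hf₁ : (yon S).map jX ≫ f = j.hom := hpush.inl_desc _ _ hw
  have hf₂ : (yon S).map φo ≫ f = (yon S).map co ≫ g.hom := hpush.inr_desc _ _ hw
  have D : ContrFormal.Dat ((yon S).map jX) ((yon S).map φo) ((yon S).map pU) ((yon S).map pW) ((yon S).map co) j.hom
      g.hom f := ⟨hX, hP, hcP, hX₁, hP₁', hW, hV, hf₁, hf₂⟩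
  have hfr : Representable f := X₁.property.representable_from_yon f
  have hpr : RepWith @IsProper f := by
    have : MorphismProperty.DescendsAlong (C := Scheme.{u}) @IsProper K613.Cover.fppf.{u} := K595.DescInst.isProper
    exact D.repWith_f hfr ((repWith_yon_map_iff _ _).2 (inferInstanceAs (IsProper c)))
  have hsu : RepWith @Surjective f :=
    D.repWith_f hfr ((repWith_yon_map_iff _ _).2 (inferInstanceAs (Surjective c)))
  -- the points
  have hjet : RepWith @Etale j.hom := K610.OpenImm.repWith_etale_of_open hX₁.1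
  have hget : RepWith @Etale g.hom := by
    have := hX₁.2.1 (𝟙 ((yon S).obj Vo)) (repWith_id _ _)
    rwa [Category.id_comp] at this
  have hra : Set.range (pW ≫ co).left = ({p}ᶜ : Set V) := by
    change Set.range ((φ ⁻¹ᵁ U).ι ≫ c) = ({p}ᶜ : Set V)
    ext x
    constructor
    · rintro ⟨w, rfl⟩
      have hw : ∀ z : W, z ∈ φ ⁻¹ᵁ U → c z ∈ ({p}ᶜ : Set V) := fun z hz => by
        rw [← hO] at hz
        exact hz
      exact hw w.1 w.2
    · intro hx
      obtain ⟨w, rfl⟩ := c.surjective x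
      have hw : w ∈ φ ⁻¹ᵁ U := by
        rw [← hO]
        exact hx
      exact ⟨⟨w, hw⟩, rfl⟩
  have hrange := range_eq (a := pW ≫ co) (b := pU) hX₁ hP₁ p hra
  refine ⟨X₁, ContrLem.str X₁.obj, f, Points.map g.hom (Points.schemeHomeo Vo p),
    ContrLem.isSeparatedMor_of_repWith_proper X₁ f hpr hsu (inferInstanceAs (IsSeparated a)) _,
    ⟨ContrLem.locP_lft_of_two X₁.property j.hom g.hom hjet hget (points_cover hX₁)
      (inferInstanceAs (LocallyOfFiniteType (U.ι ≫ a))) (inferInstanceAs (LocallyOfFiniteType v)) _,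
      ContrLem.isQuasiCompactMor_of_repWith_surjective X₁.property f hsu (inferInstanceAs (QuasiCompact a)) _⟩, hpr, ?_,
    ?_, ?_, ?_⟩
  · rw [← isOpen_compl_iff, ← hrange]
    exact (K610.OpenImm.isOpenEmbedding_points X₁.property hX₁.1).isOpen_range
  · intro y
    have hw : φ (pullback.fst φ i ((inv (pullback.snd φ i)) y)) = i y := by
      rw [← Scheme.Hom.comp_apply, ← Scheme.Hom.comp_apply, pullback.condition, IsIso.inv_hom_id_assoc]
    set w := pullback.fst φ i ((inv (pullback.snd φ i)) y)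
    have hcw : c w = p := by
      have : w ∈ φ ⁻¹' (Set.range i) := ⟨y, hw.symm⟩
      rw [← hpre] at this
      exact this
    rw [ofPt_eq]
    have h1 : (Points.schemeHomeo Xo (i y)) = Points.map ((yon S).map φo) (Points.schemeHomeo Wo w) := by
      rw [Points.map_yon_map_apply]
      exact congrArg _ hw.symm
    have h2 : (Points.schemeHomeo Vo p) = Points.map ((yon S).map co) (Points.schemeHomeo Wo w) := by
      rw [Points.map_yon_map_apply]
      exact congrArg _ hcw.symm
    rw [h2]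
    refine (congrArg (Points.map f) h1).trans ?_
    rw [← Points.map_comp, ← Points.map_comp, hf₂]
  · change RepWith @IsOpenImmersion ((yon S).map jX ≫ f)
    rw [hf₁]
    exact hX₁.1
  · change Set.range (Points.ofPt ((yon S).map jX ≫ f)) = _
    rw [hf₁, ← hrange]
    ext x
    constructor
    · rintro ⟨t, rfl⟩
      exact ⟨Points.schemeHomeo Uo t, (ofPt_eq _ _).symm⟩
    · rintro ⟨t, rfl⟩
      obtain ⟨t, rfl⟩ := (Points.schemeHomeo Uo).surjective t
      exact ⟨t, ofPt_eq _ _⟩

end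

end K613.ContrGlue
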