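import Groth.Agent.AlgSp.K613.ContrGlue

/-!
# Contraction of a closed subscheme of a scheme over a field, given a contraction of an étale neighbourhood
-/

set_option autoImplicit false
universe u
open CategoryTheory CategoryTheory.Limits AlgebraicGeometry Opposite

namespace K613.ContrNbhd

theorem isSeparatedSp_pt (S : Scheme.{u}) : AlgSp.IsSeparatedSp ((AlgSp.yon S).obj (Over.mk (𝟙 S))) :=
  (AlgSp.repWith_diag_yon_iff @IsClosedImmersion _).2 (IsSeparated.isClosedImmersion_diagonal (f := 𝟙 S))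

theorem contraction_of_nbhd {k : Type u} [Field k] (X Y : Scheme.{u})
    [X.Over (Spec (CommRingCat.of k))] (i : Y ⟶ X) [IsClosedImmersion i] [IsIntegral Y]
    [LocallyOfFiniteType (X ↘ Spec (CommRingCat.of k))] [IsSeparated (X ↘ Spec (CommRingCat.of k))]
    [QuasiCompact (X ↘ Spec (CommRingCat.of k))]
    (U : X.Opens) (hU : (U : Set X) = (Set.range i.base)ᶜ)
    {W V : Scheme.{u}} (φ : W ⟶ X) [Etale φ] [IsSeparated φ] (v : V ⟶ Spec (CommRingCat.of k)) [LocallyOfFiniteType v]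
    [QuasiCompact v] [IsSeparated v] (c : W ⟶ V) [IsProper c] [Surjective c]
    (hc : c ≫ v = φ ≫ (X ↘ Spec (CommRingCat.of k))) (p : V) (hp : IsClosed ({p} : Set V))
    (hpre : c ⁻¹' {p} = φ ⁻¹' (Set.range i)) (hφi : IsIso (pullback.snd φ i))
    (hiso : IsIso (c ∣_ ⟨{p}ᶜ, hp.isOpen_compl⟩)) :
    ∃ (X₁ : AlgSp.Space (Spec (CommRingCat.of k))) (q : X₁.obj ⟶ (AlgSp.yon (Spec (CommRingCat.of k))).obj (Over.mk (𝟙 _)))
      (f : (AlgSp.yon (Spec (CommRingCat.of k))).obj (Over.mk (X ↘ Spec (CommRingCat.of k))) ⟶ X₁.obj) (p : AlgSp.Points X₁.obj),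
      AlgSp.IsSeparatedSp X₁.obj ∧ AlgSp.IsFiniteTypeMor q ∧
      IsClosed ({p} : Set (AlgSp.Points X₁.obj)) ∧ (∀ y : ↥Y, AlgSp.Points.ofPt f (i.base y) = p) ∧
      AlgSp.RepWith @IsOpenImmersion
        ((AlgSp.yon (Spec (CommRingCat.of k))).map (Over.homMk (U := Over.mk (U.ι ≫ (X ↘ Spec (CommRingCat.of k))))
          (V := Over.mk (X ↘ Spec (CommRingCat.of k))) U.ι rfl) ≫ f) ∧
      Set.range (AlgSp.Points.ofPt ((AlgSp.yon (Spec (CommRingCat.of k))).map (Over.homMk (U := Over.mk (U.ι ≫ (X ↘ Spec (CommRingCat.of k))))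
          (V := Over.mk (X ↘ Spec (CommRingCat.of k))) U.ι rfl) ≫ f)) = ({p} : Set (AlgSp.Points X₁.obj))ᶜ := by
  obtain ⟨X₁, q, f, p₁, h1, h2, -, h4, h5, h6, h7⟩ := ContrGlue.exists_contraction (X ↘ Spec (CommRingCat.of k)) i U
    hU φ v c hc p hp hpre hφi hiso
  exact ⟨X₁, q, f, p₁, K608.SepAbs.isSeparatedSp_of_isSeparatedMor q h1 (isSeparatedSp_pt _), h2, h4, h5, h6, h7⟩

end K613.ContrNbhd
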