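import Groth.Agent.AlgSp.K610.SchLocus
import Groth.Agent.AlgSp.K608.SepAbs
import Groth.Agent.AlgSp.K624.DimInt
import Groth.Agent.S9951

/-!
# Separated locally Noetherian algebraic spaces of dimension at most one are schemes

The input is the codimension one point statement (interface `CodimOne`, the milestone S10454).
-/

set_option autoImplicit false
universe u
open CategoryTheory CategoryTheory.Limits AlgebraicGeometry

namespace K613.DimOneSch

open AlgSp

variable {S : Scheme.{u}}

/-- Interface: points of codimension at most one of separated locally Noetherian spaces have schematic open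
neighbourhoods. -/
def CodimOne (S : Scheme.{u}) : Prop :=
  ∀ (X : Space S), IsSeparatedSp X.obj → IsLocNoethSp X.obj → ∀ (x : Points X.obj),
    HasAt (fun U u => ringKrullDim ↥(U.presheaf.stalk u) ≤ 1) X.obj x →
    ∃ (X' : Space S) (j : X' ⟶ X), RepWith @IsOpenImmersion j.hom ∧ X'.obj.obj.IsRepresentable ∧
      x ∈ Set.range (Points.map j.hom)

theorem isRepresentable (h : CodimOne S) {X : Space S} (hsep : IsSeparatedSp X.obj) (hN : IsLocNoethSp X.obj)
    (hd : AlgSp.dim X.obj ≤ 1) : X.obj.obj.IsRepresentable := by
  rw [K610.SchLocus.isRepresentable_iff_forall]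
  intro x
  obtain ⟨V, b, v, -, hb, hv⟩ := K624.DimInt.exists_affine_chart X.property x
  obtain ⟨X', j, hj, hr, hx⟩ := h X hsep hN x ⟨V, b, v, hb, hv, (K624.DimInt.stalkDim_le_dim b hb v).trans hd⟩
  exact ⟨_, (K610.SchLocus.isSch_iff hj).2 hr, hx⟩

/-- A space separated and locally of finite type over a locally Noetherian scheme `U` separated over `S`, of
dimension at most one, is a scheme. -/
theorem isRepresentable_of_mor (h : CodimOne S) {X : Space S} {U : Over S} (f : X.obj ⟶ (yon S).obj U)
    [IsLocallyNoetherian U.left] [IsSeparated U.hom] (hs : IsSeparatedMor f) (hf : LocP @LocallyOfFiniteType f)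
    (hd : AlgSp.dim X.obj ≤ 1) : X.obj.obj.IsRepresentable := by
  refine isRepresentable h (K608.SepAbs.isSeparatedSp_of_isSeparatedMor f hs ?_) ?_ hd
  · exact (repWith_diag_yon_iff @IsClosedImmersion U).2 (IsSeparated.isClosedImmersion_diagonal (f := U.hom))
  · let Y : Space S := ⟨(yon S).obj U, IsAlgSpace.yon_obj U⟩
    let g : X ⟶ Y := ObjectProperty.homMk f
    refine Groth.Agent.S9951.result g hf ?_
    refine ⟨U, 𝟙 _, (repWith_id _ U), (repWith_id _ U), inferInstance⟩

end K613.DimOneSch
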