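import Mathlib.AlgebraicGeometry.Morphisms.Flat
import Mathlib.AlgebraicGeometry.Morphisms.Affine
import Mathlib.RingTheory.Flat.Equalizer

/-!
# Rings of invariant functions and flat base change

`FE s t q`: for `s, t : R ⟶ U` and `q : U ⟶ Z`, the global functions on `Z` are the global functions on `U` with the
same pull-back under `s` and `t`.  For affine schemes this is stable under flat affine base change.
-/

set_option autoImplicit false
universe u

open CategoryTheory CategoryTheory.Limits AlgebraicGeometry Opposite TensorProduct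

namespace K613.FE

/-- Flat base change of an equalizer of commutative rings (with pushout squares of rings). -/
theorem alg {A B C A' B' C' : CommRingCat.{u}} {q : A ⟶ B} {g : A ⟶ A'} {b : B ⟶ B'} {q' : A' ⟶ B'}
    {s t : B ⟶ C} {s' t' : B' ⟶ C'} {r : C ⟶ C'} (hg : g.hom.Flat) (hqs : q ≫ s = q ≫ t)
    (hB : IsPushout q g b q') (hC : IsPushout (q ≫ s) g r (q' ≫ s'))
    (hs : b ≫ s' = s ≫ r) (ht : b ≫ t' = t ≫ r) (hqs' : q' ≫ s' = q' ≫ t')
    (inj : Function.Injective q.hom) (surj : ∀ x : B, s.hom x = t.hom x → ∃ a : A, q.hom a = x) :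
    Function.Injective q'.hom ∧ ∀ x : B', s'.hom x = t'.hom x → ∃ a : A', q'.hom a = x := by
  algebraize [q.hom, g.hom, b.hom, q'.hom, (q ≫ s).hom, r.hom, (q' ≫ s').hom]
  let _ : Algebra A B' := ((algebraMap B B').comp (algebraMap A B)).toAlgebra
  let _ : Algebra A C' := ((algebraMap C C').comp (algebraMap A C)).toAlgebra
  have t1 : IsScalarTower A B B' := IsScalarTower.of_algebraMap_eq' rfl
  have t2 : IsScalarTower A A' B' := IsScalarTower.of_algebraMap_eq' (congrArg CommRingCat.Hom.hom hB.w)
  have t3 : IsScalarTower A C C' := IsScalarTower.of_algebraMap_eq' rfl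
  have t4 : IsScalarTower A A' C' := IsScalarTower.of_algebraMap_eq' (congrArg CommRingCat.Hom.hom hC.w)
  have p1 : Algebra.IsPushout A B A' B' := CommRingCat.isPushout_iff_isPushout.mp hB
  have p2 : Algebra.IsPushout A C A' C' := CommRingCat.isPushout_iff_isPushout.mp hC
  have p3 : Algebra.IsPushout A A' B B' := p1.symm
  have p4 : Algebra.IsPushout A A' C C' := p2.symm
  let eB : A' ⊗[A] B ≃ₐ[A'] B' := Algebra.IsPushout.equiv A A' B B'
  let eC : A' ⊗[A] C ≃ₐ[A'] C' := Algebra.IsPushout.equiv A A' C C'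
  have heB : ∀ (a : A') (x : B), eB (a ⊗ₜ x) = q'.hom a * b.hom x := fun a x => Algebra.IsPushout.equiv_tmul ..
  have heC : ∀ (a : A') (x : C), eC (a ⊗ₜ x) = (q' ≫ s').hom a * r.hom x := fun a x =>
    Algebra.IsPushout.equiv_tmul ..
  have hsl : ∀ (a : A) (x : B), s.hom (a • x) = a • s.hom x := fun a x => by
    simp only [Algebra.smul_def, map_mul]
    rfl
  have htl : ∀ (a : A) (x : B), t.hom (a • x) = a • t.hom x := fun a x => by
    simp only [Algebra.smul_def, map_mul]
    congr 1
    exact (ConcreteCategory.congr_hom hqs a).symm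
  let sl : B →ₗ[A] C := ⟨⟨s.hom, s.hom.map_add⟩, hsl⟩
  let tl : B →ₗ[A] C := ⟨⟨t.hom, t.hom.map_add⟩, htl⟩
  have hs1 : ∀ z : A' ⊗[A] B, s'.hom (eB z) = eC (sl.lTensor A' z) := by
    intro z
    induction z with
    | zero => simp
    | add x y hx hy => simp only [map_add, hx, hy]
    | tmul a x =>
      rw [heB, map_mul, LinearMap.lTensor_tmul, heC]
      congr 1
      exact ConcreteCategory.congr_hom hs x
  have ht1 : ∀ z : A' ⊗[A] B, t'.hom (eB z) = eC (tl.lTensor A' z) := by
    intro z
    induction z with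
    | zero => simp
    | add x y hx hy => simp only [map_add, hx, hy]
    | tmul a x =>
      rw [heB, map_mul, LinearMap.lTensor_tmul, heC]
      congr 1
      · exact (ConcreteCategory.congr_hom hqs' a).symm
      · exact ConcreteCategory.congr_hom ht x
  have hfl : Module.Flat A A' := hg
  constructor
  · have h1 : Function.Injective ((Algebra.linearMap A B).lTensor A') :=
      Module.Flat.lTensor_preserves_injective_linearMap _ inj
    intro x y hxy
    have h2 : (Algebra.linearMap A B).lTensor A' (x ⊗ₜ 1) = (Algebra.linearMap A B).lTensor A' (y ⊗ₜ 1) := by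
      apply eB.injective
      simp only [LinearMap.lTensor_tmul, Algebra.linearMap_apply, map_one]
      rw [heB, heB, map_one, mul_one, mul_one]
      exact hxy
    have h3 := congrArg (TensorProduct.rid A A') (h1 h2)
    simpa using h3
  · intro x hx
    obtain ⟨z, rfl⟩ := eB.surjective x
    rw [hs1, ht1] at hx
    have h1 : (sl - tl).lTensor A' z = 0 := by
      rw [LinearMap.lTensor_sub, LinearMap.sub_apply, eC.injective hx, sub_self]
    have hex : Function.Exact (Algebra.linearMap A B) (sl - tl) := by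
      intro x
      constructor
      · intro h
        exact surj x (sub_eq_zero.1 h)
      · rintro ⟨a, rfl⟩
        exact sub_eq_zero.2 (ConcreteCategory.congr_hom hqs a)
    obtain ⟨y, rfl⟩ := (Module.Flat.lTensor_exact A' hex z).1 h1
    refine ⟨TensorProduct.rid A A' y, ?_⟩
    obtain ⟨a, rfl⟩ := (TensorProduct.rid A A').symm.surjective y
    simp only [TensorProduct.rid_symm_apply, LinearMap.lTensor_tmul, Algebra.linearMap_apply, map_one,
      TensorProduct.rid_tmul, one_smul]
    rw [heB, map_one, mul_one]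

end K613.FE

namespace K613

/-- The global functions on `Z` are the invariant global functions on `U`. -/
structure FE {R U Z : Scheme.{u}} (s t : R ⟶ U) (q : U ⟶ Z) : Prop where
  w : s ≫ q = t ≫ q
  inj : Function.Injective q.appTop.hom
  surj : ∀ x : Γ(U, ⊤), s.appTop.hom x = t.appTop.hom x → ∃ a : Γ(Z, ⊤), q.appTop.hom a = x

namespace FE

variable {R U Z : Scheme.{u}} {s t : R ⟶ U} {q : U ⟶ Z}

/-- Flat affine base change. -/
theorem of_isPullback [IsAffine R] [IsAffine U] [IsAffine Z] {R' U' Z' : Scheme.{u}} {s' t' : R' ⟶ U'}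
    {q' : U' ⟶ Z'} {g : Z' ⟶ Z} {b : U' ⟶ U} {r : R' ⟶ R} [IsAffine Z'] [Flat g] (h : FE s t q)
    (sqU : IsPullback b q' q g) (sqs : IsPullback r s' s b) (sqt : IsPullback r t' t b)
    (w : s' ≫ q' = t' ≫ q') : FE s' t' q' := by
  have hU := isPushout_appTop_of_isPullback sqU
  have hR := isPushout_appTop_of_isPullback (sqs.paste_vert sqU)
  have key := alg (q := q.appTop) (g := g.appTop) (b := b.appTop) (q' := q'.appTop) (s := s.appTop)
    (t := t.appTop) (s' := s'.appTop) (t' := t'.appTop) (r := r.appTop)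
    ((HasRingHomProperty.iff_of_isAffine (P := @Flat)).1 inferInstance)
    (by rw [← Scheme.Hom.comp_appTop, ← Scheme.Hom.comp_appTop, h.w]) hU
    (by rw [← Scheme.Hom.comp_appTop, ← Scheme.Hom.comp_appTop]; exact hR)
    (by rw [← Scheme.Hom.comp_appTop, ← Scheme.Hom.comp_appTop, sqs.w])
    (by rw [← Scheme.Hom.comp_appTop, ← Scheme.Hom.comp_appTop, sqt.w])
    (by rw [← Scheme.Hom.comp_appTop, ← Scheme.Hom.comp_appTop, w]) h.inj h.surj
  exact ⟨w, key.1, key.2⟩

/-- Invariant maps to affine schemes factor uniquely. -/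
theorem exists_desc (h : FE s t q) [IsAffine Z] {Y : Scheme.{u}} [IsAffine Y] (g : U ⟶ Y) (hg : s ≫ g = t ≫ g) :
    ∃ k : Z ⟶ Y, q ≫ k = g := by
  have h1 : ∀ y : Γ(Y, ⊤), ∃ a : Γ(Z, ⊤), q.appTop.hom a = g.appTop.hom y := fun y => h.surj _ (by
    have := ConcreteCategory.congr_hom (congrArg Scheme.Hom.appTop hg) y
    simpa using this)
  choose φ hφ using h1
  let Φ : Γ(Y, ⊤) →+* Γ(Z, ⊤) :=
    { toFun := φ
      map_one' := h.inj (by rw [hφ]; simp)
      map_mul' := fun x y => h.inj (by rw [hφ]; simp only [map_mul, hφ])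
      map_zero' := h.inj (by rw [hφ]; simp)
      map_add' := fun x y => h.inj (by rw [hφ]; simp only [map_add, hφ]) }
  refine ⟨Z.toSpecΓ ≫ Spec.map (CommRingCat.ofHom Φ) ≫ inv Y.toSpecΓ, ?_⟩
  rw [← cancel_mono Y.toSpecΓ]
  simp only [Category.assoc, IsIso.inv_hom_id, Category.comp_id]
  rw [← Category.assoc, Scheme.toSpecΓ_naturality, Scheme.toSpecΓ_naturality, Category.assoc, ← Spec.map_comp]
  congr 2
  ext y
  exact hφ y

/-- Maps to affine schemes are determined by their invariant pull-back. -/
theorem hom_ext (h : FE s t q) [IsAffine Z] {Y : Scheme.{u}} [IsAffine Y] {k k' : Z ⟶ Y} (e : q ≫ k = q ≫ k') :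
    k = k' := by
  rw [← cancel_mono Y.toSpecΓ, Scheme.toSpecΓ_naturality, Scheme.toSpecΓ_naturality]
  congr 2
  ext y
  apply h.inj
  have := ConcreteCategory.congr_hom (congrArg Scheme.Hom.appTop e) y
  simpa using this

end FE

end K613
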