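import Groth.Agent.AlgSp.K613.FormTower
import Groth.Agent.AlgSp.K613.Cover
import Groth.Agent.AlgSp.K621.Base
import Mathlib.RingTheory.Filtration
import Mathlib.RingTheory.Support

/-!
# Formal uniqueness: morphisms from a proper space agreeing on all infinitesimal neighbourhoods are equal
-/

set_option autoImplicit false
universe u
open CategoryTheory CategoryTheory.Limits AlgebraicGeometry

namespace K613.FormalUniq

open AlgSp K635.Thick K613.FormTower

section

variable {S : Scheme.{u}}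

theorem comap_ker_eq_bot {W V Q : Scheme.{u}} (w : W ⟶ V) [IsClosedImmersion w] (q : Q ⟶ V) (m : Q ⟶ W)
    (h : m ≫ w = q) : w.ker.comap q = ⊥ := by
  rw [← ker_of_isPullback (IsPullback.of_hasPullback q w)]
  have h1 : pullback.lift (𝟙 Q) m (by rw [Category.id_comp, h]) ≫ pullback.fst q w = 𝟙 Q :=
    pullback.lift_fst _ _ _
  have : IsSplitEpi (pullback.fst q w) := ⟨⟨⟨_, h1⟩⟩⟩
  have : IsIso (pullback.fst q w) := isIso_of_mono_of_isSplitEpi _
  exact Scheme.Hom.ker_eq_bot_of_isIso _

/-- A closed subspace through which étale neighbourhoods of all points factor is everything. -/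
theorem isIso_of_points {E X : Sp S} (e : E ⟶ X) (he : RepWith @IsClosedImmersion e) (hX : IsAlgSpace X)
    (h : ∀ x : Points X, ∃ (V : Over S) (b : (yon S).obj V ⟶ X) (v : V.left) (σ : (yon S).obj V ⟶ E),
      RepWith @Etale b ∧ Points.ofPt b v = x ∧ σ ≫ e = b) : IsIso e := by
  obtain ⟨U, a, ha, has⟩ := hX.atlas
  obtain ⟨W, snd, fst, sq⟩ := he.1 a
  have hcl : IsClosedImmersion snd.left := he.2 _ _ _ sq
  choose V b v σ hb hv hσ using fun u : U.left => h (Points.ofPt a u)
  choose Q q q' sq' using fun u => (hb u).1 a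
  have hq : ∀ u, Etale (q u).left := fun u => (hb u).2 _ _ _ (sq' u)
  have hker : snd.left.ker = ⊥ := by
    refine eq_bot_of_comap_eq_bot _ (fun u => (Q u).left) (fun u => (q u).left)
      (fun u => by have := hq u; infer_instance) (fun u => ?_) (fun u => ?_)
    · obtain ⟨r, hr, -⟩ := K621.Base.exists_point_of_isPullback' (sq' u) u (Points.ofScheme (V u) (v u))
        (by rw [← hv u, Points.ofPt_eq_map_ofScheme])
      exact ⟨u, r, hr⟩
    · obtain ⟨m, hm⟩ := (yon S).map_surjective (sq.lift (q' u ≫ σ u) ((yon S).map (q u))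
        (by rw [Category.assoc, hσ, (sq' u).w]))
      have h1 : m ≫ snd = q u := (yon S).map_injective (by
        rw [Functor.map_comp, hm]; exact sq.lift_snd _ _ _)
      exact comap_ker_eq_bot snd.left (q u).left m.left (by rw [← Over.comp_left, h1])
  have h1 : IsIso snd.left := IsClosedImmersion.isIso_iff_ker_eq_bot.2 hker
  have h2 : IsIso snd := by
    have : IsIso ((Over.forget S).map snd) := h1
    exact isIso_of_reflects_iso snd (Over.forget S)
  exact (K613.Cover.ESurj.of_repWith ha has).fSurj.isIso sq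

end

/-- **Krull**: a closed subscheme of `Spec B` containing all `Spec B/(IB)^(n+1)` contains an open neighbourhood
of each point of `V(IB)`. -/
theorem exists_factor {A B : Type u} [CommRing A] [CommRing B] [IsNoetherianRing B] (ψ : A →+* B) (I : Ideal A)
    {W : Scheme.{u}} (w : W ⟶ Spec (CommRingCat.of B)) [hw : IsClosedImmersion w]
    (H : ∀ n : ℕ, ∃ r : Spec (CommRingCat.of (B ⧸ (I.map ψ) ^ (n + 1))) ⟶ W,
      r ≫ w = Spec.map (CommRingCat.ofHom (Ideal.Quotient.mk ((I.map ψ) ^ (n + 1)))))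
    (v : PrimeSpectrum B) (hv : I.map ψ ≤ v.asIdeal) :
    ∃ (g : B) (σ : Spec (CommRingCat.of (Localization.Away g)) ⟶ W), g ∉ v.asIdeal ∧
      σ ≫ w = Spec.map (CommRingCat.ofHom (algebraMap B (Localization.Away g))) := by
  obtain ⟨J, e, he⟩ := IsClosedImmersion.Spec_iff.1 hw
  have hJ : ∀ n : ℕ, J ≤ (I.map ψ) ^ (n + 1) := by
    intro n f hf
    obtain ⟨r, hr⟩ := H n
    rw [he, ← Category.assoc] at hr
    obtain ⟨φ, hφ⟩ := Spec.map_surjective (r ≫ e.hom)
    rw [← hφ, ← Spec.map_comp] at hr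
    have h1 := Spec.map_injective hr
    have h2 := congr($(h1).hom f)
    simp only [CommRingCat.hom_comp, CommRingCat.hom_ofHom, RingHom.comp_apply] at h2
    have h3 : (Ideal.Quotient.mk J) f = 0 := Ideal.Quotient.eq_zero_iff_mem.2 hf
    erw [h3, map_zero] at h2
    exact Ideal.Quotient.eq_zero_iff_mem.1 h2.symm
  have hsupp : v ∉ Module.support B J := by
    rw [Module.notMem_support_iff']
    intro m
    have h1 : (m : B) ∈ (⨅ i : ℕ, (I.map ψ) ^ i • ⊤ : Submodule B B) := by
      rw [Submodule.mem_iInf]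
      intro i
      rcases i with _ | i
      · simp
      · simpa using hJ i m.2
    rw [Ideal.mem_iInf_smul_pow_eq_bot_iff] at h1
    obtain ⟨r, hr⟩ := h1
    refine ⟨1 - r, fun h => ?_, ?_⟩
    · have h2 : (r : B) ∈ v.asIdeal := hv r.2
      have h3 : (1 : B) ∈ v.asIdeal := by simpa using v.asIdeal.add_mem h h2
      exact v.isPrime.ne_top ((Ideal.eq_top_iff_one _).2 h3)
    · apply Subtype.ext
      rw [Submodule.coe_smul, sub_smul, one_smul, hr, sub_self, ZeroMemClass.coe_zero]
  rw [Module.mem_support_iff_of_finite] at hsupp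
  obtain ⟨g, hg, hgv⟩ := Set.not_subset.1 hsupp
  have hg' : ∀ a ∈ J, algebraMap B (Localization.Away g) a = 0 := by
    intro a ha
    have h1 : g * a = 0 := by
      have := Module.mem_annihilator.1 hg ⟨a, ha⟩
      simpa using congrArg Subtype.val this
    have h2 := IsLocalization.Away.algebraMap_isUnit (S := Localization.Away g) g
    rw [← h2.mul_right_eq_zero, ← map_mul, h1, map_zero]
  refine ⟨g, Spec.map (CommRingCat.ofHom (Ideal.Quotient.lift J (algebraMap B (Localization.Away g)) hg')) ≫ e.inv,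
    hgv, ?_⟩
  rw [he, Category.assoc, Iso.inv_hom_id_assoc, ← Spec.map_comp, ← CommRingCat.ofHom_comp]
  congr 2

section

variable {A : Type u} [CommRing A] {I : Ideal A}

/-- Étale neighbourhoods of the points over `V(I)` factor through `E`. -/
theorem exists_factor_spec {X E : Sp (Spec (CommRingCat.of A))} {e : E ⟶ X} (he : RepWith @IsClosedImmersion e)
    (H : ∀ (n : ℕ) (T : Over (Spec (CommRingCat.of A))) (x : (yon _).obj T ⟶ X) (_ : T ⟶ SO I n),
      ∃ r : (yon _).obj T ⟶ E, r ≫ e = x)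
    {B : Type u} [CommRing B] [IsNoetherianRing B] (φ : CommRingCat.of A ⟶ CommRingCat.of B)
    (b : (yon _).obj (Over.mk (Spec.map φ)) ⟶ X) (hb : RepWith @Etale b) (v : PrimeSpectrum B)
    (hv : I.map φ.hom ≤ v.asIdeal) :
    ∃ (V : Over (Spec (CommRingCat.of A))) (b' : (yon _).obj V ⟶ X) (v' : V.left) (σ : (yon _).obj V ⟶ E),
      RepWith @Etale b' ∧ Points.ofPt b' v' = Points.ofPt b v ∧ σ ≫ e = b' := by
  obtain ⟨W, snd, fst, sq⟩ := he.1 b
  have hcl : IsClosedImmersion snd.left := he.2 _ _ _ sq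
  obtain ⟨g, σ, hg, hσ⟩ := exists_factor φ.hom I (w := snd.left) (hw := hcl) (fun n => by
    let q := I.map φ.hom ^ (n + 1)
    let T : Over (Spec (CommRingCat.of A)) := Over.mk (Spec.map (CommRingCat.ofHom (Ideal.Quotient.mk q)) ≫ Spec.map φ)
    have hle : ∀ a ∈ I ^ (n + 1), ((Ideal.Quotient.mk q).comp φ.hom) a = 0 := by
      intro a ha
      rw [RingHom.comp_apply, Ideal.Quotient.eq_zero_iff_mem]
      change φ.hom a ∈ I.map φ.hom ^ (n + 1)
      rw [← Ideal.map_pow]
      exact Ideal.mem_map_of_mem _ ha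
    let y : T ⟶ SO I n := Over.homMk (Spec.map (CommRingCat.ofHom (Ideal.Quotient.lift (I ^ (n + 1)) _ hle))) (by
      change Spec.map _ ≫ Spec.map _ = Spec.map _ ≫ Spec.map φ
      rw [← Spec.map_comp, ← Spec.map_comp]
      congr 1)
    let c : T ⟶ Over.mk (Spec.map φ) := Over.homMk (Spec.map (CommRingCat.ofHom (Ideal.Quotient.mk q))) rfl
    obtain ⟨r, hr⟩ := H n T ((yon _).map c ≫ b) y
    obtain ⟨m, hm⟩ := (yon _).map_surjective (sq.lift r ((yon _).map c) hr)
    have h1 : m ≫ snd = c := (yon _).map_injective (by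
      rw [Functor.map_comp, hm]; exact sq.lift_snd _ _ _)
    exact ⟨m.left, by rw [← Over.comp_left, h1]; rfl⟩) v hv
  let V : Over (Spec (CommRingCat.of A)) :=
    Over.mk (Spec.map (CommRingCat.ofHom (algebraMap B (Localization.Away g))) ≫ Spec.map φ)
  let c : V ⟶ Over.mk (Spec.map φ) := Over.homMk (Spec.map (CommRingCat.ofHom (algebraMap B (Localization.Away g)))) rfl
  have hc : IsOpenImmersion c.left := inferInstanceAs (IsOpenImmersion (Spec.map (CommRingCat.ofHom (algebraMap B (Localization.Away g)))))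
  have hcs : c.left = σ ≫ snd.left := hσ.symm
  let s : V ⟶ W := Over.homMk σ (by
    have h1 : snd.left ≫ (Over.mk (Spec.map φ)).hom = W.hom := Over.w snd
    rw [← h1, ← Category.assoc, ← hcs]
    exact Over.w c)
  have hs : s ≫ snd = c := by
    ext1
    exact hcs.symm
  obtain ⟨v', hv'⟩ : v ∈ Set.range (PrimeSpectrum.comap (algebraMap B (Localization.Away g))) := by
    rw [PrimeSpectrum.localization_away_comap_range (Localization.Away g) g]
    exact hg
  refine ⟨V, (yon _).map c ≫ b, v', (yon _).map s ≫ fst, ?_, ?_, ?_⟩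
  · exact MorphismProperty.comp_mem (RepWith @Etale) _ _ ((repWith_yon_map_iff _ _).2 inferInstance) hb
  · rw [K621.Base.ofPt_comp]
    congr 1
  · rw [Category.assoc, sq.w, ← Category.assoc, ← Functor.map_comp, hs]

/-- The point of `Spec A` under a point of `X`. -/
noncomputable def ptOf {X : Sp (Spec (CommRingCat.of A))} (s : X ⟶ (yon _).obj (Over.mk (𝟙 (Spec (CommRingCat.of A)))))
    (x : Points X) : PrimeSpectrum A :=
  (Points.schemeHomeo (Over.mk (𝟙 (Spec (CommRingCat.of A))))).symm (Points.map s x)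

theorem ptOf_ofPt {X : Sp (Spec (CommRingCat.of A))} (s : X ⟶ (yon _).obj (Over.mk (𝟙 (Spec (CommRingCat.of A)))))
    {V : Over (Spec (CommRingCat.of A))} (b : (yon _).obj V ⟶ X) (v : V.left) :
    ptOf s (Points.ofPt b v) = V.hom v := by
  obtain ⟨h, hh⟩ := (yon _).map_surjective (b ≫ s)
  have h1 : Points.map s (Points.ofPt b v) = Points.map ((yon _).map h) (Points.schemeHomeo V v) := by
    rw [hh, Points.map_comp, Points.ofPt_eq_map_ofScheme]
    rfl
  rw [ptOf, h1, Points.map_yon_map_apply, Homeomorph.symm_apply_apply]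
  have h2 : h.left = V.hom := by simpa using Over.w h
  rw [h2]

theorem isClosedMap_ptOf {X : Sp (Spec (CommRingCat.of A))} {s : X ⟶ (yon _).obj (Over.mk (𝟙 (Spec (CommRingCat.of A))))}
    (hs : IsClosedMor s) : IsClosedMap (ptOf s) :=
  (Points.schemeHomeo (Over.mk (𝟙 (Spec (CommRingCat.of A))))).symm.isClosedMap.comp hs

/-- A closed subspace of `X` containing all `X_n` is everything, for `X` proper over a Zariski ring. -/
theorem isIso_of_formal [IsNoetherianRing A] (hI : I ≤ Ideal.jacobson ⊥) {X E : Sp (Spec (CommRingCat.of A))}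
    (hX : IsAlgSpace X) (s : X ⟶ (yon _).obj (Over.mk (𝟙 (Spec (CommRingCat.of A)))))
    (hft : LocP @LocallyOfFiniteType s) (hs : IsClosedMor s) (e : E ⟶ X) (he : RepWith @IsClosedImmersion e)
    (H : ∀ (n : ℕ) (T : Over (Spec (CommRingCat.of A))) (x : (yon _).obj T ⟶ X) (_ : T ⟶ SO I n),
      ∃ r : (yon _).obj T ⟶ E, r ≫ e = x) : IsIso e := by
  let G : Set (Points X) := {x | ∃ (V : Over (Spec (CommRingCat.of A))) (b : (yon _).obj V ⟶ X) (v : V.left)
    (σ : (yon _).obj V ⟶ E), RepWith @Etale b ∧ Points.ofPt b v = x ∧ σ ≫ e = b}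
  have hG : IsOpen G := by
    rw [isOpen_iff_forall_mem_open]
    rintro x ⟨V, b, v, σ, hb, rfl, hσ⟩
    refine ⟨Set.range (Points.ofPt b), ?_, (K621.Base.isOpenMap_ofPt hb).isOpen_range, ⟨v, rfl⟩⟩
    rintro _ ⟨v', rfl⟩
    exact ⟨V, b, v', σ, hb, rfl, hσ⟩
  have h1 : ∀ x : Points X, I ≤ (ptOf s x).asIdeal → x ∈ G := by
    intro x hx
    obtain ⟨V, b, v, hV, hb, rfl⟩ := K624.DimInt.exists_affine_chart hX x
    rw [ptOf_ofPt] at hx
    have hlft : LocallyOfFiniteType V.hom := by
      obtain ⟨h, hh⟩ := (yon _).map_surjective (b ≫ s)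
      have h2 : LocallyOfFiniteType h.left := hft b (𝟙 _) h hb (repWith_id _ _) (by rw [hh, Category.comp_id])
      have h3 : h.left = V.hom := by simpa using Over.w h
      rwa [h3] at h2
    have hN : IsLocallyNoetherian V.left := LocallyOfFiniteType.isLocallyNoetherian V.hom
    let B : Type u := Γ(V.left, ⊤)
    have hB : IsNoetherianRing B := IsLocallyNoetherian.component_noetherian ⟨⊤, isAffineOpen_top _⟩
    obtain ⟨φ, hφ⟩ := Spec.map_surjective (V.left.isoSpec.inv ≫ V.hom)
    let c : Over.mk (Spec.map φ) ⟶ V := Over.homMk V.left.isoSpec.inv hφ.symm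
    have hc : IsIso c.left := inferInstanceAs (IsIso V.left.isoSpec.inv)
    have hb' : RepWith @Etale ((yon _).map c ≫ b) :=
      MorphismProperty.comp_mem (RepWith @Etale) _ _ ((repWith_yon_map_iff _ _).2 inferInstance) hb
    have hv : c.left (V.left.isoSpec.hom v) = v := by
      change V.left.isoSpec.inv (V.left.isoSpec.hom v) = v
      rw [← Scheme.Hom.comp_apply, Iso.hom_inv_id]
      rfl
    obtain ⟨V', b', v', σ, h4, h5, h6⟩ := exists_factor_spec (B := B) he H φ _ hb' (V.left.isoSpec.hom v) (by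
      rw [Ideal.map_le_iff_le_comap]
      refine hx.trans ?_
      have h7 : V.hom v = Spec.map φ (V.left.isoSpec.hom v) := by
        rw [hφ, Scheme.Hom.comp_apply]
        exact congrArg V.hom hv.symm
      rw [h7]
      exact le_rfl)
    refine ⟨V', b', v', σ, h4, ?_, h6⟩
    rw [h5, K621.Base.ofPt_comp]
    exact congrArg _ hv
  refine isIso_of_points e he hX fun x => ?_
  by_contra hx
  have hZ : IsClosed Gᶜ := hG.isClosed_compl
  have hZ' : IsClosed (ptOf s '' Gᶜ) := isClosedMap_ptOf hs _ hZ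
  obtain ⟨m, hm, hle⟩ := Ideal.exists_le_maximal _ (ptOf s x).isPrime.ne_top
  let y : PrimeSpectrum A := ⟨m, hm.isPrime⟩
  have hy : y ∈ ptOf s '' Gᶜ := by
    have h2 : ptOf s x ⤳ y := (PrimeSpectrum.le_iff_specializes _ _).1 hle
    exact h2.mem_closed hZ' ⟨x, hx, rfl⟩
  obtain ⟨x', hx', hy'⟩ := hy
  refine hx' (h1 x' ?_)
  rw [hy']
  exact hI.trans (sInf_le ⟨bot_le, hm⟩)

/-- **Uniqueness**: two morphisms from a proper space to a separated space which agree on all `X_n` are equal. -/
theorem hom_ext [IsNoetherianRing A] (hI : I ≤ Ideal.jacobson ⊥) {X Y : Sp (Spec (CommRingCat.of A))}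
    (hX : IsAlgSpace X) (s : X ⟶ (yon _).obj (Over.mk (𝟙 (Spec (CommRingCat.of A)))))
    (hft : LocP @LocallyOfFiniteType s) (hs : IsClosedMor s) (hY : IsSeparatedSp Y) (a b : X ⟶ Y)
    (H : ∀ (n : ℕ) (T : Over (Spec (CommRingCat.of A))) (x : (yon _).obj T ⟶ X) (_ : T ⟶ SO I n),
      x ≫ a = x ≫ b) : a = b := by
  have sq := IsPullback.of_hasPullback (prod.lift a b) (Limits.diag Y)
  have he : RepWith @IsClosedImmersion (pullback.fst (prod.lift a b) (Limits.diag Y)) :=
    MorphismProperty.of_isPullback sq.flip hY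
  have h1 : pullback.fst (prod.lift a b) (Limits.diag Y) ≫ a = pullback.fst (prod.lift a b) (Limits.diag Y) ≫ b := by
    have h2 := congrArg (· ≫ prod.fst) sq.w
    have h3 := congrArg (· ≫ prod.snd) sq.w
    simp only [Category.assoc, prod.lift_fst, prod.lift_snd, Limits.diag] at h2 h3
    rw [h2, h3]
  have h2 := isIso_of_formal hI hX s hft hs _ he (fun n T x y => by
    have h3 := H n T x y
    refine ⟨pullback.lift x (x ≫ a) ?_, pullback.lift_fst _ _ _⟩
    apply Limits.prod.hom_ext
    · simp [Limits.diag, prod.lift_fst]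
    · simp [Limits.diag, prod.lift_snd, h3])
  rw [← cancel_epi (pullback.fst (prod.lift a b) (Limits.diag Y)), h1]

end

end K613.FormalUniq
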