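import Groth.Agent.AlgSp.K613.FormTower
import Groth.Agent.AlgSp.K613.FormalUniq
import Groth.Agent.AlgSp.K608.SepAbs
import Groth.Agent.AlgSp.K608.Comp

/-!
# Algebraization of proper formal algebraic spaces from compatible line bundles, and of proper algebraic spaces
-/

set_option autoImplicit false
universe u
open CategoryTheory CategoryTheory.Limits AlgebraicGeometry

namespace K613.FormAmple

open AlgSp K635.Thick K613.FormTower

section

variable {A : Type u} [CommRing A] {I : Ideal A}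
  {X : ℕ → Space (Spec (CommRingCat.of A))} {s : ∀ n, (X n).obj ⟶ (yon _).obj (SO I n)}
  {t : ∀ n, (X n).obj ⟶ (X (n + 1)).obj}

/-- The schemes representing the members of a formal system, with prescribed first member. -/
theorem exists_schemes (ht : ∀ n, IsPullback (t n) (s n) (s (n + 1)) ((yon _).map (tr I n)))
    (T₀ : Over (Spec (CommRingCat.of A))) (e₀ : (yon _).obj T₀ ≅ (X 0).obj) :
    ∃ (T : ℕ → Over (Spec (CommRingCat.of A))) (e : ∀ n, (yon _).obj (T n) ≅ (X n).obj)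
      (p : ∀ n, T n ⟶ SO I n) (i : ∀ n, T n ⟶ T (n + 1)), T 0 = T₀ ∧
      (∀ n, (yon _).map (p n) = (e n).hom ≫ s n) ∧ (∀ n, (yon _).map (i n) ≫ (e (n + 1)).hom = (e n).hom ≫ t n) ∧
      ∀ n, IsPullback (i n) (p n) (p (n + 1)) (tr I n) := by
  have h0 : (X 0).obj.obj.IsRepresentable := K610.ZarGlue.isRepresentable_iff.2 ⟨T₀, ⟨e₀⟩⟩
  choose T' e' using fun n => K610.ZarGlue.isRepresentable_iff.1 (isRepresentable_all ht h0 n)
  let T : ℕ → Over (Spec (CommRingCat.of A)) := fun n => Nat.casesOn n T₀ (fun n => T' (n + 1))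
  let e : ∀ n, (yon _).obj (T n) ≅ (X n).obj := fun n => Nat.casesOn n e₀ (fun n => (e' (n + 1)).some)
  choose p hp using fun n => (yon (Spec (CommRingCat.of A))).map_surjective ((e n).hom ≫ s n)
  choose i hi using fun n => (yon (Spec (CommRingCat.of A))).map_surjective ((e n).hom ≫ t n ≫ (e (n + 1)).inv)
  refine ⟨T, e, p, i, rfl, hp, fun n => by rw [hi n]; simp, fun n => isPullback_of_yon ?_⟩
  exact IsPullback.of_iso (ht n) (e n).symm (e (n + 1)).symm (Iso.refl _) (Iso.refl _)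
    (by simp [hi]) (by simp [hp]) (by simp [hp]) (by simp)

/-- A formal algebraic space with schematic first member whose scheme model algebraizes to a projective scheme. -/
theorem algebraize_of {T : ℕ → Over (Spec (CommRingCat.of A))} {e : ∀ n, (yon _).obj (T n) ≅ (X n).obj}
    {p : ∀ n, T n ⟶ SO I n} {i : ∀ n, T n ⟶ T (n + 1)} (hp : ∀ n, (yon _).map (p n) = (e n).hom ≫ s n)
    (hi : ∀ n, (yon _).map (i n) ≫ (e (n + 1)).hom = (e n).hom ≫ t n) {N : ℕ} {Y : Scheme.{u}}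
    (j : Y ⟶ CohB1.ProjSpace N A) (hj : IsClosedImmersion j) (f : ∀ n, (T n).left ⟶ Y)
    (hf : ∀ n, IsPullback (f n) (p n).left (j ≫ CohB1.ProjSpace.toSpec N A) (CohB1.specQuot I n))
    (hfi : ∀ n, f n = (i n).left ≫ f (n + 1)) :
    ∃ (n : ℕ) (T : Scheme.{u}) (i : T ⟶ CohB1.ProjSpace n A)
      (q : ∀ m, (X m).obj ⟶ (yon (Spec (CommRingCat.of A))).obj (Over.mk (i ≫ CohB1.ProjSpace.toSpec n A))),
      IsClosedImmersion i ∧
        (∀ m, IsPullback (q m) (s m)
          ((yon (Spec (CommRingCat.of A))).map (Over.homMk (i ≫ CohB1.ProjSpace.toSpec n A) (Category.comp_id _) :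
              Over.mk (i ≫ CohB1.ProjSpace.toSpec n A) ⟶ Over.mk (𝟙 _)))
          ((yon (Spec (CommRingCat.of A))).map (SI I m))) ∧
        ∀ m, t m ≫ q (m + 1) = q m := by
  have hw : ∀ m, f m ≫ (j ≫ CohB1.ProjSpace.toSpec N A) = (T m).hom := fun m => by
    rw [(hf m).w]
    exact Over.w (p m)
  refine ⟨N, Y, j, fun m => (e m).inv ≫ (yon _).map (Over.homMk (f m) (hw m) : T m ⟶ Over.mk (j ≫ CohB1.ProjSpace.toSpec N A)),
    hj, fun m => ?_, fun m => ?_⟩
  · have sq : IsPullback (Over.homMk (f m) (hw m) : T m ⟶ Over.mk (j ≫ CohB1.ProjSpace.toSpec N A)) (p m)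
        (Over.homMk (j ≫ CohB1.ProjSpace.toSpec N A) (Category.comp_id _) :
          Over.mk (j ≫ CohB1.ProjSpace.toSpec N A) ⟶ Over.mk (𝟙 _)) (SI I m) :=
      K596.Univ.isPullback_over (by ext1; exact (hf m).w) (hf m)
    exact IsPullback.of_iso (sq.map (yon _)) (e m) (Iso.refl _) (Iso.refl _) (Iso.refl _)
      (by simp) (by simp [hp]) (by simp) (by simp)
  · rw [← cancel_epi (e m).hom, Iso.hom_inv_id_assoc, ← Category.assoc, ← Category.assoc, ← hi m, Category.assoc,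
      Category.assoc, Iso.hom_inv_id_assoc, ← Functor.map_comp]
    congr 1
    ext1
    exact (hfi m).symm

/-- Properness of the scheme model. -/
theorem isProper_left {T₀ : Over (Spec (CommRingCat.of A))} {Z : Sp (Spec (CommRingCat.of A))} (hZ : IsAlgSpace Z)
    {e : (yon _).obj T₀ ≅ Z} {n : ℕ} {z : Z ⟶ (yon _).obj (SO I n)} {p : T₀ ⟶ SO I n}
    (hp : (yon _).map p = e.hom ≫ z) (hz : IsProperMor z) : IsProper p.left := by
  have h2 : IsProperMor ((yon _).map p) := by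
    rw [hp]
    exact K597.Proper.isProperMor_of_isPullback hZ (IsAlgSpace.yon_obj _) (IsAlgSpace.yon_obj _)
      (IsPullback.of_horiz_isIso ⟨by simp⟩ : IsPullback e.hom (e.hom ≫ z) z (𝟙 _)) hz
  exact (repWith_yon_map_iff _ _).1 ((K597.Proper.isProperMor_iff_repWith (IsAlgSpace.yon_obj _)
    (representable_yon_map _)).1 h2)

end

/-- Algebraization of a tower of schemes with compatible ample line bundles. -/
theorem exists_projective_of_ample {A : Type u} [CommRing A] [IsNoetherianRing A] (I : Ideal A) [IsAdicComplete I A]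
    {Ts : ℕ → Scheme.{u}} {p : (n : ℕ) → (Ts n ⟶ Spec (CommRingCat.of (A ⧸ I ^ (n + 1))))}
    {i : (n : ℕ) → (Ts n ⟶ Ts (n + 1))}
    (hcart : ∀ n, IsPullback (i n) (p n) (p (n + 1)) (CohB1.specQuotTrans I n)) (hp : IsProper (p 0))
    (L : (n : ℕ) → (Ts n).Modules) (hL : ∀ n, PicF.IsInvertible (L n))
    (φ : ∀ n, Nonempty ((Scheme.Modules.pullback (i n)).obj (L (n + 1)) ≅ L n)) (ha : CohB1.IsAmple (L 0)) :
    ∃ (N : ℕ) (T : Scheme.{u}) (j : T ⟶ CohB1.ProjSpace N A) (e : (n : ℕ) → (Ts n ⟶ T)), IsClosedImmersion j ∧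
      (∀ n, IsPullback (e n) (p n) (j ≫ CohB1.ProjSpace.toSpec N A) (CohB1.specQuot I n)) ∧
      ∀ n, e n = i n ≫ e (n + 1) := by
  obtain ⟨Y, g, M, e, hg, hM, ha, h1, h2, -⟩ := Groth.Agent.S0056.result A I Ts p i hcart hp L hL φ ha
  obtain ⟨N, c, hc, hcg⟩ := Groth.Agent.CalgB.ProjField.exists_closedImmersion_projSpace g ⟨M, ha⟩
  refine ⟨N, Y, c, e, hc, fun n => ?_, h2⟩
  rw [hcg]
  exact h1 n

/-- Interface: algebraization of morphisms (the milestone S10673). -/
def AlgMor (A : Type u) [CommRing A] (I : Ideal A) : Prop :=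
  ∀ {X Y : Space (Spec (CommRingCat.of A))} (sX : X.obj ⟶ (yon (Spec (CommRingCat.of A))).obj (Over.mk (𝟙 _)))
    (sY : Y.obj ⟶ (yon (Spec (CommRingCat.of A))).obj (Over.mk (𝟙 _)))
    (_ : IsProperMor sX) (_ : IsSeparatedMor sY) (_ : IsFiniteTypeMor sY)
    (Xn : ℕ → Space (Spec (CommRingCat.of A))) (pX : ∀ n, Xn n ⟶ X)
    (snX : ∀ n, (Xn n).obj ⟶ (yon (Spec (CommRingCat.of A))).obj (SO I n))
    (_ : ∀ n, IsPullback (pX n).hom (snX n) sX ((yon (Spec (CommRingCat.of A))).map (SI I n)))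
    (tX : ∀ n, Xn n ⟶ Xn (n + 1)) (_ : ∀ n, tX n ≫ pX (n + 1) = pX n)
    (Yn : ℕ → Space (Spec (CommRingCat.of A))) (pY : ∀ n, Yn n ⟶ Y)
    (snY : ∀ n, (Yn n).obj ⟶ (yon (Spec (CommRingCat.of A))).obj (SO I n))
    (_ : ∀ n, IsPullback (pY n).hom (snY n) sY ((yon (Spec (CommRingCat.of A))).map (SI I n)))
    (tY : ∀ n, Yn n ⟶ Yn (n + 1)) (_ : ∀ n, tY n ≫ pY (n + 1) = pY n)
    (g : ∀ n, Xn n ⟶ Yn n) (_ : ∀ n, (g n).hom ≫ snY n = snX n)
    (_ : ∀ n, tX n ≫ g (n + 1) = g n ≫ tY n),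
    ∃ gg : X ⟶ Y, gg.hom ≫ sY = sX ∧ ∀ n, pX n ≫ gg = g n ≫ pY n

section

variable {A : Type u} [CommRing A] {I : Ideal A}

/-- A morphism from the `n`th infinitesimal neighbourhood factors. -/
theorem exists_lift {X : Sp (Spec (CommRingCat.of A))} {n : ℕ}
    {P : Sp (Spec (CommRingCat.of A))} {p : P ⟶ X} {q : P ⟶ (yon _).obj (SO I n)}
    {s : X ⟶ (yon (Spec (CommRingCat.of A))).obj (Over.mk (𝟙 _))}
    (sq : IsPullback p q s ((yon _).map (SI I n))) (T : Over (Spec (CommRingCat.of A)))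
    (x : (yon _).obj T ⟶ X) (y : T ⟶ SO I n) : ∃ l : (yon _).obj T ⟶ P, l ≫ p = x := by
  have w : x ≫ s = (yon _).map y ≫ (yon _).map (SI I n) := by
    obtain ⟨h, hh⟩ := (yon _).map_surjective (x ≫ s)
    rw [← hh, ← Functor.map_comp]
    congr 1
    ext1
    have h1 : h.left = T.hom := by simpa using Over.w h
    have h2 : (y ≫ SI I n).left = T.hom := by simpa using Over.w (y ≫ SI I n)
    rw [h1, h2]
  exact ⟨sq.lift x ((yon _).map y) w, sq.lift_fst _ _ _⟩

theorem isClosedMor_of_isProperMor {Z : Sp (Spec (CommRingCat.of A))}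
    (z : Z ⟶ (yon (Spec (CommRingCat.of A))).obj (Over.mk (𝟙 _))) (hz : IsProperMor z) : IsClosedMor z :=
  hz.2.2 (IsAlgSpace.yon_obj _) (𝟙 _) (𝟙 _) z (IsPullback.of_horiz_isIso ⟨by simp⟩)

theorem isSeparatedSp_pt :
    IsSeparatedSp ((yon (Spec (CommRingCat.of A))).obj (Over.mk (𝟙 (Spec (CommRingCat.of A))))) :=
  (repWith_diag_yon_iff @IsClosedImmersion _).2
    (IsSeparated.isClosedImmersion_diagonal (f := 𝟙 (Spec (CommRingCat.of A))))

/-- A proper algebraic space over a complete ring is determined by its infinitesimal neighbourhoods. -/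
theorem exists_iso [IsNoetherianRing A] (hI : I ≤ Ideal.jacobson ⊥) (h673 : AlgMor A I)
    {X Y : Space (Spec (CommRingCat.of A))} (s : X.obj ⟶ (yon (Spec (CommRingCat.of A))).obj (Over.mk (𝟙 _)))
    (hs : IsProperMor s) (sY : Y.obj ⟶ (yon (Spec (CommRingCat.of A))).obj (Over.mk (𝟙 _))) (hY : IsProperMor sY)
    (Xn : ℕ → Space (Spec (CommRingCat.of A))) (pX : ∀ n, Xn n ⟶ X)
    (sX : ∀ n, (Xn n).obj ⟶ (yon (Spec (CommRingCat.of A))).obj (SO I n))
    (hXn : ∀ n, IsPullback (pX n).hom (sX n) s ((yon (Spec (CommRingCat.of A))).map (SI I n)))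
    (t : ∀ n, Xn n ⟶ Xn (n + 1)) (ht3 : ∀ n, t n ≫ pX (n + 1) = pX n)
    (qY : ∀ n, Xn n ⟶ Y) (hq : ∀ n, IsPullback (qY n).hom (sX n) sY ((yon (Spec (CommRingCat.of A))).map (SI I n)))
    (hqt' : ∀ n, t n ≫ qY (n + 1) = qY n) : Nonempty (X.obj ≅ Y.obj) := by
  obtain ⟨g, hg1, hg2⟩ := h673 s sY hs hY.1 hY.2.1 Xn pX sX hXn t ht3 Xn qY sX hq t hqt'
    (fun m => 𝟙 _) (fun m => Category.id_comp _) (fun m => by rw [Category.comp_id, Category.id_comp])
  obtain ⟨h, hh1, hh2⟩ := h673 sY s hY hs.1 hs.2.1 Xn qY sX hq t hqt' Xn pX sX hXn t ht3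
    (fun m => 𝟙 _) (fun m => Category.id_comp _) (fun m => by rw [Category.comp_id, Category.id_comp])
  have hXs : IsSeparatedSp X.obj := K608.SepAbs.isSeparatedSp_of_isSeparatedMor s hs.1 isSeparatedSp_pt
  have hYs : IsSeparatedSp Y.obj := K608.SepAbs.isSeparatedSp_of_isSeparatedMor sY hY.1 isSeparatedSp_pt
  have e1 : g.hom ≫ h.hom = 𝟙 X.obj := by
    refine K613.FormalUniq.hom_ext hI X.property s hs.2.1.1 (isClosedMor_of_isProperMor s hs) hXs _ _ fun m T' x y => ?_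
    obtain ⟨l, rfl⟩ := exists_lift (hXn m) T' x y
    have h6 : (pX m).hom ≫ g.hom ≫ h.hom = (pX m).hom := by
      have h7 := congrArg (fun z => z.hom) (congrArg (· ≫ h) (hg2 m))
      have h8 := congrArg (fun z => z.hom) (hh2 m)
      simp only [Category.id_comp, Category.assoc] at h7 h8
      exact Eq.trans h7 h8
    rw [Category.assoc, h6, Category.comp_id]
  have e2 : h.hom ≫ g.hom = 𝟙 Y.obj := by
    refine K613.FormalUniq.hom_ext hI Y.property sY hY.2.1.1 (isClosedMor_of_isProperMor sY hY) hYs _ _ fun m T' x y => ?_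
    obtain ⟨l, rfl⟩ := exists_lift (hq m) T' x y
    have h6 : (qY m).hom ≫ h.hom ≫ g.hom = (qY m).hom := by
      have h7 := congrArg (fun z => z.hom) (congrArg (· ≫ g) (hh2 m))
      have h8 := congrArg (fun z => z.hom) (hg2 m)
      simp only [Category.id_comp, Category.assoc] at h7 h8
      exact Eq.trans h7 h8
    rw [Category.assoc, h6, Category.comp_id]
  exact ⟨⟨g.hom, h.hom, e1, e2⟩⟩

/-- A proper algebraic space over a complete ring whose formal completion is that of a projective scheme is a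
projective scheme. -/
theorem projective_of [IsNoetherianRing A] (hI : I ≤ Ideal.jacobson ⊥) (h673 : AlgMor A I)
    {X : Space (Spec (CommRingCat.of A))} (s : X.obj ⟶ (yon (Spec (CommRingCat.of A))).obj (Over.mk (𝟙 _)))
    (hs : IsProperMor s)
    (halg : ∀ (Xn : ℕ → Space (Spec (CommRingCat.of A))) (pX : ∀ n, Xn n ⟶ X)
      (sX : ∀ n, (Xn n).obj ⟶ (yon (Spec (CommRingCat.of A))).obj (SO I n)) (t : ∀ n, Xn n ⟶ Xn (n + 1)),
      (∀ n, IsPullback (pX n).hom (sX n) s ((yon (Spec (CommRingCat.of A))).map (SI I n))) →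
      (∀ n, IsPullback (t n).hom (sX n) (sX (n + 1)) ((yon (Spec (CommRingCat.of A))).map (tr I n))) →
      (∀ n, IsProperMor (sX n)) →
      ∃ (n : ℕ) (T : Scheme.{u}) (i : T ⟶ CohB1.ProjSpace n A)
      (q : ∀ m, (Xn m).obj ⟶ (yon (Spec (CommRingCat.of A))).obj (Over.mk (i ≫ CohB1.ProjSpace.toSpec n A))),
      IsClosedImmersion i ∧
        (∀ m, IsPullback (q m) (sX m)
          ((yon (Spec (CommRingCat.of A))).map (Over.homMk (i ≫ CohB1.ProjSpace.toSpec n A) (Category.comp_id _) :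
              Over.mk (i ≫ CohB1.ProjSpace.toSpec n A) ⟶ Over.mk (𝟙 _)))
          ((yon (Spec (CommRingCat.of A))).map (SI I m))) ∧
        ∀ m, (t m).hom ≫ q (m + 1) = q m) :
    ∃ (n : ℕ) (T : Scheme.{u}) (i : T ⟶ CohB1.ProjSpace n A), IsClosedImmersion i ∧
      Nonempty (X.obj ≅ (yon (Spec (CommRingCat.of A))).obj (Over.mk (i ≫ CohB1.ProjSpace.toSpec n A))) := by
  have hT1 : IsAlgSpace ((yon (Spec (CommRingCat.of A))).obj (Over.mk (𝟙 (Spec (CommRingCat.of A))))) :=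
    IsAlgSpace.yon_obj _
  let Xn : ℕ → Space (Spec (CommRingCat.of A)) := fun n =>
    ⟨pullback s ((yon _).map (SI I n)), K608.Comp.isAlgSpace_pullback _ _ X.property (IsAlgSpace.yon_obj _) hT1⟩
  let pX : ∀ n, Xn n ⟶ X := fun n => ObjectProperty.homMk (pullback.fst s ((yon _).map (SI I n)))
  let sX : ∀ n, (Xn n).obj ⟶ (yon _).obj (SO I n) := fun n => pullback.snd s ((yon _).map (SI I n))
  have hXn : ∀ n, IsPullback (pX n).hom (sX n) s ((yon _).map (SI I n)) := fun n => IsPullback.of_hasPullback _ _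
  have hw : ∀ n, (pX n).hom ≫ s = (sX n ≫ (yon _).map (tr I n)) ≫ (yon _).map (SI I (n + 1)) := fun n => by
    rw [Category.assoc, ← Functor.map_comp, tr_comp]
    exact (hXn n).w
  let t : ∀ n, Xn n ⟶ Xn (n + 1) := fun n => ObjectProperty.homMk ((hXn (n + 1)).lift _ _ (hw n))
  have ht1 : ∀ n, (t n).hom ≫ (pX (n + 1)).hom = (pX n).hom := fun n => (hXn (n + 1)).lift_fst _ _ (hw n)
  have ht2 : ∀ n, (t n).hom ≫ sX (n + 1) = sX n ≫ (yon _).map (tr I n) := fun n =>
    (hXn (n + 1)).lift_snd _ _ (hw n)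
  have ht3 : ∀ n, t n ≫ pX (n + 1) = pX n := fun n => by
    ext1
    exact ht1 n
  have ht : ∀ n, IsPullback (t n).hom (sX n) (sX (n + 1)) ((yon _).map (tr I n)) := fun n => by
    refine IsPullback.of_right ?_ (ht2 n) (hXn (n + 1))
    rw [ht1, ← Functor.map_comp, tr_comp]
    exact hXn n
  have h0 : ∀ n, IsProperMor (sX n) := fun n =>
    K597.Proper.isProperMor_of_isPullback X.property hT1 (IsAlgSpace.yon_obj _) (hXn n) hs
  obtain ⟨n, T, i, q, hi, hq, hqt⟩ := halg Xn pX sX t hXn ht h0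
  refine ⟨n, T, i, hi, ?_⟩
  let Y : Space (Spec (CommRingCat.of A)) := ⟨(yon _).obj (Over.mk (i ≫ CohB1.ProjSpace.toSpec n A)), IsAlgSpace.yon_obj _⟩
  let sY : Y.obj ⟶ (yon _).obj (Over.mk (𝟙 (Spec (CommRingCat.of A)))) :=
    (yon _).map (Over.homMk (i ≫ CohB1.ProjSpace.toSpec n A) (Category.comp_id _))
  have hY : IsProperMor sY := by
    have h4 : IsProper (CohB1.ProjSpace.toSpec n A) := Groth.Agent.Ega3B.ProjProper.isProper_toSpec n A
    have h5 : IsProper (Over.homMk (i ≫ CohB1.ProjSpace.toSpec n A) (Category.comp_id _) :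
        Over.mk (i ≫ CohB1.ProjSpace.toSpec n A) ⟶ Over.mk (𝟙 _)).left :=
      inferInstanceAs (IsProper (i ≫ CohB1.ProjSpace.toSpec n A))
    exact (K597.Proper.isProperMor_iff_repWith hT1 (representable_yon_map _)).2 ((repWith_yon_map_iff _ _).2 h5)
  let qY : ∀ m, Xn m ⟶ Y := fun m => ObjectProperty.homMk (q m)
  have hqt' : ∀ m, t m ≫ qY (m + 1) = qY m := fun m => by
    ext1
    exact hqt m
  exact exists_iso hI h673 s hs sY hY Xn pX sX hXn t ht3 qY hq hqt'

end

open IsLocalRing in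
/-- The residue field against `A/m^1`. -/
theorem exists_iso_residue (A : Type u) [CommRing A] [IsLocalRing A] :
    ∃ c : SO (maximalIdeal A) 0 ⟶ Over.mk (Spec.map (CommRingCat.ofHom (residue A))), IsIso c := by
  have h : maximalIdeal A = maximalIdeal A ^ (0 + 1) := by rw [zero_add, pow_one]
  let ε : ResidueField A ≃+* (A ⧸ maximalIdeal A ^ (0 + 1)) := Ideal.quotEquivOfEq h
  let δ : CommRingCat.of (ResidueField A) ⟶ CommRingCat.of (A ⧸ maximalIdeal A ^ (0 + 1)) :=
    CommRingCat.ofHom (ε : ResidueField A →+* (A ⧸ maximalIdeal A ^ (0 + 1)))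
  have h1 : IsIso δ := (ConcreteCategory.isIso_iff_bijective _).2 ε.bijective
  have h2 : Spec.map δ ≫ Spec.map (CommRingCat.ofHom (residue A)) = Spec.map (CommRingCat.ofHom
        (Ideal.Quotient.mk (maximalIdeal A ^ (0 + 1)))) := by
    rw [← Spec.map_comp]
    rfl
  have h3 : IsIso (Spec.map δ) := inferInstance
  refine ⟨Over.homMk (Spec.map δ) h2, ?_⟩
  have h4 : IsIso ((Over.forget _).map (Over.homMk (Spec.map δ) h2 :
      SO (maximalIdeal A) 0 ⟶ Over.mk (Spec.map (CommRingCat.ofHom (residue A))))) := h3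
  exact isIso_of_reflects_iso _ (Over.forget _)

open IsLocalRing in
/-- The zeroth infinitesimal neighbourhood is the fibre over the residue field. -/
theorem isPullback_residue {A : Type u} [CommRing A] [IsLocalRing A] {X P : Sp (Spec (CommRingCat.of A))}
    {s : X ⟶ (yon (Spec (CommRingCat.of A))).obj (Over.mk (𝟙 _))} {p : P ⟶ X}
    {q : P ⟶ (yon _).obj (SO (maximalIdeal A) 0)} (sq : IsPullback p q s ((yon _).map (SI (maximalIdeal A) 0))) :
    ∃ q' : P ⟶ (yon _).obj (Over.mk (Spec.map (CommRingCat.ofHom (residue A)))), IsPullback p q' s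
      ((AlgSp.yon (Spec (CommRingCat.of A))).map (Over.homMk (Spec.map (CommRingCat.ofHom (IsLocalRing.residue A)))
        (Category.comp_id _) : Over.mk (Spec.map (CommRingCat.ofHom (IsLocalRing.residue A))) ⟶ Over.mk (𝟙 _))) := by
  obtain ⟨c, hc⟩ := exists_iso_residue A
  refine ⟨q ≫ (yon _).map c, ?_⟩
  refine IsPullback.of_iso sq (Iso.refl _) (Iso.refl _) (asIso ((yon _).map c)) (Iso.refl _)
    (by simp) (by simp) (by simp) ?_
  simp only [Iso.refl_hom, Category.comp_id, asIso_hom]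
  rw [← Functor.map_comp]
  congr 1
  ext1
  exact (Over.w c).symm

end K613.FormAmple
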