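import Groth.Agent.AlgSp.K613.ProjTower
import Groth.Agent.AlgSp.K632.FinThickSch
import Groth.Agent.AlgSp.K635.InfNbhd
import Groth.Agent.UnramB.FirstOrderNbhd
import Groth.Agent.AlgSp.K597.Proper
import Groth.Agent.AlgSp.K624.DimInt

/-!
# Formal systems of algebraic spaces over `Spec A/I^(n+1)`

If the first member is a scheme, all are; and the algebraization in dimension one.
-/

set_option autoImplicit false
universe u
open CategoryTheory CategoryTheory.Limits AlgebraicGeometry

namespace K613.FormTower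

open AlgSp K635.Thick

theorem isPullback_of_comp_mono {C : Type*} [Category C] {P X Y Z W : C} {fst : P ⟶ X} {snd : P ⟶ Y}
    {f : X ⟶ Z} {g : Y ⟶ Z} (m : Z ⟶ W) [Mono m] (h : IsPullback fst snd (f ≫ m) (g ≫ m)) :
    IsPullback fst snd f g := by
  have w : fst ≫ f = snd ≫ g := by rw [← cancel_mono m, Category.assoc, Category.assoc, h.w]
  refine ⟨⟨w⟩, ⟨PullbackCone.IsLimit.mk _
    (fun s => h.lift s.fst s.snd (by rw [← Category.assoc, s.condition, Category.assoc]))
    (fun s => h.lift_fst _ _ _) (fun s => h.lift_snd _ _ _)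
    (fun s m' h1 h2 => h.hom_ext (by rw [h1, h.lift_fst]) (by rw [h2, h.lift_snd]))⟩⟩

theorem isPullback_comp_mono {C : Type*} [Category C] {P X Y Z W : C} {fst : P ⟶ X} {snd : P ⟶ Y}
    {f : X ⟶ Z} {g : Y ⟶ Z} (m : Z ⟶ W) [Mono m] (h : IsPullback fst snd f g) :
    IsPullback fst snd (f ≫ m) (g ≫ m) := by
  have w : fst ≫ f ≫ m = snd ≫ g ≫ m := by rw [← Category.assoc, h.w, Category.assoc]
  refine ⟨⟨w⟩, ⟨PullbackCone.IsLimit.mk _
    (fun s => h.lift s.fst s.snd (by
      rw [← cancel_mono m, Category.assoc, Category.assoc]; exact s.condition))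
    (fun s => h.lift_fst _ _ _) (fun s => h.lift_snd _ _ _)
    (fun s m' h1 h2 => h.hom_ext (by rw [h1, h.lift_fst]) (by rw [h2, h.lift_snd]))⟩⟩

section

variable {A : Type u} [CommRing A] (I : Ideal A)

/-- `Spec A/I^(n+1)` over `Spec A`. -/
noncomputable abbrev SO (n : ℕ) : Over (Spec (CommRingCat.of A)) :=
  Over.mk (Spec.map (CommRingCat.ofHom (Ideal.Quotient.mk (I ^ (n + 1)))))

/-- `Spec A/I^(n+1) ⟶ Spec A`. -/
noncomputable abbrev SI (n : ℕ) : SO I n ⟶ Over.mk (𝟙 (Spec (CommRingCat.of A))) :=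
  Over.homMk (Spec.map (CommRingCat.ofHom (Ideal.Quotient.mk (I ^ (n + 1))))) (Category.comp_id _)

/-- The transition maps. -/
noncomputable def tr (n : ℕ) : SO I n ⟶ SO I (n + 1) :=
  Over.homMk (CohB1.specQuotTrans I n) (CohB1.specQuotTrans_specQuot I n)

theorem tr_comp (n : ℕ) : tr I n ≫ SI I (n + 1) = SI I n := by
  ext1
  exact CohB1.specQuotTrans_specQuot I n

theorem isClosedImmersion_SI (n : ℕ) : IsClosedImmersion (SI I n).left :=
  IsClosedImmersion.spec_of_surjective _ Ideal.Quotient.mk_surjective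

theorem mono_SI (n : ℕ) : Mono ((yon (Spec (CommRingCat.of A))).map (SI I n)) := by
  have := isClosedImmersion_SI I n
  have h1 : Mono (SI I n).left := inferInstance
  have : Mono (SI I n) := Over.mono_of_mono_left _
  infer_instance

theorem nthick_tr (n : ℕ) : nthick 1 (tr I n).left := by
  rw [nthick_one_iff]
  refine ⟨⟨Groth.Agent.FormalA.AlgA1.isClosedImmersion_specQuotTrans I n,
    Groth.Agent.FormalA.AlgA1.surjective_specQuotTrans I n⟩, ?_⟩
  rw [← pow_two]
  refine Groth.Agent.UnramB.FirstOrderNbhd.ker_sq_SpecMap _ ?_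
  rw [eq_bot_iff, pow_two, Ideal.mul_le]
  intro a ha b hb
  obtain ⟨a, rfl⟩ := Ideal.Quotient.mk_surjective a
  obtain ⟨b, rfl⟩ := Ideal.Quotient.mk_surjective b
  have ha' : a ∈ I ^ (n + 1) := Ideal.Quotient.eq_zero_iff_mem.1 ha
  have hb' : b ∈ I ^ (n + 1) := Ideal.Quotient.eq_zero_iff_mem.1 hb
  rw [Ideal.mem_bot, ← map_mul, Ideal.Quotient.eq_zero_iff_mem]
  have h1 : a * b ∈ I ^ (n + 1) * I ^ (n + 1) := Ideal.mul_mem_mul ha' hb'
  rw [← pow_add] at h1
  exact Ideal.pow_le_pow_right (by omega) h1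

variable {I}

/-- The transitions of a formal system are base changes of those of the base. -/
theorem isPullback_tr {X Y : Sp (Spec (CommRingCat.of A))} {n : ℕ} {s : X ⟶ (yon _).obj (SO I n)}
    {s' : Y ⟶ (yon _).obj (SO I (n + 1))} {t : X ⟶ Y}
    (h : IsPullback t s (s' ≫ (yon _).map (SI I (n + 1))) ((yon _).map (SI I n))) :
    IsPullback t s s' ((yon _).map (tr I n)) := by
  have := mono_SI I (n + 1)
  refine isPullback_of_comp_mono ((yon _).map (SI I (n + 1))) ?_
  rw [← Functor.map_comp, tr_comp]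
  exact h

variable {X : ℕ → Space (Spec (CommRingCat.of A))} {s : ∀ n, (X n).obj ⟶ (yon _).obj (SO I n)}
  {t : ∀ n, (X n).obj ⟶ (X (n + 1)).obj}

/-- If the first member is a scheme, so are all. -/
theorem isRepresentable_all (ht : ∀ n, IsPullback (t n) (s n) (s (n + 1)) ((yon _).map (tr I n)))
    (h0 : (X 0).obj.obj.IsRepresentable) (n : ℕ) : (X n).obj.obj.IsRepresentable := by
  induction n with
  | zero => exact h0
  | succ n ih =>
    obtain ⟨P, ⟨e⟩⟩ := K610.ZarGlue.isRepresentable_iff.1 ih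
    have h1 : IsNThickMor 1 (e.hom ≫ t n) := by
      rw [isNThickMor_iff (X (n + 1)).property]
      have sq : IsPullback (e.hom ≫ t n) (e.hom ≫ s n) (s (n + 1)) ((yon _).map (tr I n)) :=
        IsPullback.of_iso (ht n) e.symm (Iso.refl _) (Iso.refl _) (Iso.refl _) (by simp) (by simp) (by simp) (by simp)
      exact MorphismProperty.of_isPullback sq.flip ((repWith_yon_map_iff (nthick 1) _).2 (nthick_tr I n))
    exact K632.FinThickSch.isRepresentable ⟨1, h1⟩

/-- The schemes representing the members of a formal system with first member a scheme. -/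
theorem exists_schemes (ht : ∀ n, IsPullback (t n) (s n) (s (n + 1)) ((yon _).map (tr I n)))
    (h0 : (X 0).obj.obj.IsRepresentable) :
    ∃ (T : ℕ → Over (Spec (CommRingCat.of A))) (e : ∀ n, (yon _).obj (T n) ≅ (X n).obj)
      (p : ∀ n, T n ⟶ SO I n) (i : ∀ n, T n ⟶ T (n + 1)),
      (∀ n, (yon _).map (p n) = (e n).hom ≫ s n) ∧ (∀ n, (yon _).map (i n) ≫ (e (n + 1)).hom = (e n).hom ≫ t n) ∧
      ∀ n, IsPullback (i n) (p n) (p (n + 1)) (tr I n) := by
  choose T e using fun n => K610.ZarGlue.isRepresentable_iff.1 (isRepresentable_all ht h0 n)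
  replace e := fun n => (e n).some
  choose p hp using fun n => (yon (Spec (CommRingCat.of A))).map_surjective ((e n).hom ≫ s n)
  choose i hi using fun n => (yon (Spec (CommRingCat.of A))).map_surjective ((e n).hom ≫ t n ≫ (e (n + 1)).inv)
  refine ⟨T, e, p, i, hp, fun n => by rw [hi n]; simp, fun n => isPullback_of_yon ?_⟩
  exact IsPullback.of_iso (ht n) (e n).symm (e (n + 1)).symm (Iso.refl _) (Iso.refl _)
    (by simp [hi]) (by simp [hp]) (by simp [hp]) (by simp)

end

open IsLocalRing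

/-- **Algebraization of proper formal algebraic spaces of dimension at most one** with a schematic first member. -/
theorem algebraize (A : Type u) [CommRing A] [IsNoetherianRing A] [IsLocalRing A]
    [IsAdicComplete (maximalIdeal A) A] {X : ℕ → Space (Spec (CommRingCat.of A))}
    {s : ∀ n, (X n).obj ⟶ (yon (Spec (CommRingCat.of A))).obj (SO (maximalIdeal A) n)}
    {t : ∀ n, (X n).obj ⟶ (X (n + 1)).obj}
    (ht : ∀ n, IsPullback (t n) (s n) (s (n + 1)) ((yon (Spec (CommRingCat.of A))).map (tr (maximalIdeal A) n)))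
    (hr : (X 0).obj.obj.IsRepresentable) (h0 : IsProperMor (s 0)) (hd : AlgSp.dim (X 0).obj ≤ 1) :
    ∃ (n : ℕ) (T : Scheme.{u}) (i : T ⟶ CohB1.ProjSpace n A)
      (q : ∀ m, (X m).obj ⟶ (yon (Spec (CommRingCat.of A))).obj (Over.mk (i ≫ CohB1.ProjSpace.toSpec n A))),
      IsClosedImmersion i ∧
        (∀ m, IsPullback (q m) (s m)
          ((yon (Spec (CommRingCat.of A))).map (Over.homMk (i ≫ CohB1.ProjSpace.toSpec n A) (Category.comp_id _) :
              Over.mk (i ≫ CohB1.ProjSpace.toSpec n A) ⟶ Over.mk (𝟙 _)))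
          ((yon (Spec (CommRingCat.of A))).map (SI (maximalIdeal A) m))) ∧
        ∀ m, t m ≫ q (m + 1) = q m := by
  obtain ⟨T, e, p, i, hp, hi, hcart⟩ := exists_schemes ht hr
  have h1 : IsProper (p 0).left := by
    have h2 : IsProperMor ((yon _).map (p 0)) := by
      rw [hp]
      exact K597.Proper.isProperMor_of_isPullback (X 0).property (IsAlgSpace.yon_obj _) (IsAlgSpace.yon_obj _)
        (IsPullback.of_horiz_isIso ⟨by simp⟩ : IsPullback (e 0).hom ((e 0).hom ≫ s 0) (s 0) (𝟙 _)) h0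
    exact (repWith_yon_map_iff _ _).1 ((K597.Proper.isProperMor_iff_repWith (IsAlgSpace.yon_obj _)
      (representable_yon_map _)).1 h2)
  have h3 : topologicalKrullDim ↥(T 0).left ≤ 1 :=
    (K624.DimInt.topologicalKrullDim_le_dim (e 0).hom (K610.OpenImm.repWith_etale_of_open
      (K610.SchLocus.repWith_iso (e 0)))).trans hd
  have h4 : ∀ n, IsPullback (i n).left (p n).left (p (n + 1)).left (CohB1.specQuotTrans (maximalIdeal A) n) :=
    fun n => isPullback_left (hcart n)
  obtain ⟨N, Y, j, f, hj, hf, hfi⟩ := Groth.Agent.AlgSp.K613.ProjTower.exists_projective (A := A)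
    (Ts := fun n => (T n).left) (p := fun n => (p n).left) (i := fun n => (i n).left) h4 h1 h3
  have hw : ∀ m, f m ≫ (j ≫ CohB1.ProjSpace.toSpec N A) = (T m).hom := fun m => by
    rw [(hf m).w]
    exact Over.w (p m)
  refine ⟨N, Y, j, fun m => (e m).inv ≫ (yon _).map (Over.homMk (f m) (hw m) : T m ⟶ Over.mk (j ≫ CohB1.ProjSpace.toSpec N A)),
    hj, fun m => ?_, fun m => ?_⟩
  · have sq : IsPullback (Over.homMk (f m) (hw m) : T m ⟶ Over.mk (j ≫ CohB1.ProjSpace.toSpec N A)) (p m)
        (Over.homMk (j ≫ CohB1.ProjSpace.toSpec N A) (Category.comp_id _) :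
          Over.mk (j ≫ CohB1.ProjSpace.toSpec N A) ⟶ Over.mk (𝟙 _)) (SI (maximalIdeal A) m) :=
      K596.Univ.isPullback_over (by ext1; exact (hf m).w) (hf m)
    exact IsPullback.of_iso (sq.map (yon _)) (e m) (Iso.refl _) (Iso.refl _) (Iso.refl _)
      (by simp) (by simp [hp]) (by simp) (by simp)
  · rw [← cancel_epi (e m).hom, Iso.hom_inv_id_assoc, ← Category.assoc, ← Category.assoc, ← hi m, Category.assoc,
      Category.assoc, Iso.hom_inv_id_assoc, ← Functor.map_comp]
    congr 1
    ext1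
    exact (hfi m).symm

end K613.FormTower
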