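import Groth.Agent.AlgSp.K613.Cover

/-!
# A sheaf over a scheme which is étale locally on the base either missed or isomorphic to it is an open subscheme
-/

set_option autoImplicit false
universe u

open CategoryTheory CategoryTheory.Limits AlgebraicGeometry Opposite AlgSp K613.Basic K613.Cover

namespace K613

variable {S : Scheme.{u}}

/-- Let `p : U ⟶ X` be an fppf covering, `f : X ⟶ Z` with `p ≫ f = q`, such that every point of `q(U)` is in the image of
an étale `E ⟶ Z` with `X ×_Z E = E`.  Then `X` is an open subscheme of `Z`. -/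
theorem exists_open_of_local {X : Sp S} {U Z : Over S} {p : (yon S).obj U ⟶ X} (hp : FSurj p) {q : U ⟶ Z}
    {f : X ⟶ (yon S).obj Z} (w : p ≫ f = (yon S).map q)
    (H : ∀ x : U.left, ∃ (E : Over S) (g : E ⟶ Z) (y : (yon S).obj E ⟶ X), Etale g.left ∧
      q.left x ∈ Set.range g.left ∧ IsPullback y (𝟙 _) f ((yon S).map g)) :
    ∃ (O : Over S) (i : O ⟶ Z) (e : X ≅ (yon S).obj O), IsOpenImmersion i.left ∧ e.hom ≫ (yon S).map i = f := by
  choose E g y hg hx sq using H
  have hgo : ∀ x, IsOpen (Set.range (g x).left) := fun x => by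
    have := hg x
    exact (g x).left.isOpenMap.isOpen_range
  let O : Z.left.Opens := ⟨⋃ x, Set.range (g x).left, isOpen_iUnion hgo⟩
  have hO : ∀ z : Z.left, z ∈ O ↔ ∃ x, z ∈ Set.range (g x).left := fun z => Set.mem_iUnion
  let OS : Over S := Over.mk (O.ι ≫ Z.hom)
  let i : OS ⟶ Z := Over.homMk O.ι rfl
  have hi : IsOpenImmersion i.left := (inferInstance : IsOpenImmersion O.ι)
  have hri : Set.range i.left = O := Scheme.Opens.range_ι O
  have himono : Mono i := by
    have : Mono i.left := inferInstance
    exact Over.mono_of_mono_left i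
  have hymono : Mono ((yon S).map i) := inferInstance
  -- the map to `O`
  have hqO : Set.range q.left ⊆ Set.range i.left := by
    rw [hri]
    rintro _ ⟨x, rfl⟩
    exact (hO _).2 ⟨x, hx x⟩
  let q' : U ⟶ OS := Over.homMk (IsOpenImmersion.lift i.left q.left hqO) (by
    change IsOpenImmersion.lift i.left q.left hqO ≫ i.left ≫ Z.hom = U.hom
    rw [← Category.assoc, IsOpenImmersion.lift_fac, Over.w])
  have hq' : q' ≫ i = q := by ext1; exact IsOpenImmersion.lift_fac _ _ _
  obtain ⟨e, he, -⟩ := hp.desc ((yon S).map q') (fun R u v huv => by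
    rw [← cancel_mono ((yon S).map i), Category.assoc, Category.assoc, ← Functor.map_comp, hq', ← w,
      ← Category.assoc, huv, Category.assoc])
  have hef : e ≫ (yon S).map i = f := by
    have := hp.epi
    rw [← cancel_epi p, ← Category.assoc, he, ← Functor.map_comp, hq', w]
  -- the key uniqueness
  have key : ∀ (T : Over S) (x : U.left) (a : T ⟶ E x) (v : (yon S).obj T ⟶ X),
      v ≫ f = (yon S).map (a ≫ g x) → v = (yon S).map a ≫ y x := by
    intro T x a v hv
    rw [Functor.map_comp] at hv
    have h1 := (sq x).lift_fst v ((yon S).map a) hv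
    have h2 := (sq x).lift_snd v ((yon S).map a) hv
    rw [Category.comp_id] at h2
    rw [← h1, h2]
  have hyf : ∀ x, y x ≫ f = (yon S).map (g x) := fun x => by rw [(sq x).w, Category.id_comp]
  have hiso : IsIso e := by
    refine isIso_of_bijective fun T k => ?_
    obtain ⟨k, rfl⟩ := (yon S).map_surjective k
    have hc : ∀ x : U.left, Etale (pullback.fst (k ≫ i) (g x)).left := fun x => by
      have := hg x
      have h1 : IsPullback (pullback.fst (k ≫ i) (g x)).left (pullback.snd (k ≫ i) (g x)).left (k ≫ i).left
        (g x).left := (IsPullback.of_hasPullback (k ≫ i) (g x)).map (Over.forget S)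
      exact MorphismProperty.of_isPullback (P := @Etale) h1.flip (hg x)
    have hcw : ∀ x : U.left, pullback.fst (k ≫ i) (g x) ≫ k ≫ i = pullback.snd (k ≫ i) (g x) ≫ g x := fun x =>
      pullback.condition
    have hsurj : ∀ t : T.left, ∃ (x : U.left) (t' : (pullback (k ≫ i) (g x)).left),
        (pullback.fst (k ≫ i) (g x)).left t' = t := by
      intro t
      have h1 : (k ≫ i).left t ∈ O := by
        have : (k ≫ i).left t ∈ Set.range i.left := ⟨k.left t, by rw [← Scheme.Hom.comp_apply]; rfl⟩
        rw [hri] at this
        exact this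
      obtain ⟨x, s, hs⟩ := (hO _).1 h1
      have h2 : IsPullback (pullback.fst (k ≫ i) (g x)).left (pullback.snd (k ≫ i) (g x)).left (k ≫ i).left
        (g x).left := (IsPullback.of_hasPullback (k ≫ i) (g x)).map (Over.forget S)
      obtain ⟨z, hz, -⟩ := Scheme.Pullback.exists_preimage_pullback t s hs.symm
      refine ⟨x, h2.isoPullback.inv z, ?_⟩
      rw [← Scheme.Hom.comp_apply, h2.isoPullback_inv_fst, hz]
    obtain ⟨v, hv, hv'⟩ := glueFam (F := X) (fun x : U.left => pullback (k ≫ i) (g x))
      (fun x => pullback.fst (k ≫ i) (g x)) (fun x => by have := hc x; infer_instance)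
      (fun x => by have := hc x; infer_instance) hsurj
      (fun x => (yon S).map (pullback.snd (k ≫ i) (g x)) ≫ y x) (fun x x' R a b hab => by
        rw [← Category.assoc, ← Category.assoc, ← Functor.map_comp, ← Functor.map_comp]
        refine key R x' _ _ ?_
        rw [Category.assoc, hyf, ← Functor.map_comp]
        congr 1
        rw [Category.assoc, Category.assoc, ← hcw, ← hcw, ← Category.assoc, hab, Category.assoc])
    have hmem : ∀ v : (yon S).obj T ⟶ X, v ≫ e = (yon S).map k ↔
        ∀ x, (yon S).map (pullback.fst (k ≫ i) (g x)) ≫ v = (yon S).map (pullback.snd (k ≫ i) (g x)) ≫ y x := by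
      intro v
      have h0 : v ≫ e = (yon S).map k ↔ v ≫ f = (yon S).map (k ≫ i) := by
        rw [← hef, ← cancel_mono ((yon S).map i), Category.assoc, Functor.map_comp]
      rw [h0]
      constructor
      · intro h x
        refine key _ x _ _ ?_
        rw [Category.assoc, h, ← Functor.map_comp, hcw]
      · intro h
        obtain ⟨w, -, hw⟩ := glueFam (F := (yon S).obj Z) (fun x : U.left => pullback (k ≫ i) (g x))
          (fun x => pullback.fst (k ≫ i) (g x)) (fun x => by have := hc x; infer_instance)
          (fun x => by have := hc x; infer_instance) hsurj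
          (fun x => (yon S).map (pullback.fst (k ≫ i) (g x) ≫ k ≫ i)) (fun x x' R a b hab => by
            rw [← Functor.map_comp, ← Functor.map_comp, ← Category.assoc, hab, Category.assoc])
        rw [hw (v ≫ f) (fun x => by
          change (yon S).map _ ≫ v ≫ f = _
          rw [← Category.assoc, h x, Category.assoc, hyf, ← Functor.map_comp, hcw])]
        exact (hw ((yon S).map (k ≫ i)) (fun x => by
          change (yon S).map _ ≫ (yon S).map _ = _
          rw [← Functor.map_comp])).symm
    exact ⟨v, (hmem v).2 hv, fun v' h => hv' v' ((hmem v').1 h)⟩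
  exact ⟨OS, i, asIso e, hi, hef⟩

end K613
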