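import Groth.Agent.AlgSp.K613.LqfLocal
import Groth.Agent.AlgSp.K613.LocIso

/-!
# A separated locally quasi-finite space over an affine scheme with an affine chart is a scheme
-/

set_option autoImplicit false
universe u

open CategoryTheory CategoryTheory.Limits AlgebraicGeometry Opposite AlgSp K613.Basic K613.Cover K613.Chart
  K613.Diag

namespace K613

/-- The affine hull: the spectrum of the ring of invariant functions. -/
theorem exists_fe {R U : Scheme.{u}} (s t : R ⟶ U) : ∃ (Z : Scheme.{u}) (q : U ⟶ Z), IsAffine Z ∧ FE s t q := by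
  let A : Subring Γ(U, ⊤) := RingHom.eqLocus s.appTop.hom t.appTop.hom
  let φ : CommRingCat.of A ⟶ Γ(U, ⊤) := CommRingCat.ofHom A.subtype
  have h1 : φ ≫ s.appTop = φ ≫ t.appTop := by
    ext x
    exact x.2
  have h2 : (U.toSpecΓ ≫ Spec.map φ).appTop = (Scheme.ΓSpecIso (CommRingCat.of A)).hom ≫ φ := by
    rw [Scheme.Hom.comp_appTop, Scheme.toSpecΓ_appTop, Scheme.ΓSpecIso_naturality]
  refine ⟨Spec (CommRingCat.of A), U.toSpecΓ ≫ Spec.map φ, inferInstance, ?_, ?_, ?_⟩
  · rw [← Category.assoc, ← Category.assoc, Scheme.toSpecΓ_naturality, Scheme.toSpecΓ_naturality, Category.assoc,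
      Category.assoc, ← Spec.map_comp, ← Spec.map_comp, h1]
  · rw [h2]
    intro x y hxy
    apply (Scheme.ΓSpecIso (CommRingCat.of A)).commRingCatIsoToRingEquiv.injective
    exact Subtype.ext hxy
  · intro x hx
    rw [h2]
    refine ⟨(Scheme.ΓSpecIso (CommRingCat.of A)).inv.hom ⟨x, hx⟩, ?_⟩
    have h3 : (Scheme.ΓSpecIso (CommRingCat.of A)).hom.hom ((Scheme.ΓSpecIso (CommRingCat.of A)).inv.hom ⟨x, hx⟩) =
        ⟨x, hx⟩ := (Scheme.ΓSpecIso (CommRingCat.of A)).commRingCatIsoToRingEquiv.apply_symm_apply _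
    rw [CommRingCat.hom_comp, RingHom.comp_apply, h3]
    rfl

variable {S : Scheme.{u}}

/-- Affine base, affine chart. -/
theorem exists_open_of_affine {X : Sp S} {T : Over S} (hT : IsAffine T.left) (f : X ⟶ (yon S).obj T)
    (sep : RepWith @IsClosedImmersion (pullback.diagonal f)) {U : Over S} (hU : IsAffine U.left)
    {p : (yon S).obj U ⟶ X} (hp : Ch p) {q₀ : U ⟶ T} (w : p ≫ f = (yon S).map q₀)
    (h1 : LocallyOfFiniteType q₀.left) (h2 : LocallyQuasiFinite q₀.left) : ∃ O : Over S, Nonempty (X ≅ (yon S).obj O) := by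
  obtain ⟨R, t, s, sq⟩ := hp.et.1 p
  obtain ⟨s, rfl⟩ := (yon S).map_surjective s
  have hst : s ≫ q₀ = t ≫ q₀ := by
    apply (yon S).map_injective
    rw [Functor.map_comp, Functor.map_comp, ← w, ← Category.assoc, sq.w, Category.assoc]
  have hst' : s.left ≫ q₀.left = t.left ≫ q₀.left := congrArg CommaMorphism.left hst
  have hcl := isClosedImmersion_of_sep sq w sep hst'
  have hR : IsAffine R.left := isAffine_of_isAffineHom (pullback.lift s.left t.left hst')
  obtain ⟨Z, q, hZ, hfe⟩ := exists_fe s.left t.left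
  obtain ⟨k, hk⟩ := hfe.exists_desc q₀.left hst'
  let ZS : Over S := Over.mk (k ≫ T.hom)
  let kS : ZS ⟶ T := Over.homMk k rfl
  let qS : U ⟶ ZS := Over.homMk q (by
    change q ≫ k ≫ T.hom = U.hom
    rw [← Category.assoc, hk, Over.w])
  have hqk : qS ≫ kS = q₀ := by ext1; exact hk
  have hqst : s ≫ qS = t ≫ qS := by ext1; exact hfe.w
  obtain ⟨f', hf', -⟩ := hp.fSurj.desc ((yon S).map qS) (fun A u v huv => by
    obtain ⟨u, rfl⟩ := (yon S).map_surjective u
    obtain ⟨v, rfl⟩ := (yon S).map_surjective v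
    obtain ⟨c, e1, e2⟩ : ∃ c, c ≫ (yon S).map s = (yon S).map u ∧ c ≫ (yon S).map t = (yon S).map v :=
      ⟨sq.lift _ _ huv, sq.lift_fst _ _ _, sq.lift_snd _ _ _⟩
    rw [← e1, ← e2, Category.assoc, Category.assoc, ← Functor.map_comp, ← Functor.map_comp, hqst])
  have hff : f' ≫ (yon S).map kS = f := by
    have := hp.fSurj.epi
    rw [← cancel_epi p, ← Category.assoc, hf', ← Functor.map_comp, hqk, w]
  have sep' : RepWith @IsClosedImmersion (pullback.diagonal f') := by
    subst hff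
    exact repWith_diagonal_of_comp sep
  have hD : Dat p s t qS f' := ⟨hU, hR, hZ, hp.et, hp.fSurj, sq, hf', hfe, sep'⟩
  have h1' : LocallyOfFiniteType (q ≫ k) := by rw [hk]; exact h1
  have h2' : LocallyQuasiFinite (q ≫ k) := by rw [hk]; exact h2
  obtain ⟨O, i, e, -, -⟩ := exists_open_of_local hp.fSurj hf'
    (hD.exists_local (locallyOfFiniteType_of_comp q k) (LocallyQuasiFinite.of_comp q k))
  exact ⟨O, ⟨e⟩⟩

end K613
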