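import Groth.Agent.AlgSp.K613.LqfDat

/-!
# Base change of `K613.Dat` along flat morphisms of affine schemes
-/

set_option autoImplicit false
universe u

open CategoryTheory CategoryTheory.Limits AlgebraicGeometry Opposite AlgSp K613.Basic K613.Cover K613.Chart
  K613.Diag

namespace K613.Dat

variable {S : Scheme.{u}} {X : Sp S} {U R Z : Over S} {p : (yon S).obj U ⟶ X} {s t : R ⟶ U} {q : U ⟶ Z}
  {f : X ⟶ (yon S).obj Z}

/-- Base change of the data, in terms of arbitrary pullback squares. -/
theorem of_isPullback (h : Dat p s t q f) {Z' U' R' : Over S} {X' : Sp S} {g : Z' ⟶ Z} (hZ' : IsAffine Z'.left)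
    (hg : Flat g.left) {b : U' ⟶ U} {r : R' ⟶ R} {s' t' : R' ⟶ U'} {q' : U' ⟶ Z'} {a : X' ⟶ X}
    {f' : X' ⟶ (yon S).obj Z'} {p' : (yon S).obj U' ⟶ X'}
    (sqU : IsPullback b q' q g) (sqs : IsPullback r s' s b) (sqt : IsPullback r t' t b)
    (sqX : IsPullback a f' f ((yon S).map g)) (hp : p' ≫ a = (yon S).map b ≫ p) (hf : p' ≫ f' = (yon S).map q')
    (hst : s' ≫ q' = t' ≫ q') : Dat p' s' t' q' f' := by
  have hU := h.affU
  have hR := h.affR
  have hZ := h.affZ
  have sqU' : IsPullback b.left q'.left q.left g.left := sqU.map (Over.forget S)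
  have sqs' : IsPullback r.left s'.left s.left b.left := sqs.map (Over.forget S)
  have sqt' : IsPullback r.left t'.left t.left b.left := sqt.map (Over.forget S)
  have affU' : IsAffine U'.left := IsAffine.of_isPullback sqU'
  have affR' : IsAffine R'.left := IsAffine.of_isPullback sqs'
  have hstL : s'.left ≫ q'.left = t'.left ≫ q'.left := congrArg CommaMorphism.left hst
  -- the left square
  have big : IsPullback ((yon S).map b) (p' ≫ f') (p ≫ f) ((yon S).map g) := by
    rw [hf, h.w]
    exact sqU.map (yon S)
  have sqp : IsPullback ((yon S).map b) p' p a := IsPullback.of_bot big hp.symm sqX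
  refine ⟨affU', affR', hZ', ?_, h.fSurj.of_isPullback sqp, ?_, hf, ?_, ?_⟩
  · exact MorphismProperty.of_isPullback (P := RepWith @Etale) sqp h.et
  · have w0 : (yon S).map s' ≫ p' = (yon S).map t' ≫ p' := by
      apply sqX.hom_ext
      · rw [Category.assoc, Category.assoc, hp, ← Category.assoc, ← Category.assoc, ← Functor.map_comp,
          ← Functor.map_comp, ← sqs.w, ← sqt.w, Functor.map_comp, Functor.map_comp, Category.assoc, Category.assoc,
          h.ker.w]
      · rw [Category.assoc, Category.assoc, hf, ← Functor.map_comp, ← Functor.map_comp, hst]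
    refine isPullback_of_yon w0 fun T x y hxy => ?_
    obtain ⟨x, rfl⟩ := (yon S).map_surjective x
    obtain ⟨y, rfl⟩ := (yon S).map_surjective y
    have h1 : (yon S).map (x ≫ b) ≫ p = (yon S).map (y ≫ b) ≫ p := by
      rw [Functor.map_comp, Category.assoc, ← hp, ← Category.assoc, hxy, Category.assoc, hp, Functor.map_comp,
        Category.assoc]
    have h2 : x ≫ q' = y ≫ q' := by
      apply (yon S).map_injective
      rw [Functor.map_comp, Functor.map_comp, ← hf, ← Category.assoc, hxy, Category.assoc]
    obtain ⟨z, hz⟩ := (yon S).map_surjective (h.ker.lift _ _ h1)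
    have hz1 : z ≫ s = x ≫ b := (yon S).map_injective (by rw [Functor.map_comp, hz, h.ker.lift_fst])
    have hz2 : z ≫ t = y ≫ b := (yon S).map_injective (by rw [Functor.map_comp, hz, h.ker.lift_snd])
    let z' : T ⟶ R' := sqs.lift z x hz1
    have hz'1 : z' ≫ r = z := sqs.lift_fst _ _ _
    have hz'2 : z' ≫ s' = x := sqs.lift_snd _ _ _
    have hz'3 : z' ≫ t' = y := by
      apply sqU.hom_ext
      · rw [Category.assoc, ← sqt.w, ← Category.assoc, hz'1, hz2]
      · rw [Category.assoc, ← hst, ← Category.assoc, hz'2, h2]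
    refine ⟨(yon S).map z', ⟨?_, ?_⟩, ?_⟩
    · rw [← Functor.map_comp, hz'2]
    · rw [← Functor.map_comp, hz'3]
    · rintro w ⟨hw1, hw2⟩
      obtain ⟨w, rfl⟩ := (yon S).map_surjective w
      rw [← Functor.map_comp] at hw1 hw2
      have hw1' := (yon S).map_injective hw1
      have hw2' := (yon S).map_injective hw2
      congr 1
      apply sqs.hom_ext
      · apply (yon S).map_injective
        apply h.ker.hom_ext
        · rw [← Functor.map_comp, ← Functor.map_comp, Category.assoc, Category.assoc, sqs.w, ← Category.assoc,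
            ← Category.assoc, hw1', hz'2]
        · rw [← Functor.map_comp, ← Functor.map_comp, Category.assoc, Category.assoc, sqt.w, ← Category.assoc,
            ← Category.assoc, hw2', hz'3]
      · rw [hw1', hz'2]
  · exact h.fe.of_isPullback sqU' sqs' sqt' hstL
  · exact repWith_diagonal_of_isPullback h.sep sqX

/-- Base change of the data. -/
theorem bc (h : Dat p s t q f) {Z' : Over S} (g : Z' ⟶ Z) (hZ' : IsAffine Z'.left) (hg : Flat g.left) :
    ∃ (R' : Over S) (p' : (yon S).obj (pullback q g) ⟶ pullback f ((yon S).map g)) (r : R' ⟶ R)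
      (s' t' : R' ⟶ pullback q g), Dat p' s' t' (pullback.snd q g) (pullback.snd f ((yon S).map g)) ∧
      IsPullback r s' s (pullback.fst q g) ∧ IsPullback r t' t (pullback.fst q g) := by
  have w1 : ((yon S).map (pullback.fst q g) ≫ p) ≫ f = (yon S).map (pullback.snd q g) ≫ (yon S).map g := by
    rw [Category.assoc, h.w, ← Functor.map_comp, ← Functor.map_comp, pullback.condition]
  let p' : (yon S).obj (pullback q g) ⟶ pullback f ((yon S).map g) := pullback.lift _ _ w1
  let s' : pullback (s ≫ q) g ⟶ pullback q g :=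
    pullback.lift (pullback.fst _ _ ≫ s) (pullback.snd _ _) (by rw [Category.assoc, pullback.condition])
  let t' : pullback (s ≫ q) g ⟶ pullback q g :=
    pullback.lift (pullback.fst _ _ ≫ t) (pullback.snd _ _) (by rw [Category.assoc, ← h.st, pullback.condition])
  have hs1 : s' ≫ pullback.fst q g = pullback.fst _ _ ≫ s := pullback.lift_fst _ _ _
  have hs2 : s' ≫ pullback.snd q g = pullback.snd _ _ := pullback.lift_snd _ _ _
  have ht1 : t' ≫ pullback.fst q g = pullback.fst _ _ ≫ t := pullback.lift_fst _ _ _
  have ht2 : t' ≫ pullback.snd q g = pullback.snd _ _ := pullback.lift_snd _ _ _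
  have sqU := IsPullback.of_hasPullback q g
  have sqs : IsPullback (pullback.fst (s ≫ q) g) s' s (pullback.fst q g) := by
    have big : IsPullback (pullback.fst (s ≫ q) g) (s' ≫ pullback.snd q g) (s ≫ q) g := by
      rw [hs2]
      exact IsPullback.of_hasPullback _ _
    exact IsPullback.of_bot big hs1.symm sqU
  have sqt : IsPullback (pullback.fst (s ≫ q) g) t' t (pullback.fst q g) := by
    have big : IsPullback (pullback.fst (s ≫ q) g) (t' ≫ pullback.snd q g) (t ≫ q) g := by
      rw [ht2, ← h.st]
      exact IsPullback.of_hasPullback _ _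
    exact IsPullback.of_bot big ht1.symm sqU
  exact ⟨pullback (s ≫ q) g, p', pullback.fst _ _, s', t',
    h.of_isPullback hZ' hg sqU sqs sqt (IsPullback.of_hasPullback _ _) (pullback.lift_fst _ _ _)
      (pullback.lift_snd _ _ _) (by rw [hs2, ht2]), sqs, sqt⟩

end K613.Dat
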