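import Groth.Agent.AlgSp.K613.Cover

/-!
# Descent of morphisms of schemes along fppf coverings; sheaves with the same chart and the same relation
-/

set_option autoImplicit false
universe u

open CategoryTheory CategoryTheory.Limits AlgebraicGeometry Opposite AlgSp K613.Basic K613.Cover

namespace K613

/-- Descent of morphisms of schemes along an fppf covering. -/
theorem sch_glue {M V Y : Scheme.{u}} (π : V ⟶ M) [Flat π] [LocallyOfFinitePresentation π] [Surjective π] (x : V ⟶ Y)
    (hx : ∀ {T : Scheme.{u}} (a b : T ⟶ V), a ≫ π = b ≫ π → a ≫ x = b ≫ x) : ∃! y : M ⟶ Y, π ≫ y = x := by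
  let M' : Over (⊤_ Scheme.{u}) := Over.mk (terminal.from M)
  let V' : Over (⊤_ Scheme.{u}) := Over.mk (terminal.from V)
  let Y' : Over (⊤_ Scheme.{u}) := Over.mk (terminal.from Y)
  let π' : V' ⟶ M' := Over.homMk π (Subsingleton.elim _ _)
  let x' : V' ⟶ Y' := Over.homMk x (Subsingleton.elim _ _)
  obtain ⟨y, hy, hy'⟩ := Basic.glue (F := (yon (⊤_ Scheme.{u})).obj Y') π' ‹_› ‹_› ‹_›
    ((yon (⊤_ Scheme.{u})).map x') (fun R a b hab => by
      rw [← Functor.map_comp, ← Functor.map_comp]
      congr 1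
      ext1
      exact hx a.left b.left (congrArg CommaMorphism.left hab))
  obtain ⟨z, rfl⟩ := (yon (⊤_ Scheme.{u})).map_surjective y
  rw [← Functor.map_comp] at hy
  have hy1 := (yon (⊤_ Scheme.{u})).map_injective hy
  refine ⟨z.left, congrArg CommaMorphism.left hy1, fun z₂ hz₂ => ?_⟩
  have h2 : π' ≫ (Over.homMk z₂ (Subsingleton.elim _ _) : M' ⟶ Y') = x' := by
    ext1
    exact hz₂
  have h := hy' ((yon (⊤_ Scheme.{u})).map (Over.homMk z₂ (Subsingleton.elim _ _) : M' ⟶ Y'))
    (by change _ ≫ _ = _; rw [← Functor.map_comp, h2])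
  exact congrArg CommaMorphism.left ((yon (⊤_ Scheme.{u})).map_injective h)

theorem sch_epi {M V : Scheme.{u}} (π : V ⟶ M) [Flat π] [LocallyOfFinitePresentation π] [Surjective π] : Epi π := by
  constructor
  intro Y a b hab
  exact (sch_glue π (π ≫ a) (fun c d hcd => by rw [← Category.assoc, hcd, Category.assoc])).unique rfl hab.symm

variable {S : Scheme.{u}} {F G H : Sp S}

/-- Two sheaves covered by the same sheaf with the same relation are isomorphic. -/
theorem exists_iso_of_fSurj {a : H ⟶ F} {b : H ⟶ G} (ha : FSurj a) (hb : FSurj b)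
    (hab : ∀ (R : Over S) (u v : (yon S).obj R ⟶ H), u ≫ a = v ≫ a ↔ u ≫ b = v ≫ b) :
    ∃ i : F ≅ G, a ≫ i.hom = b := by
  obtain ⟨i, hi, -⟩ := ha.desc b (fun R u v h => (hab R u v).1 h)
  obtain ⟨j, hj, -⟩ := hb.desc a (fun R u v h => (hab R u v).2 h)
  have := ha.epi
  have := hb.epi
  refine ⟨⟨i, j, ?_, ?_⟩, hi⟩
  · rw [← cancel_epi a, ← Category.assoc, hi, hj, Category.comp_id]
  · rw [← cancel_epi b, ← Category.assoc, hj, hi, Category.comp_id]

end K613
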