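import Groth.Agent.AlgSp.K613.RelQuot
import Groth.Agent.AlgSp.K613.SchGlue
import Groth.Agent.AlgSp.K613.Diag
import Groth.Agent.AlgSp.K613.Unram

/-!
# Separated algebraic spaces with an affine chart over an affine scheme, with all functions coming from the base
-/

set_option autoImplicit false
universe u

open CategoryTheory CategoryTheory.Limits AlgebraicGeometry Opposite AlgSp K613.Basic K613.Cover K613.Chart
  K613.Diag

namespace K613

variable {S : Scheme.{u}}

/-- `X ⟶ Z` with an affine étale chart `p : U ⟶ X`, everything affine, `X ⟶ Z` separated, and the functions on `Z` are the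
invariant functions on `U`. -/
structure Dat {X : Sp S} {U R Z : Over S} (p : (yon S).obj U ⟶ X) (s t : R ⟶ U) (q : U ⟶ Z)
    (f : X ⟶ (yon S).obj Z) : Prop where
  affU : IsAffine U.left
  affR : IsAffine R.left
  affZ : IsAffine Z.left
  et : RepWith @Etale p
  fSurj : FSurj p
  ker : IsPullback ((yon S).map s) ((yon S).map t) p p
  w : p ≫ f = (yon S).map q
  fe : FE s.left t.left q.left
  sep : RepWith @IsClosedImmersion (pullback.diagonal f)

/-- The relation of a chart is an equivalence relation. -/
theorem rel_of_isPullback {X : Sp S} {U R : Over S} {p : (yon S).obj U ⟶ X} {s t : R ⟶ U}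
    (sq : IsPullback ((yon S).map s) ((yon S).map t) p p) : Rel s.left t.left := by
  have hlift : ∀ (T : Over S) (a b : T ⟶ U), (yon S).map a ≫ p = (yon S).map b ≫ p →
      ∃ r : T ⟶ R, r ≫ s = a ∧ r ≫ t = b := by
    intro T a b hab
    obtain ⟨r, hr⟩ := (yon S).map_surjective (sq.lift _ _ hab)
    refine ⟨r, (yon S).map_injective ?_, (yon S).map_injective ?_⟩
    · rw [Functor.map_comp, hr, sq.lift_fst]
    · rw [Functor.map_comp, hr, sq.lift_snd]
  have hinj : ∀ (T : Over S) (a b : T ⟶ R), a ≫ s = b ≫ s → a ≫ t = b ≫ t → a = b := by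
    intro T a b h₁ h₂
    apply (yon S).map_injective
    apply sq.hom_ext
    · rw [← Functor.map_comp, ← Functor.map_comp, h₁]
    · rw [← Functor.map_comp, ← Functor.map_comp, h₂]
  have hst : (yon S).map s ≫ p = (yon S).map t ≫ p := sq.w
  refine ⟨?_, ?_, ?_, ?_⟩
  · intro T a b h₁ h₂
    have hw : b ≫ R.hom = a ≫ R.hom := by
      rw [← Over.w s, ← Category.assoc, ← h₁, Category.assoc]
    let a' : Over.mk (a ≫ R.hom) ⟶ R := Over.homMk a rfl
    let b' : Over.mk (a ≫ R.hom) ⟶ R := Over.homMk b hw
    have h : a' = b' := hinj _ _ _ (by ext1; exact h₁) (by ext1; exact h₂)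
    exact congrArg CommaMorphism.left h
  · obtain ⟨e, he₁, he₂⟩ := hlift U (𝟙 U) (𝟙 U) rfl
    exact ⟨e.left, congrArg CommaMorphism.left he₁, congrArg CommaMorphism.left he₂⟩
  · obtain ⟨e, he₁, he₂⟩ := hlift R t s hst.symm
    exact ⟨e.left, congrArg CommaMorphism.left he₁, congrArg CommaMorphism.left he₂⟩
  · intro T a b hab
    have hw : b ≫ R.hom = a ≫ R.hom := by
      rw [← Over.w s, ← Category.assoc, ← hab, Category.assoc, Over.w, Over.w]
    let a' : Over.mk (a ≫ R.hom) ⟶ R := Over.homMk a rfl
    let b' : Over.mk (a ≫ R.hom) ⟶ R := Over.homMk b hw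
    have h : a' ≫ t = b' ≫ s := by ext1; exact hab
    obtain ⟨c, hc₁, hc₂⟩ := hlift (Over.mk (a ≫ R.hom)) (a' ≫ s) (b' ≫ t) (by
      rw [Functor.map_comp, Category.assoc, hst, ← Category.assoc, ← Functor.map_comp, h, Functor.map_comp,
        Category.assoc, hst, Functor.map_comp, Category.assoc])
    exact ⟨c.left, congrArg CommaMorphism.left hc₁, congrArg CommaMorphism.left hc₂⟩

/-- `R ⟶ U ×_Z U` is a closed immersion if `X ⟶ Z` is separated. -/
theorem isClosedImmersion_of_sep {X : Sp S} {U R Z : Over S} {p : (yon S).obj U ⟶ X} {s t : R ⟶ U} {q : U ⟶ Z}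
    {f : X ⟶ (yon S).obj Z} (sq : IsPullback ((yon S).map s) ((yon S).map t) p p) (w : p ≫ f = (yon S).map q)
    (sep : RepWith @IsClosedImmersion (pullback.diagonal f)) (h : s.left ≫ q.left = t.left ≫ q.left) :
    IsClosedImmersion (pullback.lift s.left t.left h) := by
  have hst : s ≫ q = t ≫ q := by ext1; exact h
  let e : R ⟶ pullback q q := pullback.lift s t hst
  have he₁ : e ≫ pullback.fst q q = s := pullback.lift_fst _ _ _
  have he₂ : e ≫ pullback.snd q q = t := pullback.lift_snd _ _ _
  have hE : IsEq ((yon S).map (pullback.fst q q) ≫ p) ((yon S).map (pullback.snd q q) ≫ p) e := by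
    refine ⟨?_, fun T r hr => ?_⟩
    · rw [← Category.assoc, ← Category.assoc, ← Functor.map_comp, ← Functor.map_comp, he₁, he₂, sq.w]
    · rw [← Category.assoc, ← Category.assoc, ← Functor.map_comp, ← Functor.map_comp] at hr
      obtain ⟨r', hr'⟩ := (yon S).map_surjective (sq.lift _ _ hr)
      have h1 : r' ≫ s = r ≫ pullback.fst q q := (yon S).map_injective (by rw [Functor.map_comp, hr', sq.lift_fst])
      have h2 : r' ≫ t = r ≫ pullback.snd q q := (yon S).map_injective (by rw [Functor.map_comp, hr', sq.lift_snd])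
      refine ⟨r', ?_, ?_⟩
      · change r' ≫ e = r
        apply pullback.hom_ext
        · rw [Category.assoc, he₁, h1]
        · rw [Category.assoc, he₂, h2]
      · intro r'' hr''
        change r'' ≫ e = r at hr''
        apply (yon S).map_injective
        apply sq.hom_ext
        · rw [← Functor.map_comp, ← Functor.map_comp, h1, ← hr'', Category.assoc, he₁]
        · rw [← Functor.map_comp, ← Functor.map_comp, h2, ← hr'', Category.assoc, he₂]
  have hcl : IsClosedImmersion e.left := prop_of_isEq sep (by
    rw [Category.assoc, Category.assoc, w, ← Functor.map_comp, ← Functor.map_comp, pullback.condition]) hE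
  have sq1 : IsPullback (pullback.fst q q).left (pullback.snd q q).left q.left q.left :=
    (IsPullback.of_hasPullback q q).map (Over.forget S)
  have h1 : pullback.lift s.left t.left h = e.left ≫ sq1.isoPullback.hom := by
    apply pullback.hom_ext
    · rw [pullback.lift_fst, Category.assoc, sq1.isoPullback_hom_fst, ← he₁]; rfl
    · rw [pullback.lift_snd, Category.assoc, sq1.isoPullback_hom_snd, ← he₂]; rfl
  rw [h1]
  infer_instance

namespace Dat

variable {X : Sp S} {U R Z : Over S} {p : (yon S).obj U ⟶ X} {s t : R ⟶ U} {q : U ⟶ Z} {f : X ⟶ (yon S).obj Z}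

theorem rel (h : Dat p s t q f) : Rel s.left t.left := rel_of_isPullback h.ker

theorem cl (h : Dat p s t q f) : IsClosedImmersion (pullback.lift s.left t.left h.fe.w) :=
  isClosedImmersion_of_sep h.ker h.w h.sep h.fe.w

theorem etale_s (h : Dat p s t q f) : Etale s.left := h.et.2 _ _ _ h.ker.flip

theorem etale_t (h : Dat p s t q f) : Etale t.left := h.et.2 _ _ _ h.ker

theorem st (h : Dat p s t q f) : s ≫ q = t ≫ q := by
  ext1
  exact h.fe.w

end Dat

end K613
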