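import Groth.Agent.AlgSp.K613.LqfBc

/-!
# The case in which a clopen of the chart is finite over the base and meets every orbit
-/

set_option autoImplicit false
universe u

open CategoryTheory CategoryTheory.Limits AlgebraicGeometry Opposite AlgSp K613.Basic K613.Cover K613.Chart
  K613.Diag

namespace K613.Dat

variable {S : Scheme.{u}} {X : Sp S} {U R Z : Over S} {p : (yon S).obj U ⟶ X} {s t : R ⟶ U} {q : U ⟶ Z}
  {f : X ⟶ (yon S).obj Z}

/-- If a clopen `V` of the chart is finite over the base and meets every orbit then `X` is the base. -/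
theorem isIso_of_finite (h : Dat p s t q f) (V : U.left.Opens) (hV : IsClopen (V : Set U.left))
    (hf : IsFinite (V.ι ≫ q.left)) (hsat : s.left '' (t.left ⁻¹' (V : Set U.left)) = Set.univ) : IsIso f := by
  have hU := h.affU
  have hR := h.affR
  have hZ := h.affZ
  have hse := h.etale_s
  have hte := h.etale_t
  have hVa : IsAffine V.toScheme := isAffine_of_isAffineHom (V.ι ≫ q.left)
  let W : R.left.Opens := s.left ⁻¹ᵁ V ⊓ t.left ⁻¹ᵁ V
  have hWs : Set.range (W.ι ≫ s.left) ⊆ Set.range V.ι := by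
    rw [Scheme.Opens.range_ι]
    rintro _ ⟨x, rfl⟩
    exact x.2.1
  have hWt : Set.range (W.ι ≫ t.left) ⊆ Set.range V.ι := by
    rw [Scheme.Opens.range_ι]
    rintro _ ⟨x, rfl⟩
    exact x.2.2
  let s' : W.toScheme ⟶ V.toScheme := IsOpenImmersion.lift V.ι (W.ι ≫ s.left) hWs
  let t' : W.toScheme ⟶ V.toScheme := IsOpenImmersion.lift V.ι (W.ι ≫ t.left) hWt
  have hs' : s' ≫ V.ι = W.ι ≫ s.left := IsOpenImmersion.lift_fac _ _ _
  have ht' : t' ≫ V.ι = W.ι ≫ t.left := IsOpenImmersion.lift_fac _ _ _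
  have hse' : Etale s' := by
    have : Etale (s' ≫ V.ι) := by rw [hs']; infer_instance
    exact Etale.of_comp s' V.ι
  have hte' : Etale t' := by
    have : Etale (t' ≫ V.ι) := by rw [ht']; infer_instance
    exact Etale.of_comp t' V.ι
  -- finiteness of the restricted projections
  have hWt' : IsClopen ((t.left ⁻¹ᵁ V : R.left.Opens) : Set R.left) := hV.preimage t.left.continuous
  have hWs' : IsClopen ((s.left ⁻¹ᵁ V : R.left.Opens) : Set R.left) := hV.preimage s.left.continuous
  have hWc : IsClopen (W : Set R.left) := hWs'.inter hWt'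
  have hfin : ∀ (A : R.left.Opens) (hA : W ≤ A), IsClosedImmersion (R.left.homOfLE hA) := by
    intro A hA
    refine .of_isPreimmersion _ ?_
    have h1 : Set.range (R.left.homOfLE hA) = A.ι ⁻¹' (W : Set R.left) := by
      ext x
      constructor
      · rintro ⟨y, rfl⟩
        change A.ι (R.left.homOfLE hA y) ∈ (W : Set R.left)
        rw [← Scheme.Hom.comp_apply, Scheme.homOfLE_ι]
        exact y.2
      · intro hx
        refine ⟨⟨x.1, hx⟩, ?_⟩
        apply A.ι.isOpenEmbedding.injective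
        rw [← Scheme.Hom.comp_apply, Scheme.homOfLE_ι]
        rfl
    rw [h1]
    exact hWc.isClosed.preimage A.ι.continuous
  have hfs : IsFinite s' := by
    have h1 : IsFinite ((t.left ⁻¹ᵁ V).ι ≫ s.left) := Rel.isFinite_src h.fe.w h.cl V hV hf
    have h2 := hfin (t.left ⁻¹ᵁ V) inf_le_right
    have h3 : s' ≫ V.ι = R.left.homOfLE (inf_le_right : W ≤ t.left ⁻¹ᵁ V) ≫ (t.left ⁻¹ᵁ V).ι ≫ s.left := by
      rw [hs', ← Category.assoc, Scheme.homOfLE_ι]
    have : IsFinite (s' ≫ V.ι) := by rw [h3]; infer_instance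
    exact IsFinite.of_comp s' V.ι
  have hft : IsFinite t' := by
    have hcl : IsClosedImmersion (pullback.lift t.left s.left h.fe.w.symm) := by
      have h1 : pullback.lift t.left s.left h.fe.w.symm =
          pullback.lift s.left t.left h.fe.w ≫ (pullbackSymmetry _ _).hom := by
        apply pullback.hom_ext
        · simp [pullback.lift_fst, pullback.lift_snd]
        · simp [pullback.lift_fst, pullback.lift_snd]
      have := h.cl
      rw [h1]
      infer_instance
    have h1 : IsFinite ((s.left ⁻¹ᵁ V).ι ≫ t.left) := Rel.isFinite_src h.fe.w.symm hcl V hV hf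
    have h2 := hfin (s.left ⁻¹ᵁ V) inf_le_left
    have h3 : t' ≫ V.ι = R.left.homOfLE (inf_le_left : W ≤ s.left ⁻¹ᵁ V) ≫ (s.left ⁻¹ᵁ V).ι ≫ t.left := by
      rw [ht', ← Category.assoc, Scheme.homOfLE_ι]
    have : IsFinite (t' ≫ V.ι) := by rw [h3]; infer_instance
    exact IsFinite.of_comp t' V.ι
  have hWa : IsAffine W.toScheme := isAffine_of_isAffineHom s'
  have hrel : Rel s' t' := h.rel.restrict hs' ht' (fun {T} a b r hra hrb => by
    have hr : Set.range r ⊆ Set.range W.ι := by
      rw [Scheme.Opens.range_ι]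
      rintro _ ⟨x, rfl⟩
      refine ⟨?_, ?_⟩
      · change s.left (r x) ∈ V
        rw [← Scheme.Hom.comp_apply, hra]
        exact (a x).2
      · change t.left (r x) ∈ V
        rw [← Scheme.Hom.comp_apply, hrb]
        exact (b x).2
    exact ⟨IsOpenImmersion.lift W.ι r hr, IsOpenImmersion.lift_fac _ _ _⟩)
  obtain ⟨M, π, hMa, hπ1, hπ2, hπ3, hπ4, sqπ⟩ := hrel.exists_quot
  -- the map `M ⟶ Z`
  obtain ⟨θ, hθ, -⟩ := sch_glue π (V.ι ≫ q.left) (fun {T} a b hab => by
    obtain ⟨c, h1, h2⟩ : ∃ c, c ≫ s' = a ∧ c ≫ t' = b := ⟨sqπ.lift a b hab, sqπ.lift_fst _ _ _, sqπ.lift_snd _ _ _⟩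
    rw [← h1, ← h2, Category.assoc, Category.assoc, ← Category.assoc s', ← Category.assoc t', hs', ht',
      Category.assoc, Category.assoc, h.fe.w])
  have hπe : Epi π := sch_epi π
  let MS : Over S := Over.mk (θ ≫ Z.hom)
  let VS : Over S := Over.mk (V.ι ≫ U.hom)
  let WS : Over S := Over.mk (W.ι ≫ R.hom)
  let θ' : MS ⟶ Z := Over.homMk θ rfl
  let π' : VS ⟶ MS := Over.homMk π (by
    change π ≫ θ ≫ Z.hom = V.ι ≫ U.hom
    rw [← Category.assoc, hθ, Category.assoc, Over.w])
  let v : VS ⟶ U := Over.homMk V.ι rfl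
  let sW : WS ⟶ VS := Over.homMk s' (by
    change s' ≫ V.ι ≫ U.hom = W.ι ≫ R.hom
    rw [← Category.assoc, hs', Category.assoc, Over.w])
  let tW : WS ⟶ VS := Over.homMk t' (by
    change t' ≫ V.ι ≫ U.hom = W.ι ≫ R.hom
    rw [← Category.assoc, ht', Category.assoc, Over.w])
  let j : WS ⟶ R := Over.homMk W.ι rfl
  have hvθ : π' ≫ θ' = v ≫ q := by ext1; exact hθ
  have hsW : sW ≫ v = j ≫ s := by ext1; exact hs'
  have htW : tW ≫ v = j ≫ t := by ext1; exact ht'
  have hπ'F : FSurj ((yon S).map π') := FpC.fSurj ⟨hπ2, hπ3, hπ4⟩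
  -- `V ⟶ X` is locally surjective
  have hvF : FSurj ((yon S).map v ≫ p) := by
    let A : Over S := Over.mk ((t.left ⁻¹ᵁ V).ι ≫ R.hom)
    let α : A ⟶ U := Over.homMk ((t.left ⁻¹ᵁ V).ι ≫ s.left) (by
      change ((t.left ⁻¹ᵁ V).ι ≫ s.left) ≫ U.hom = (t.left ⁻¹ᵁ V).ι ≫ R.hom
      rw [Category.assoc, Over.w])
    let β : A ⟶ VS := Over.homMk (t.left ∣_ V) (by
      change (t.left ∣_ V) ≫ V.ι ≫ U.hom = (t.left ⁻¹ᵁ V).ι ≫ R.hom
      rw [morphismRestrict_ι_assoc, Over.w])
    have hα : FpC α := by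
      have h1 : Etale ((t.left ⁻¹ᵁ V).ι ≫ s.left) := inferInstance
      have h2 : Surjective ((t.left ⁻¹ᵁ V).ι ≫ s.left) := by
        refine ⟨?_⟩
        rw [← Set.range_eq_univ, ← hsat, Scheme.Hom.comp_base, TopCat.coe_comp, Set.range_comp,
          Scheme.Opens.range_ι]
        rfl
      exact (⟨h1, h2⟩ : EtC α).fpC
    have h1 : (yon S).map β ≫ (yon S).map v ≫ p = (yon S).map α ≫ p := by
      let i : A ⟶ R := Over.homMk (t.left ⁻¹ᵁ V).ι rfl
      have hβ : β ≫ v = i ≫ t := by ext1; exact morphismRestrict_ι _ _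
      have hα : α = i ≫ s := by ext1; rfl
      rw [← Category.assoc, ← Functor.map_comp, hβ, hα, Functor.map_comp, Category.assoc, ← h.ker.w,
        Functor.map_comp, Category.assoc]
    refine FSurj.of_comp (b' := (yon S).map β) ?_
    rw [h1]
    exact h.fSurj.comp hα.fSurj
  -- comparison with the quotient
  obtain ⟨i, hi⟩ := exists_iso_of_fSurj hvF hπ'F (fun T x y => by
    obtain ⟨x, rfl⟩ := (yon S).map_surjective x
    obtain ⟨y, rfl⟩ := (yon S).map_surjective y
    constructor
    · intro hxy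
      rw [← Category.assoc, ← Category.assoc, ← Functor.map_comp, ← Functor.map_comp] at hxy
      obtain ⟨r, hr⟩ := (yon S).map_surjective (h.ker.lift _ _ hxy)
      have hr1 : r ≫ s = x ≫ v := (yon S).map_injective (by rw [Functor.map_comp, hr, h.ker.lift_fst])
      have hr2 : r ≫ t = y ≫ v := (yon S).map_injective (by rw [Functor.map_comp, hr, h.ker.lift_snd])
      have hr1' : r.left ≫ s.left = x.left ≫ V.ι := congrArg CommaMorphism.left hr1
      have hr2' : r.left ≫ t.left = y.left ≫ V.ι := congrArg CommaMorphism.left hr2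
      have hrr : Set.range r.left ⊆ Set.range W.ι := by
        rw [Scheme.Opens.range_ι]
        rintro _ ⟨z, rfl⟩
        refine ⟨?_, ?_⟩
        · change s.left (r.left z) ∈ V
          rw [← Scheme.Hom.comp_apply, hr1']
          exact (x.left z).2
        · change t.left (r.left z) ∈ V
          rw [← Scheme.Hom.comp_apply, hr2']
          exact (y.left z).2
      have e1 : IsOpenImmersion.lift W.ι r.left hrr ≫ s' = x.left := by
        rw [← cancel_mono V.ι, Category.assoc, hs', ← Category.assoc, IsOpenImmersion.lift_fac, hr1']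
      have e2 : IsOpenImmersion.lift W.ι r.left hrr ≫ t' = y.left := by
        rw [← cancel_mono V.ι, Category.assoc, ht', ← Category.assoc, IsOpenImmersion.lift_fac, hr2']
      rw [← Functor.map_comp, ← Functor.map_comp]
      congr 1
      ext1
      change x.left ≫ π = y.left ≫ π
      rw [← e1, ← e2, Category.assoc, Category.assoc, sqπ.w]
    · intro hxy
      rw [← Functor.map_comp, ← Functor.map_comp] at hxy
      have hxy' : x.left ≫ π = y.left ≫ π := congrArg CommaMorphism.left ((yon S).map_injective hxy)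
      obtain ⟨r, hr1, hr2⟩ : ∃ r : T ⟶ WS, r ≫ sW = x ∧ r ≫ tW = y := by
        have h1 : sqπ.lift _ _ hxy' ≫ s' = x.left := sqπ.lift_fst _ _ _
        have h2 : sqπ.lift _ _ hxy' ≫ t' = y.left := sqπ.lift_snd _ _ _
        refine ⟨Over.homMk (sqπ.lift _ _ hxy') ?_, ?_, ?_⟩
        · change sqπ.lift _ _ hxy' ≫ W.ι ≫ R.hom = T.hom
          rw [← Over.w s, ← Category.assoc W.ι, ← hs', ← Category.assoc, ← Category.assoc, h1, Category.assoc]
          exact Over.w x
        · ext1; exact h1
        · ext1; exact h2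
      subst hr1 hr2
      rw [← Category.assoc, ← Category.assoc, ← Functor.map_comp, ← Functor.map_comp, Category.assoc,
        Category.assoc, hsW, htW, Functor.map_comp, Functor.map_comp, Functor.map_comp, Functor.map_comp]
      simp only [Category.assoc]
      rw [h.ker.w])
  have hiθ : i.hom ≫ (yon S).map θ' = f := by
    have := hvF.epi
    rw [← cancel_epi ((yon S).map v ≫ p), ← Category.assoc, hi, ← Functor.map_comp, hvθ, Functor.map_comp,
      Category.assoc, h.w]
  obtain ⟨ρ, hρ⟩ := (yon S).map_surjective (p ≫ i.hom)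
  have hρst : s ≫ ρ = t ≫ ρ := by
    apply (yon S).map_injective
    rw [Functor.map_comp, Functor.map_comp, hρ, ← Category.assoc, h.ker.w, Category.assoc]
  have hρθ : ρ ≫ θ' = q := by
    apply (yon S).map_injective
    rw [Functor.map_comp, hρ, Category.assoc, hiθ, h.w]
  have hvρ : v ≫ ρ = π' := by
    apply (yon S).map_injective
    rw [Functor.map_comp, hρ, ← Category.assoc, hi]
  have hMSa : IsAffine MS.left := hMa
  obtain ⟨k, hk⟩ := h.fe.exists_desc ρ.left (congrArg CommaMorphism.left hρst)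
  have hρθ' : ρ.left ≫ θ = q.left := congrArg CommaMorphism.left hρθ
  have hvρ' : V.ι ≫ ρ.left = π := congrArg CommaMorphism.left hvρ
  have hkθ : k ≫ θ = 𝟙 Z.left := h.fe.hom_ext (by
    rw [← Category.assoc, hk, hρθ', Category.comp_id])
  have hθk : θ ≫ k = 𝟙 M := by
    rw [← cancel_epi π, ← Category.assoc, hθ, Category.assoc, hk, hvρ', Category.comp_id]
  have hθi : IsIso θ := ⟨k, hθk, hkθ⟩
  have hθi' : IsIso θ' := by
    have : IsIso ((Over.forget S).map θ') := hθi
    exact isIso_of_reflects_iso θ' (Over.forget S)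
  rw [← hiθ]
  infer_instance

end K613.Dat
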