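import Mathlib.AlgebraicGeometry.ZariskisMainTheorem

/-!
# Étale local structure of separated quasi-finite morphisms, over an affine étale neighbourhood
-/

set_option autoImplicit false
universe u

open CategoryTheory CategoryTheory.Limits AlgebraicGeometry Opposite

namespace K613

/-- Points of a pullback square of schemes. -/
theorem exists_preimage_isPullback {P X Y Z : Scheme.{u}} {fst : P ⟶ X} {snd : P ⟶ Y} {f : X ⟶ Z} {g : Y ⟶ Z}
    (sq : IsPullback fst snd f g) (x : X) (y : Y) (h : f x = g y) : ∃ z : P, fst z = x ∧ snd z = y := by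
  obtain ⟨z, hz₁, hz₂⟩ := Scheme.Pullback.exists_preimage_pullback x y h
  refine ⟨sq.isoPullback.inv z, ?_, ?_⟩
  · rw [← Scheme.Hom.comp_apply, sq.isoPullback_inv_fst, hz₁]
  · rw [← Scheme.Hom.comp_apply, sq.isoPullback_inv_snd, hz₂]

/-- Base change of a finite open piece. -/
theorem isFinite_piece {P U Z Z' : Scheme.{u}} {b : P ⟶ U} {q' : P ⟶ Z'} {q : U ⟶ Z} {g : Z' ⟶ Z}
    (sq : IsPullback b q' q g) (V : U.Opens) (hf : IsFinite (V.ι ≫ q)) : IsFinite ((b ⁻¹ᵁ V).ι ≫ q') := by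
  have h1 : IsPullback (b ∣_ V) (b ⁻¹ᵁ V).ι V.ι b := isPullback_morphismRestrict b V
  have h2 : IsPullback (b ∣_ V) ((b ⁻¹ᵁ V).ι ≫ q') (V.ι ≫ q) g := h1.paste_vert sq
  exact MorphismProperty.of_isPullback (P := @IsFinite) h2 hf

/-- Étale locally on an affine base, a given point of a separated quasi-finite scheme lies in a finite clopen. -/
theorem exists_zmt {U Z : Scheme.{u}} (q : U ⟶ Z) [LocallyOfFiniteType q] [LocallyQuasiFinite q] [IsSeparated q]
    (x : U) : ∃ (Z' : Scheme.{u}) (g : Z' ⟶ Z), IsAffine Z' ∧ Etale g ∧ ∀ {P : Scheme.{u}} (b : P ⟶ U) (q' : P ⟶ Z'),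
      IsPullback b q' q g → ∃ (V : P.Opens) (v : P), v ∈ V ∧ IsClopen (V : Set P) ∧ IsFinite (V.ι ≫ q') ∧ b v = x := by
  obtain ⟨Z₁, g₁, hg₁, -, V₁, W₁, v₁, hVW, hfin, hv₁⟩ :=
    exists_etale_isCompl_of_quasiFiniteAt q rfl (q.quasiFiniteAt x)
  obtain ⟨A, hA, hxA, -⟩ := exists_isAffineOpen_mem_and_subset (x := pullback.snd q g₁ v₁.1) (U := ⊤) trivial
  have hAa : IsAffine A.toScheme := hA
  refine ⟨A.toScheme, A.ι ≫ g₁, hAa, inferInstance, fun {P} b q' sq => ?_⟩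
  let κ : P ⟶ pullback q g₁ := pullback.lift b (q' ≫ A.ι) (by rw [sq.w, Category.assoc])
  have hκ₁ : κ ≫ pullback.fst q g₁ = b := pullback.lift_fst _ _ _
  have hκ₂ : κ ≫ pullback.snd q g₁ = q' ≫ A.ι := pullback.lift_snd _ _ _
  have sq1 : IsPullback κ q' (pullback.snd q g₁) A.ι := by
    refine IsPullback.of_right ?_ hκ₂ (IsPullback.of_hasPullback q g₁).flip.flip
    rw [hκ₁]
    exact sq
  have hVc : IsClopen (V₁ : Set ↥(pullback q g₁)) := by
    refine ⟨?_, V₁.isOpen⟩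
    have hVW' : (V₁ : Set ↥(pullback q g₁)) = (W₁ : Set ↥(pullback q g₁))ᶜ :=
      eq_compl_iff_isCompl.mpr (hVW.map TopologicalSpace.Opens.frameHom)
    rw [hVW']
    exact W₁.isOpen.isClosed_compl
  obtain ⟨v, hv, hv'⟩ := exists_preimage_isPullback sq1 v₁.1 ⟨_, hxA⟩ rfl
  refine ⟨κ ⁻¹ᵁ V₁, v, ?_, hVc.preimage κ.continuous, isFinite_piece sq1 V₁ hfin, ?_⟩
  · change κ v ∈ V₁
    rw [hv]
    exact v₁.2
  · rw [← hκ₁, Scheme.Hom.comp_apply, hv, hv₁]

end K613
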