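import Groth.Agent.AlgSp.K613.LqfFin
import Groth.Agent.AlgSp.K613.LqfZmt

/-!
# Separated quasi-finite with an affine chart: étale locally on the affine hull it is an isomorphism
-/

set_option autoImplicit false
universe u

open CategoryTheory CategoryTheory.Limits AlgebraicGeometry Opposite AlgSp K613.Basic K613.Cover K613.Chart
  K613.Diag

namespace K613

theorem isPullback_inv_comp {C : Type*} [Category C] {P X Y Z : C} {a : P ⟶ X} {b : P ⟶ Y} {f : X ⟶ Z} {g : Y ⟶ Z}
    (sq : IsPullback a b f g) [IsIso b] : IsPullback (inv b ≫ a) (𝟙 Y) f g :=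
  sq.of_iso (asIso b) (Iso.refl _) (Iso.refl _) (Iso.refl _) (by simp) (by simp) (by simp) (by simp)

end K613

namespace K613.Dat

variable {S : Scheme.{u}} {X : Sp S} {U R Z : Over S} {p : (yon S).obj U ⟶ X} {s t : R ⟶ U} {q : U ⟶ Z}
  {f : X ⟶ (yon S).obj Z}

/-- A clopen of the chart finite over the base gives a clopen of the base over which `X` is the base. -/
theorem exists_clopen_isIso (h : Dat p s t q f) (V : U.left.Opens) (hV : IsClopen (V : Set U.left))
    (hf : IsFinite (V.ι ≫ q.left)) {v : U.left} (hv : v ∈ V) :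
    ∃ (E : Over S) (g : E ⟶ Z), IsOpenImmersion g.left ∧ q.left v ∈ Set.range g.left ∧
      IsIso (pullback.snd f ((yon S).map g)) := by
  have hU := h.affU
  have hZ := h.affZ
  have hse := h.etale_s
  obtain ⟨E, hE, hEV⟩ := h.rel.exists_clopen s.left.isOpenMap h.fe h.cl V hV hf
  let ES : Over S := Over.mk (E.ι ≫ Z.hom)
  let g : ES ⟶ Z := Over.homMk E.ι rfl
  have hEc : IsClosedImmersion E.ι := .of_isPreimmersion _ (by rw [Scheme.Opens.range_ι]; exact hE.isClosed)
  have hEa : IsAffine ES.left := isAffine_of_isAffineHom E.ι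
  have hgf : Flat g.left := (inferInstance : Flat E.ι)
  refine ⟨ES, g, (inferInstance : IsOpenImmersion E.ι), ?_, ?_⟩
  · change q.left v ∈ Set.range E.ι
    rw [Scheme.Opens.range_ι]
    change v ∈ q.left ⁻¹' (E : Set Z.left)
    rw [hEV]
    exact h.rel.subset_sat _ hv
  · obtain ⟨R', p', r, s', t', h', sqs, sqt⟩ := h.bc g hEa hgf
    have sqU' : IsPullback (pullback.fst q g).left (pullback.snd q g).left q.left g.left :=
      (IsPullback.of_hasPullback q g).map (Over.forget S)
    have sqs' : IsPullback r.left s'.left s.left (pullback.fst q g).left := sqs.map (Over.forget S)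
    have sqt' : r.left ≫ t.left = t'.left ≫ (pullback.fst q g).left := congrArg CommaMorphism.left sqt.w
    refine h'.isIso_of_finite ((pullback.fst q g).left ⁻¹ᵁ V) (hV.preimage (pullback.fst q g).left.continuous)
      (isFinite_piece sqU' V hf) ?_
    rw [Set.eq_univ_iff_forall]
    intro u'
    have h1 : (pullback.fst q g).left u' ∈ q.left ⁻¹' (E : Set Z.left) := by
      change q.left ((pullback.fst q g).left u') ∈ E
      rw [← Scheme.Hom.comp_apply, sqU'.w, Scheme.Hom.comp_apply]
      exact ((pullback.snd q g).left u' : E).2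
    rw [hEV] at h1
    obtain ⟨r₀, hr₀, hr₀'⟩ := h1
    obtain ⟨r₁, hr₁, hr₁'⟩ := exists_preimage_isPullback sqs' r₀ u' hr₀'
    refine ⟨r₁, ?_, hr₁'⟩
    change (pullback.fst q g).left (t'.left r₁) ∈ V
    rw [← Scheme.Hom.comp_apply, ← sqt', Scheme.Hom.comp_apply, hr₁]
    exact hr₀

/-- Étale locally around any point of the image, `X` is the base. -/
theorem exists_local (h : Dat p s t q f) (hq1 : LocallyOfFiniteType q.left) (hq2 : LocallyQuasiFinite q.left)
    (x : U.left) : ∃ (E : Over S) (g : E ⟶ Z) (y : (yon S).obj E ⟶ X), Etale g.left ∧ q.left x ∈ Set.range g.left ∧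
      IsPullback y (𝟙 _) f ((yon S).map g) := by
  have hU := h.affU
  have hZ := h.affZ
  obtain ⟨Z', g, hZ', hg, H⟩ := exists_zmt q.left x
  let ZS : Over S := Over.mk (g ≫ Z.hom)
  let gS : ZS ⟶ Z := Over.homMk g rfl
  have sqU' : IsPullback (pullback.fst q gS).left (pullback.snd q gS).left q.left g :=
    (IsPullback.of_hasPullback q gS).map (Over.forget S)
  obtain ⟨V, v, hv, hV, hfin, hvx⟩ := H _ _ sqU'
  obtain ⟨R', p', r, s', t', h', -, -⟩ := h.bc gS hZ' (inferInstance : Flat g)
  obtain ⟨E, g', hg', hv', hiso⟩ := h'.exists_clopen_isIso V hV hfin hv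
  have sq1 : IsPullback (pullback.fst (pullback.snd f ((yon S).map gS)) ((yon S).map g') ≫
      pullback.fst f ((yon S).map gS)) (pullback.snd (pullback.snd f ((yon S).map gS)) ((yon S).map g')) f
      ((yon S).map (g' ≫ gS)) := by
    rw [Functor.map_comp]
    exact (IsPullback.of_hasPullback _ _).paste_horiz (IsPullback.of_hasPullback f ((yon S).map gS)).flip.flip
  refine ⟨E, g' ≫ gS, _, ?_, ?_, isPullback_inv_comp sq1⟩
  · have : Etale (g'.left ≫ g) := inferInstance
    exact this
  · obtain ⟨e, he⟩ := hv'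
    refine ⟨e, ?_⟩
    change (g'.left ≫ g) e = _
    rw [Scheme.Hom.comp_apply, he, ← hvx, ← Scheme.Hom.comp_apply, ← sqU'.w, Scheme.Hom.comp_apply]

end K613.Dat
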