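import Groth.Agent.S0056
import Groth.Agent.S0495
import Groth.Agent.S2878
import Groth.Agent.CalgB.ProjField
import Groth.Agent.FormalA.AlgA1

/-!
# Algebraization of proper systems of schemes of dimension at most one

`A` a complete Noetherian local ring, `Ts n` schemes over `Spec A/m^(n+1)` with cartesian transition maps, `Ts 0` proper of
dimension at most one over the residue field: the system is the completion of a projective `A`-scheme.
-/

set_option autoImplicit false
universe u

open CategoryTheory Limits AlgebraicGeometry TopologicalSpace IsLocalRing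

namespace Groth.Agent.AlgSp.K613.ProjTower

theorem locallyOfFinitePresentation_of_noeth {X Y : Scheme.{u}} (f : X ⟶ Y)
    [IsLocallyNoetherian Y] [LocallyOfFiniteType f] : LocallyOfFinitePresentation f where
  finitePresentation_appLE {U} hU {V} hV e := by
    have : IsNoetherianRing Γ(Y, U) := IsLocallyNoetherian.component_noetherian ⟨U, hU⟩
    exact RingHom.FinitePresentation.of_finiteType.1 (f.finiteType_appLE hU hV e)

theorem krullDimLE_quotient (A : Type u) [CommRing A] [IsLocalRing A] (n : ℕ) :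
    Ring.KrullDimLE 0 (A ⧸ maximalIdeal A ^ (n + 1)) := by
  rw [Ring.krullDimLE_zero_iff]
  intro q hq
  have h1 : (q.comap (Ideal.Quotient.mk (maximalIdeal A ^ (n + 1)))) = maximalIdeal A := by
    refine le_antisymm (IsLocalRing.le_maximalIdeal (Ideal.IsPrime.ne_top (Ideal.IsPrime.comap _))) ?_
    intro a ha
    have h2 : (Ideal.Quotient.mk (maximalIdeal A ^ (n + 1)) a) ^ (n + 1) = 0 := by
      rw [← map_pow, Ideal.Quotient.eq_zero_iff_mem]
      exact Ideal.pow_mem_pow ha _
    exact hq.mem_of_pow_mem (n + 1) (by rw [h2]; exact q.zero_mem)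
  have h3 : (q.comap (Ideal.Quotient.mk (maximalIdeal A ^ (n + 1)))).IsMaximal := by
    rw [h1]; infer_instance
  have h2 : (q.comap (Ideal.Quotient.mk (maximalIdeal A ^ (n + 1)))).map
      (Ideal.Quotient.mk (maximalIdeal A ^ (n + 1))) = q :=
    Ideal.map_comap_of_surjective _ Ideal.Quotient.mk_surjective _
  have h4 := Ideal.map_eq_top_or_isMaximal_of_surjective _
    (Ideal.Quotient.mk_surjective (I := maximalIdeal A ^ (n + 1))) h3
  rw [h2] at h4
  exact h4.resolve_left hq.ne_top

/-- A local ring whose maximal ideal is nilpotent is henselian. -/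
theorem henselian_quotient (A : Type u) [CommRing A] [IsLocalRing A] (n : ℕ) :
    HenselianLocalRing (A ⧸ maximalIdeal A ^ (n + 1)) := by
  have h0 := krullDimLE_quotient A n
  have hne : maximalIdeal A ^ (n + 1) ≠ ⊤ := fun h =>
    (Ideal.IsPrime.ne_top inferInstance) (top_le_iff.1 (h ▸ Ideal.pow_le_self (Nat.succ_ne_zero n)))
  have hnt : Nontrivial (A ⧸ maximalIdeal A ^ (n + 1)) := Ideal.Quotient.nontrivial_iff.mpr hne
  have hloc : IsLocalRing (A ⧸ maximalIdeal A ^ (n + 1)) :=
    IsLocalRing.of_surjective' (Ideal.Quotient.mk _) Ideal.Quotient.mk_surjective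
  exact Groth.Agent.S0495.result _ (ringKrullDimZero_iff_ringKrullDim_eq_zero.1 h0)

section

variable {A : Type u} [CommRing A] [IsNoetherianRing A] [IsLocalRing A]
  {Ts : ℕ → Scheme.{u}} {p : (n : ℕ) → (Ts n ⟶ Spec (CommRingCat.of (A ⧸ maximalIdeal A ^ (n + 1))))}
  {i : (n : ℕ) → (Ts n ⟶ Ts (n + 1))}

theorem surjective_lift
    (hcart : ∀ n, IsPullback (i n) (p n) (p (n + 1)) (CohB1.specQuotTrans (maximalIdeal A) n)) (hp : IsProper (p 0))
    (hd : topologicalKrullDim (Ts 0) ≤ 1) (n : ℕ) (L₀ : (Ts n).Modules) (hL₀ : PicF.IsInvertible L₀) :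
    ∃ L : (Ts (n + 1)).Modules, PicF.IsInvertible L ∧
      Nonempty ((Scheme.Modules.pullback (i n)).obj L ≅ L₀) := by
  have h1 := FormalA.AlgA1.isProper hcart hp
  have h2 := FormalA.AlgA1.isClosedImmersion_i hcart
  have h3 := FormalA.AlgA1.surjective_i hcart
  have h4 := henselian_quotient A (n + 1)
  have h6 : ∀ n, IsNoetherianRing (CommRingCat.of (A ⧸ maximalIdeal A ^ (n + 1))) := fun n =>
    inferInstanceAs (IsNoetherianRing (A ⧸ maximalIdeal A ^ (n + 1)))
  have h7 := h4.toIsLocalRing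
  have hsub : Subsingleton ↥(Spec (CommRingCat.of (A ⧸ maximalIdeal A ^ (n + 1 + 1)))) := by
    have h0 : Ring.KrullDimLE 0 (A ⧸ maximalIdeal A ^ (n + 1 + 1)) := krullDimLE_quotient A (n + 1)
    refine ⟨fun x y => PrimeSpectrum.ext ?_⟩
    rw [IsLocalRing.eq_maximalIdeal (inferInstance : x.asIdeal.IsMaximal),
      IsLocalRing.eq_maximalIdeal (inferInstance : y.asIdeal.IsMaximal)]
  -- the space of `Ts (n + 1)` has dimension at most one
  have hdim : ∀ n, topologicalKrullDim (Ts n) ≤ 1 := by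
    intro n
    induction n with
    | zero => exact hd
    | succ n ih =>
      have h9 : IsHomeomorph (i n) :=
        isHomeomorph_iff_isEmbedding_surjective.2 ⟨(i n).isClosedEmbedding.isEmbedding, (h3 n).1⟩
      rw [← h9.topologicalKrullDim_eq]
      exact ih
  have hN : IsLocallyNoetherian (Spec (CommRingCat.of (A ⧸ maximalIdeal A ^ (n + 1 + 1)))) := by
    have := h6 (n + 1)
    infer_instance
  have hlfp : LocallyOfFinitePresentation (i n ≫ p (n + 1)) :=
    locallyOfFinitePresentation_of_noeth _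
  have hlfp' : LocallyOfFinitePresentation (p (n + 1)) :=
    locallyOfFinitePresentation_of_noeth _
  have hfib : topologicalKrullDim ↥((p (n + 1)).fiber (closedPoint (A ⧸ maximalIdeal A ^ (n + 1 + 1)))) ≤ 1 :=
    ((p (n + 1)).fiberι (closedPoint (A ⧸ maximalIdeal A ^ (n + 1 + 1)))).isEmbedding.isInducing.topologicalKrullDim_le.trans (hdim (n + 1))
  obtain ⟨L, hL, e⟩ := Groth.Agent.S2878.result (A ⧸ maximalIdeal A ^ (n + 1 + 1)) (p (n + 1)) hfib (i n) (by
    ext x
    simp only [Set.mem_preimage]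
    refine ⟨fun _ => Subsingleton.elim _ _, fun _ => ?_⟩
    obtain ⟨y, hy⟩ := (h3 n).1 x
    exact ⟨y, hy⟩) L₀ hL₀
  exact ⟨L, hL, e⟩

/-- Every line bundle on `Ts 0` extends to a compatible system. -/
theorem exists_tower
    (hcart : ∀ n, IsPullback (i n) (p n) (p (n + 1)) (CohB1.specQuotTrans (maximalIdeal A) n)) (hp : IsProper (p 0))
    (hd : topologicalKrullDim (Ts 0) ≤ 1) (L₀ : (Ts 0).Modules) (hL₀ : PicF.IsInvertible L₀) :
    ∃ L : (n : ℕ) → (Ts n).Modules, (∀ n, PicF.IsInvertible (L n)) ∧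
      (∀ n, Nonempty ((Scheme.Modules.pullback (i n)).obj (L (n + 1)) ≅ L n)) ∧ L 0 = L₀ := by
  choose F hF1 hF2 using surjective_lift hcart hp hd
  let G : (n : ℕ) → { L : (Ts n).Modules // PicF.IsInvertible L } := fun n =>
    Nat.rec ⟨L₀, hL₀⟩ (fun n L => ⟨F n L.1 L.2, hF1 n L.1 L.2⟩) n
  exact ⟨fun n => (G n).1, fun n => (G n).2, fun n => hF2 n (G n).1 (G n).2, rfl⟩

/-- **Algebraization in relative dimension one**: a cartesian system of schemes over `Spec A/m^(n+1)`, `A` a
complete Noetherian local ring, with `Ts 0` proper of dimension at most one, is the completion of a projective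
`A`-scheme. -/
theorem exists_projective [IsAdicComplete (maximalIdeal A) A]
    (hcart : ∀ n, IsPullback (i n) (p n) (p (n + 1)) (CohB1.specQuotTrans (maximalIdeal A) n)) (hp : IsProper (p 0))
    (hd : topologicalKrullDim (Ts 0) ≤ 1) :
    ∃ (N : ℕ) (T : Scheme.{u}) (j : T ⟶ CohB1.ProjSpace N A) (e : (n : ℕ) → (Ts n ⟶ T)), IsClosedImmersion j ∧
      (∀ n, IsPullback (e n) (p n) (j ≫ CohB1.ProjSpace.toSpec N A) (CohB1.specQuot (maximalIdeal A) n)) ∧
      ∀ n, e n = i n ≫ e (n + 1) := by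
  have hmax : (maximalIdeal A ^ (0 + 1)).IsMaximal := by
    rw [zero_add, pow_one]; infer_instance
  obtain ⟨L₀, hL₀⟩ : ∃ L : (Ts 0).Modules, CohB1.IsAmple L := by
    letI := Ideal.Quotient.field (maximalIdeal A ^ (0 + 1))
    exact Groth.Agent.CalgB.ProjField.exists_isAmple_of_dim_le_one (p 0) hd
  obtain ⟨L, hL, φ, h0⟩ := exists_tower hcart hp hd L₀ hL₀.1
  obtain ⟨Y, g, M, e, hg, hM, ha, h1, h2, -⟩ := Groth.Agent.S0056.result A (maximalIdeal A) Ts p i hcart hp L hL φ
    (by rw [h0]; exact hL₀)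
  obtain ⟨N, c, hc, hcg⟩ := Groth.Agent.CalgB.ProjField.exists_closedImmersion_projSpace g ⟨M, ha⟩
  refine ⟨N, Y, c, e, hc, fun n => ?_, h2⟩
  rw [hcg]
  exact h1 n

end

end Groth.Agent.AlgSp.K613.ProjTower
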