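import Groth.Agent.AlgSp.K613.FE
import Groth.Agent.Pi1C.IdemCrit
import Mathlib.AlgebraicGeometry.Morphisms.Finite
import Mathlib.AlgebraicGeometry.Morphisms.Etale
import Mathlib.AlgebraicGeometry.PullbackCarrier

/-!
# Equivalence relations of schemes, saturation of clopen subsets

`Rel s t`: `(s, t) : R ⇉ U` is an equivalence relation on `T`-points.  If a clopen `V ⊆ U` is finite over `Z` then its
saturation is clopen; if moreover functions on `Z` are the invariant functions on `U`, it is the preimage of a clopen of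
`Z`.
-/

set_option autoImplicit false
universe u

open CategoryTheory CategoryTheory.Limits AlgebraicGeometry Opposite TopologicalSpace

namespace K613

/-- `s, t : R ⟶ U` is an equivalence relation of schemes. -/
structure Rel {U R : Scheme.{u}} (s t : R ⟶ U) : Prop where
  inj : ∀ {T : Scheme.{u}} (a b : T ⟶ R), a ≫ s = b ≫ s → a ≫ t = b ≫ t → a = b
  refl : ∃ e : U ⟶ R, e ≫ s = 𝟙 U ∧ e ≫ t = 𝟙 U
  symm : ∃ i : R ⟶ R, i ≫ s = t ∧ i ≫ t = s
  trans : ∀ {T : Scheme.{u}} (a b : T ⟶ R), a ≫ t = b ≫ s → ∃ c : T ⟶ R, c ≫ s = a ≫ s ∧ c ≫ t = b ≫ t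

namespace Rel

variable {U R Z : Scheme.{u}} {s t : R ⟶ U} {q : U ⟶ Z}

theorem swap (h : Rel s t) : Rel t s where
  inj a b h₁ h₂ := h.inj a b h₂ h₁
  refl := by
    obtain ⟨e, h₁, h₂⟩ := h.refl
    exact ⟨e, h₂, h₁⟩
  symm := by
    obtain ⟨e, h₁, h₂⟩ := h.symm
    exact ⟨e, h₂, h₁⟩
  trans a b hab := by
    obtain ⟨c, h₁, h₂⟩ := h.trans b a hab.symm
    exact ⟨c, h₂, h₁⟩

theorem subset_sat (h : Rel s t) (V : Set U) : V ⊆ s '' (t ⁻¹' V) := by
  intro x hx
  obtain ⟨e, h₁, h₂⟩ := h.refl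
  have h₁' : ∀ y, s (e y) = y := fun y => by rw [← Scheme.Hom.comp_apply, h₁]; rfl
  have h₂' : ∀ y, t (e y) = y := fun y => by rw [← Scheme.Hom.comp_apply, h₂]; rfl
  exact ⟨e x, by simpa [h₂'] using hx, h₁' x⟩

/-- The saturation of a subset is invariant. -/
theorem preimage_sat (h : Rel s t) (V : Set U) : s ⁻¹' (s '' (t ⁻¹' V)) = t ⁻¹' (s '' (t ⁻¹' V)) := by
  obtain ⟨i, hi₁, hi₂⟩ := h.symm
  have hi₁' : ∀ y, s (i y) = t y := fun y => by rw [← Scheme.Hom.comp_apply, hi₁]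
  have hi₂' : ∀ y, t (i y) = s y := fun y => by rw [← Scheme.Hom.comp_apply, hi₂]
  have key : s ⁻¹' (s '' (t ⁻¹' V)) ⊆ t ⁻¹' (s '' (t ⁻¹' V)) := by
    rintro r ⟨r', hr', e⟩
    obtain ⟨w, hw₁, hw₂⟩ := Scheme.Pullback.exists_preimage_pullback r r' (f := s) (g := s) e.symm
    obtain ⟨c, hc₁, hc₂⟩ := h.trans (pullback.fst s s ≫ i) (pullback.snd s s) (by
      rw [Category.assoc, hi₂, pullback.condition])
    rw [Category.assoc, hi₁] at hc₁
    have hc₁' : s (c w) = t (pullback.fst s s w) := by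
      rw [← Scheme.Hom.comp_apply, hc₁, Scheme.Hom.comp_apply]
    have hc₂' : t (c w) = t (pullback.snd s s w) := by
      rw [← Scheme.Hom.comp_apply, hc₂, Scheme.Hom.comp_apply]
    rw [hw₁] at hc₁'
    rw [hw₂] at hc₂'
    refine ⟨c w, ?_, hc₁'⟩
    change t (c w) ∈ V
    rw [hc₂']
    exact hr'
  refine Set.Subset.antisymm key ?_
  intro r hr
  have h1 : i r ∈ s ⁻¹' (s '' (t ⁻¹' V)) := by
    rw [Set.mem_preimage, hi₁']
    exact hr
  have h2 := key h1
  rw [Set.mem_preimage, hi₂'] at h2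
  exact h2

/-- If `V ⊆ U` is clopen and finite over `Z` and `R ⟶ U ×_Z U` is a closed immersion, then `t⁻¹(V) ⟶ U` is finite. -/
theorem isFinite_src (hq : s ≫ q = t ≫ q) [IsSeparated q] (hcl : IsClosedImmersion (pullback.lift s t hq))
    (V : U.Opens) (hV : IsClopen (V : Set U)) (hf : IsFinite (V.ι ≫ q)) : IsFinite ((t ⁻¹ᵁ V).ι ≫ s) := by
  have hVc : IsClopen ((t ⁻¹ᵁ V : R.Opens) : Set R) := hV.preimage t.continuous
  have hι : IsClosedImmersion (t ⁻¹ᵁ V).ι :=
    .of_isPreimmersion _ (by rw [Scheme.Opens.range_ι]; exact hVc.isClosed)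
  let k : (t ⁻¹ᵁ V).toScheme ⟶ pullback q (V.ι ≫ q) := pullback.lift ((t ⁻¹ᵁ V).ι ≫ s) (t ∣_ V) (by
    rw [Category.assoc, hq, morphismRestrict_ι_assoc])
  have hk : k ≫ pullback.map q (V.ι ≫ q) q q (𝟙 _) V.ι (𝟙 _) (by simp) (by simp) =
      (t ⁻¹ᵁ V).ι ≫ pullback.lift s t hq := by
    apply pullback.hom_ext
    · simp [k, pullback.lift_fst]
    · simp only [k, Category.assoc, pullback.map, pullback.lift_snd, pullback.lift_snd_assoc, morphismRestrict_ι]
  have hk1 : IsClosedImmersion (k ≫ pullback.map q (V.ι ≫ q) q q (𝟙 _) V.ι (𝟙 _) (by simp) (by simp)) := by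
    rw [hk]
    infer_instance
  have hsep : IsSeparated (pullback.map q (V.ι ≫ q) q q (𝟙 _) V.ι (𝟙 _) (by simp) (by simp)) := by
    have : IsSeparated (pullback.map q (V.ι ≫ q) q q (𝟙 _) V.ι (𝟙 _) (by simp) (by simp) ≫
        pullback.fst q q) := by
      rw [pullback.map, pullback.lift_fst, Category.comp_id]
      infer_instance
    exact IsSeparated.of_comp _ (pullback.fst q q)
  have hk2 : IsClosedImmersion k := IsClosedImmersion.of_comp k (pullback.map q (V.ι ≫ q) q q (𝟙 _) V.ι (𝟙 _) _ _)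
  have e : (t ⁻¹ᵁ V).ι ≫ s = k ≫ pullback.fst q (V.ι ≫ q) := by
    simp [k, pullback.lift_fst]
  rw [e]
  infer_instance

/-- The saturation of a clopen of `U` finite over `Z` is the preimage of a clopen of `Z`. -/
theorem exists_clopen (h : Rel s t) (hs : IsOpenMap s) (hfe : FE s t q) [IsSeparated q]
    (hcl : IsClosedImmersion (pullback.lift s t hfe.w)) (V : U.Opens) (hV : IsClopen (V : Set U))
    (hf : IsFinite (V.ι ≫ q)) : ∃ E : Z.Opens, IsClopen (E : Set Z) ∧ q ⁻¹' (E : Set Z) = s '' (t ⁻¹' (V : Set U)) := by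
  have h1 := isFinite_src hfe.w hcl V hV hf
  have h2 : IsClosed (s '' (t ⁻¹' (V : Set U))) := by
    have h3 : s '' (t ⁻¹' (V : Set U)) = Set.range ((t ⁻¹ᵁ V).ι ≫ s) := by
      rw [Scheme.Hom.comp_base, TopCat.coe_comp, Set.range_comp, Scheme.Opens.range_ι]
      rfl
    rw [h3]
    exact (Scheme.Hom.isClosedMap ((t ⁻¹ᵁ V).ι ≫ s)).isClosed_range
  have h3 : IsOpen (s '' (t ⁻¹' (V : Set U))) := hs _ (V.isOpen.preimage t.continuous)
  obtain ⟨e, he, heV⟩ := Groth.Agent.Pi1C.IdemCrit.exists_idem_of_isClopen ⟨h2, h3⟩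
  have h4 : s.appTop.hom e = t.appTop.hom e := by
    apply Groth.Agent.Pi1C.IdemCrit.idem_ext
    · rw [← map_mul, he]
    · rw [← map_mul, he]
    · have h5 := Scheme.preimage_basicOpen_top s e
      have h6 := Scheme.preimage_basicOpen_top t e
      have h5' : (R.basicOpen (s.appTop e) : Set R) = s ⁻¹' (U.basicOpen e : Set U) := by rw [← h5]; rfl
      have h6' : (R.basicOpen (t.appTop e) : Set R) = t ⁻¹' (U.basicOpen e : Set U) := by rw [← h6]; rfl
      rw [h5', h6', heV, h.preimage_sat]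
  obtain ⟨a, ha⟩ := hfe.surj e h4
  have haa : a * a = a := hfe.inj (by rw [map_mul, ha, he])
  refine ⟨Z.basicOpen a, Groth.Agent.Pi1C.IdemCrit.isClopen_basicOpen haa, ?_⟩
  rw [← heV, ← ha]
  have h5 := Scheme.preimage_basicOpen_top q a
  rw [← h5]
  rfl

end Rel

end K613
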