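import Groth.Agent.AlgSp.K613.Rel
import Groth.Agent.S1877
import Groth.Agent.S1878

/-!
# Quotients of affine schemes by finite locally free equivalence relations (for `K613.Rel`)
-/

set_option autoImplicit false
universe u

open CategoryTheory CategoryTheory.Limits AlgebraicGeometry Opposite TopologicalSpace

namespace K613.Rel

variable {U R : Scheme.{u}} {s t : R ⟶ U}

/-- The composition of an equivalence relation, as a morphism. -/
theorem exists_comp (h : Rel s t) : ∃ c : pullback s t ⟶ R, c ≫ s = pullback.snd s t ≫ s ∧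
    c ≫ t = pullback.fst s t ≫ t :=
  h.trans (pullback.snd s t) (pullback.fst s t) pullback.condition.symm

/-- The groupoid scheme of an equivalence relation. -/
noncomputable def gpd (h : Rel s t) : Grpd.GroupoidScheme (⊤_ Scheme.{u}) where
  U := U
  R := R
  pU := terminal.from U
  pR := terminal.from R
  s := s
  t := t
  e := h.refl.choose
  i := h.symm.choose
  c := h.exists_comp.choose
  s_over := Subsingleton.elim _ _
  t_over := Subsingleton.elim _ _
  comp_s α β hab := by rw [Category.assoc, h.exists_comp.choose_spec.1, pullback.lift_snd_assoc]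
  comp_t α β hab := by rw [Category.assoc, h.exists_comp.choose_spec.2, pullback.lift_fst_assoc]
  assoc α β γ h₁ h₂ := by
    apply h.inj
    · simp only [Category.assoc, h.exists_comp.choose_spec.1, pullback.lift_snd_assoc]
    · simp only [Category.assoc, h.exists_comp.choose_spec.2, pullback.lift_fst_assoc]
  e_s := h.refl.choose_spec.1
  e_t := h.refl.choose_spec.2
  comp_e α := by
    apply h.inj
    · simp only [Category.assoc, h.exists_comp.choose_spec.1, pullback.lift_snd_assoc, h.refl.choose_spec.1,
        Category.comp_id]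
    · simp only [Category.assoc, h.exists_comp.choose_spec.2, pullback.lift_fst_assoc]
  e_comp α := by
    apply h.inj
    · simp only [Category.assoc, h.exists_comp.choose_spec.1, pullback.lift_snd_assoc]
    · simp only [Category.assoc, h.exists_comp.choose_spec.2, pullback.lift_fst_assoc, h.refl.choose_spec.2,
        Category.comp_id]
  i_s := h.symm.choose_spec.1
  i_t := h.symm.choose_spec.2
  comp_i α := by
    apply h.inj
    · simp only [Category.assoc, h.exists_comp.choose_spec.1, pullback.lift_snd_assoc, h.refl.choose_spec.1,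
        Category.comp_id, h.symm.choose_spec.1]
    · simp only [Category.assoc, h.exists_comp.choose_spec.2, pullback.lift_fst_assoc, h.refl.choose_spec.2,
        Category.comp_id]
  i_comp α := by
    apply h.inj
    · simp only [Category.assoc, h.exists_comp.choose_spec.1, pullback.lift_snd_assoc, h.refl.choose_spec.1,
        Category.comp_id]
    · simp only [Category.assoc, h.exists_comp.choose_spec.2, pullback.lift_fst_assoc, h.refl.choose_spec.2,
        Category.comp_id, h.symm.choose_spec.2]

/-- The quotient of an affine scheme by a finite locally free equivalence relation. -/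
theorem exists_quot (h : Rel s t) [IsAffine U] [IsAffine R] [IsFinite s] [Flat s] [LocallyOfFinitePresentation s]
    [IsFinite t] [Flat t] [LocallyOfFinitePresentation t] :
    ∃ (M : Scheme.{u}) (π : U ⟶ M), IsAffine M ∧ IsFinite π ∧ Flat π ∧ LocallyOfFinitePresentation π ∧
      Surjective π ∧ IsPullback s t π π := by
  have hU : IsAffine h.gpd.U := ‹IsAffine U›
  have hR : IsAffine h.gpd.R := ‹IsAffine R›
  have h1 : IsFinite h.gpd.s := ‹IsFinite s›
  have h2 : Flat h.gpd.s := ‹Flat s›
  have h3 : LocallyOfFinitePresentation h.gpd.s := ‹LocallyOfFinitePresentation s›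
  have h4 : IsFinite h.gpd.t := ‹IsFinite t›
  have h5 : Flat h.gpd.t := ‹Flat t›
  have h6 : LocallyOfFinitePresentation h.gpd.t := ‹LocallyOfFinitePresentation t›
  have h7 : Mono h.gpd.j := by
    constructor
    intro T a b hab
    have ha : a ≫ h.gpd.j ≫ pullback.fst _ _ = b ≫ h.gpd.j ≫ pullback.fst _ _ := by
      rw [← Category.assoc, hab, Category.assoc]
    have hb : a ≫ h.gpd.j ≫ pullback.snd _ _ = b ≫ h.gpd.j ≫ pullback.snd _ _ := by
      rw [← Category.assoc, hab, Category.assoc]
    rw [Grpd.GroupoidScheme.j, pullback.lift_fst] at ha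
    rw [Grpd.GroupoidScheme.j, pullback.lift_snd] at hb
    exact h.inj _ _ hb ha
  obtain ⟨⟨k1, k2, k3⟩, φ, hφ₁, hφ₂⟩ := Groth.Agent.S1877.result _ h.gpd
  have k4 := (Groth.Agent.S1878.result _ h.gpd).1.1
  refine ⟨_, h.gpd.toQuot, inferInstance, k1, k2, k3, ⟨k4⟩, ?_⟩
  refine (IsPullback.of_iso (IsPullback.of_hasPullback h.gpd.toQuot h.gpd.toQuot) φ.symm (Iso.refl _) (Iso.refl _)
    (Iso.refl _) ?_ ?_ ?_ ?_ : IsPullback h.gpd.t h.gpd.s h.gpd.toQuot h.gpd.toQuot).flip
  · rw [Iso.refl_hom, Category.comp_id, Iso.symm_hom, Iso.eq_inv_comp, hφ₁]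
  · rw [Iso.refl_hom, Category.comp_id, Iso.symm_hom, Iso.eq_inv_comp, hφ₂]
  · simp
  · simp

/-- Restriction of an equivalence relation along a monomorphism. -/
theorem restrict (h : Rel s t) {V R' : Scheme.{u}} {v : V ⟶ U} [Mono v] {j : R' ⟶ R} {s' t' : R' ⟶ V}
    (hs : s' ≫ v = j ≫ s) (ht : t' ≫ v = j ≫ t)
    (hj : ∀ {T : Scheme.{u}} (a b : T ⟶ V) (r : T ⟶ R), r ≫ s = a ≫ v → r ≫ t = b ≫ v →
      ∃ r' : T ⟶ R', r' ≫ j = r) [Mono j] : Rel s' t' where
  inj a b h₁ h₂ := by
    rw [← cancel_mono j]
    apply h.inj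
    · rw [Category.assoc, Category.assoc, ← hs, ← Category.assoc, h₁, Category.assoc]
    · rw [Category.assoc, Category.assoc, ← ht, ← Category.assoc, h₂, Category.assoc]
  refl := by
    obtain ⟨e, he₁, he₂⟩ := h.refl
    obtain ⟨r, hr⟩ := hj (𝟙 V) (𝟙 V) (v ≫ e) (by simp [he₁]) (by simp [he₂])
    refine ⟨r, ?_, ?_⟩
    · rw [← cancel_mono v, Category.assoc, hs, ← Category.assoc, hr, Category.assoc, he₁]; simp
    · rw [← cancel_mono v, Category.assoc, ht, ← Category.assoc, hr, Category.assoc, he₂]; simp
  symm := by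
    obtain ⟨e, he₁, he₂⟩ := h.symm
    obtain ⟨r, hr⟩ := hj t' s' (j ≫ e) (by rw [Category.assoc, he₁, ht]) (by rw [Category.assoc, he₂, hs])
    refine ⟨r, ?_, ?_⟩
    · rw [← cancel_mono v, Category.assoc, hs, ← Category.assoc, hr, Category.assoc, he₁, ht]
    · rw [← cancel_mono v, Category.assoc, ht, ← Category.assoc, hr, Category.assoc, he₂, hs]
  trans a b hab := by
    obtain ⟨c, hc₁, hc₂⟩ := h.trans (a ≫ j) (b ≫ j) (by
      rw [Category.assoc, ← ht, ← Category.assoc, hab, Category.assoc, hs, Category.assoc])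
    obtain ⟨r, hr⟩ := hj (a ≫ s') (b ≫ t') c (by rw [hc₁]; simp only [Category.assoc, hs])
      (by rw [hc₂]; simp only [Category.assoc, ht])
    refine ⟨r, ?_, ?_⟩
    · rw [← cancel_mono v, Category.assoc, hs, ← Category.assoc, hr, hc₁]; simp only [Category.assoc, hs]
    · rw [← cancel_mono v, Category.assoc, ht, ← Category.assoc, hr, hc₂]; simp only [Category.assoc, ht]

end K613.Rel
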