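import Groth.Agent.AlgSp.K611.AbStalk
import Groth.Agent.AlgSp.K611.Germ

/-!
# Supports of sheaves on the small étale site of an algebraic space
-/

set_option autoImplicit false
universe u
open CategoryTheory CategoryTheory.Limits AlgebraicGeometry Opposite Topology TopologicalSpace
open AlgSp K611

set_option backward.isDefEq.respectTransparency false

namespace K613.Supp

variable {S : Scheme.{u}} {X : Sp S} (hX : IsAlgSpace X)

include hX in
/-- The stalk is nonzero iff some germ is nonzero. -/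
theorem not_isZero_iff (F : AbEt X) (p : FieldPt X) (hp : p.IsGeometric) :
    ¬ IsZero (stalkEt p F) ↔ ∃ (E : EtOver X) (x : (FieldPt.liftsTo p).obj E) (σ : ↥(F.obj.obj (op E))),
      ∀ (Y : EtOver X) (g : Y ⟶ E) (y : (FieldPt.liftsTo p).obj Y), (FieldPt.liftsTo p).map g y = x →
        (F.obj.map g.op).hom σ ≠ 0 := by
  have := pfc_ab.{u}
  constructor
  · intro h
    have h1 : ¬ Subsingleton ↥(stalkEt p F) := fun h2 => h (AddCommGrpCat.isZero_of_subsingleton _)
    rw [not_subsingleton_iff_nontrivial] at h1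
    obtain ⟨z, hz⟩ := exists_ne (0 : ↥(stalkEt p F))
    obtain ⟨E, x, σ, hσ⟩ := (ptG hX p hp).toPresheafFiber_jointly_surjective (P := F.obj) z
    refine ⟨E, x, σ, fun Y g y hy h0 => hz ?_⟩
    have h2 : (ptG hX p hp).toPresheafFiber E x F.obj σ = (ptG hX p hp).toPresheafFiber E x F.obj 0 :=
      ((ptG hX p hp).toPresheafFiber_eq_iff' E x σ 0).2 ⟨Y, g, y, hy, h0.trans (map_zero _).symm⟩
    rw [← hσ, h2]
    exact map_zero _
  · rintro ⟨E, x, σ, h⟩ h0
    have h1 : Subsingleton ↥(stalkEt p F) := AddCommGrpCat.subsingleton_of_isZero h0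
    have h2 : (ptG hX p hp).toPresheafFiber E x F.obj σ = (ptG hX p hp).toPresheafFiber E x F.obj 0 :=
      @Subsingleton.elim _ h1 _ _
    obtain ⟨Y, g, y, hy, hg⟩ := ((ptG hX p hp).toPresheafFiber_eq_iff' E x σ 0).1 h2
    exact h Y g y hy (hg.trans (map_zero _))

theorem mk_geomPt (E : EtOver X) (x : ↥E.obj.left.left) : Points.mk (geomPt E x) = Points.ofPt E.obj.hom x := by
  have h := ofPt_nbhd (geomPt E x) (geomFib E x) (IsLocalRing.closedPoint _)
  rw [← h]
  congr 1
  exact geomPtLift_apply E x _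

include hX in
theorem support_iff (F : AbEt X) (x : Points X) :
    (∃ p : FieldPt X, p.IsGeometric ∧ Points.mk p = x ∧ ¬ IsZero (stalkEt p F)) ↔
      ∃ (U : EtOver X) (σ : ↥(F.obj.obj (op U))) (u : ↥U.obj.left.left),
        Points.ofPt U.obj.hom u = x ∧
          ∀ (V : EtOver X) (φ : V ⟶ U), (F.obj.map φ.op).hom σ = 0 →
            u ∉ Set.range (fun v => φ.hom.left.left v) := by
  constructor
  · rintro ⟨p, hp, rfl, h⟩
    obtain ⟨E, l, σ, hσ⟩ := (not_isZero_iff hX F p hp).1 h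
    refine ⟨E, σ, l.1.left (IsLocalRing.closedPoint p.K), ofPt_nbhd p l _, fun V φ h0 hu => ?_⟩
    obtain ⟨v, hv⟩ := hu
    have : IsAlgClosed p.K := hp
    obtain ⟨y, hy⟩ := exists_lift_hom p inferInstance φ l v hv
    exact hσ V φ y hy h0
  · rintro ⟨U, σ, u, hu, h⟩
    refine ⟨geomPt U u, isGeometric_geomPt U u, (mk_geomPt U u).trans hu,
      (not_isZero_iff hX F _ (isGeometric_geomPt U u)).2 ⟨U, geomFib U u, σ, fun Y g y hy h0 => h Y g h0 ?_⟩⟩
    refine ⟨y.1.left (IsLocalRing.closedPoint _), ?_⟩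
    have h1 : y.1 ≫ g.hom.left = geomPtLift U u := congrArg Subtype.val hy
    have h2 : (y.1 ≫ g.hom.left).left (IsLocalRing.closedPoint _) =
        (geomPtLift U u).left (IsLocalRing.closedPoint _) := by rw [h1]
    rw [geomPtLift_apply] at h2
    exact h2

include hX in
/-- The stalk of a sheaf of rings vanishes iff `1 = 0` on some neighbourhood. -/
theorem not_nontrivial_iff (F : EtSh X CommRingCat.{u + 1}) (p : FieldPt X) (hp : p.IsGeometric) (E : EtOver X)
    (x : (FieldPt.liftsTo p).obj E) : ¬ Nontrivial ↥(stalkEt p F) ↔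
      ∃ (Y : EtOver X) (g : Y ⟶ E) (y : (FieldPt.liftsTo p).obj Y), (FieldPt.liftsTo p).map g y = x ∧
        (1 : ↥(F.obj.obj (op Y))) = 0 := by
  have := preservesFiltered_forget_commRing.{u}
  have := hasColimits_commRing.{u}
  rw [not_nontrivial_iff_subsingleton]
  have h1 : (ptG hX p hp).toPresheafFiber E x F.obj (1 : ↥(F.obj.obj (op E))) = 1 := map_one _
  have h2 : (ptG hX p hp).toPresheafFiber E x F.obj (0 : ↥(F.obj.obj (op E))) = 0 := map_zero _
  constructor
  · intro h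
    obtain ⟨Y, g, y, hy, hg⟩ := ((ptG hX p hp).toPresheafFiber_eq_iff' (P := F.obj) E x 1 0).1
      (@Subsingleton.elim _ h _ _)
    refine ⟨Y, g, y, hy, ?_⟩
    have e1 : (F.obj.map g.op).hom 1 = 1 := map_one _
    have e0 : (F.obj.map g.op).hom 0 = 0 := map_zero _
    rw [← e1, ← e0]
    exact hg
  · rintro ⟨Y, g, y, hy, h⟩
    have h3 : (ptG hX p hp).toPresheafFiber Y y F.obj (1 : ↥(F.obj.obj (op Y))) = 1 := map_one _
    have h4 : (ptG hX p hp).toPresheafFiber Y y F.obj (0 : ↥(F.obj.obj (op Y))) = 0 := map_zero _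
    rw [h] at h3
    have h5 : (0 : ↥(stalkEt p F)) = 1 := h4.symm.trans h3
    exact subsingleton_of_zero_eq_one h5

include hX in
theorem isClosed_support (F : EtSh X CommRingCat.{u + 1}) :
    IsClosed {x : Points X | ∃ p : FieldPt X, p.IsGeometric ∧ Points.mk p = x ∧ Nontrivial ↥(stalkEt p F)} := by
  rw [← isOpen_compl_iff, isOpen_iff_mem_nhds]
  intro x hx
  obtain ⟨U, a, ha, ha'⟩ := hX.atlas
  obtain ⟨u, hu⟩ := ofPt_surjective ha' x
  let E : EtOver X := EtOver.mk a ha
  have h1 : ¬ Nontrivial ↥(stalkEt (geomPt E u) F) := fun h =>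
    hx ⟨geomPt E u, isGeometric_geomPt E u, (mk_geomPt E u).trans hu, h⟩
  obtain ⟨Y, g, y, hy, h10⟩ := (not_nontrivial_iff hX F _ (isGeometric_geomPt E u) E (geomFib E u)).1 h1
  have h2 : IsOpen (Set.range (Points.ofPt Y.obj.hom)) := (isOpenMap_ofPt Y.property).isOpen_range
  refine Filter.mem_of_superset (h2.mem_nhds ?_) ?_
  · refine ⟨y.1.left (IsLocalRing.closedPoint _), ?_⟩
    rw [ofPt_nbhd, mk_geomPt]
    exact hu
  · rintro _ ⟨w, rfl⟩ ⟨p, hp, hpw, hnt⟩
    have : IsAlgClosed p.K := hp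
    obtain ⟨l, hl, -⟩ := exists_lift Y.property p inferInstance w hpw.symm
    exact (not_nontrivial_iff hX F p hp Y ⟨l, hl⟩).2 ⟨Y, 𝟙 Y, ⟨l, hl⟩, by simp, h10⟩ hnt

end K613.Supp
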