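import Groth.Agent.AlgSp.K611.AbStalk

/-!
# Supports of abelian sheaves: epimorphisms and monomorphisms
-/

set_option autoImplicit false
universe u
open CategoryTheory CategoryTheory.Limits AlgebraicGeometry Opposite Topology TopologicalSpace
open AlgSp K611

set_option backward.isDefEq.respectTransparency false

namespace K613.Supp

variable {S : Scheme.{u}} {X : Sp S} (hX : IsAlgSpace X)

include hX in
theorem isZero_of_epi {F G : AbEt X} (a : F ⟶ G) [Epi a] (p : FieldPt X) (hp : p.IsGeometric)
    (h : IsZero (stalkEt p F)) : IsZero (stalkEt p G) := by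
  have : IsAlgClosed p.K := hp
  have h0 := (exact_stalkEtFunctor_ab p hX).2
  have h1 : Epi ((stalkEtFunctor AddCommGrpCat.{u + 1} p).map a) := inferInstance
  exact IsZero.of_epi (X := (stalkEtFunctor AddCommGrpCat.{u + 1} p).obj F)
    ((stalkEtFunctor AddCommGrpCat.{u + 1} p).map a) h

include hX in
theorem isZero_of_mono {F G : AbEt X} (a : F ⟶ G) [Mono a] (p : FieldPt X) (hp : p.IsGeometric)
    (h : IsZero (stalkEt p G)) : IsZero (stalkEt p F) := by
  have : IsAlgClosed p.K := hp
  have h0 := (exact_stalkEtFunctor_ab p hX).1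
  have h1 : Mono ((stalkEtFunctor AddCommGrpCat.{u + 1} p).map a) := inferInstance
  exact IsZero.of_mono (Y := (stalkEtFunctor AddCommGrpCat.{u + 1} p).obj G)
    ((stalkEtFunctor AddCommGrpCat.{u + 1} p).map a) h

end K613.Supp
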